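import Cfsg.Agent.OddHalf.D7Out.FrontCyc
import Cfsg.Agent.OddHalf.D7TwF4.Defs
import Cfsg.Agent.OddHalf.D7.Cases
import Cfsg.Agent.KFacts.TwF4.OutTwo
import Cfsg.Agent.KFacts.TwF4.Perf
import Cfsg.Agent.Schreier.TwFFour
import Cfsg.Agent.S1072
import Cfsg.Agent.KFacts.TwF4.AutNorm

-- merged: Cfsg.Agent.OddHalf.D7TwF4.Front
section

/-!
# ODD D7, `K = ²F₄(q)`, `q ≥ 8`: the front (helper841)

* `kf` : the frame facts `FrGen.KF U Z_4`; `cycOut` : `|Out K|` is odd, in the form `CycOut`;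
* `Out` : the output of the front; `front_of` (over `S : Full σ Y`, `e : Y ≃* K`), `front` (from `Ctx`, `Std`, `Cyc` and
  the model);
* `pos` : the literal `Defs.Pos`, from the form `AF` of the automorphisms centralising `Z_4`.
-/

set_option autoImplicit false
set_option linter.unusedSectionVars false

namespace Cfsg.Agent.OddHalf.D7TwF4.Front

open Cfsg.Agent.SplitTwo Cfsg.Agent.SplitTwo.ZS Cfsg.Agent.TitsThree.RankTwoZ Cfsg.Agent.SplitTwo.RootSysZ
open Cfsg.Agent.KFacts.TwF4 Cfsg.Agent.KFacts.TwF4.Arc Cfsg.Agent.KFacts.TwF4.Inv Cfsg.Agent.KFacts.TwF4.SylU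
open Cfsg.Agent.KFacts.TwF4.Perf Cfsg.Agent.OddHalf.D7Out Cfsg.Agent.OddHalf.D7Out.Defs Cfsg.Agent.OddHalf.D7TwF4.Defs
open scoped commutatorElement

universe u v w

section KF

variable {F : Type w} [Field F] {σ : F →+* F} {Y : Type u} [Group Y] (S : Full σ Y) [Finite F] [Finite Y]

/-- the facts on `Y` used below -/
structure YHyp (S : Full σ Y) : Prop where
  card : ∃ m : ℕ, Nat.card F = 2 ^ (2 * m + 1)
  big : ∃ c : Fˣ, c ≠ 1
  two : S.R.p = 2

variable {S} (H : YHyp S)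

include H

/-- **The frame facts.** -/
theorem kf : FrGen.KF (J S.XZ 1 8) (S.Zc 2) := by
  have hfact : Fact (Nat.Prime 2) := ⟨Nat.prime_two⟩
  obtain ⟨m, hm⟩ := H.card
  obtain ⟨P, hP⟩ := exists_sylow S H.big H.two
  have hZQ : S.Zc 2 ≤ J S.XZ 1 8 := by
    rintro _ ⟨v, rfl⟩
    exact J_mono (a := 1) (b := 7) le_rfl (by norm_num) (OutTwo.e4_mem_Q S v)
  have htr : ∀ z ∈ S.Zc 2, ∀ z' ∈ S.Zc 2, z ≠ 1 → z' ≠ 1 → ∃ k : Y, k * z * k⁻¹ = z' := by
    rintro _ ⟨u, rfl⟩ _ ⟨v, rfl⟩ h1 h2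
    obtain ⟨k, -, hk⟩ := S.T_trans (u := u) (v := v) (fun h => h1 (by rw [h, S.e_zero])) (fun h => h2 (by rw [h, S.e_zero]))
    exact ⟨k, hk⟩
  refine ⟨⟨by rw [← hP]; exact P.isPGroup', ?_, hZQ, ?_, ?_, ?_, ?_, ?_⟩, htr⟩
  · intro P' hP' hle
    have h1 := P.is_maximal' hP' (by rw [hP]; exact hle)
    rw [h1, hP]
  · intro z hz u hu
    exact S.comm_PL (J_mono (by norm_num) le_rfl hu) hz
  · rintro _ ⟨u, rfl⟩
    exact z_sq S 2 u
  · intro h
    have h1 : S.e 2 0 1 ∈ S.Zc 2 := ⟨1, rfl⟩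
    rw [h, Subgroup.mem_bot] at h1
    exact one_ne_zero (S.e_eq_one h1).2
  · rintro α ⟨n, hn⟩ hα
    exact OutTwo.aut_Zc S hm H.big H.two hn hα
  · intro z hz
    refine ⟨S.PL, PL_perfect S H.big, J_mono (by norm_num) le_rfl (hZQ hz), fun y hy => S.comm_PL hy hz⟩

/-- `|Out Y|` is odd -/
theorem cycOut : TwChoice.CycOut Y := by
  obtain ⟨m, hm⟩ := H.card
  intro A hA
  refine ⟨1, one_mem _, fun β hβ => ?_⟩
  obtain ⟨n, hn⟩ := hA ⟨β, hβ⟩
  obtain ⟨x, hx⟩ := OutTwo.inner S hm H.big H.two (α := β) (n := n) (congrArg Subtype.val hn)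
  exact ⟨0, x, by rw [zpow_zero, one_mul, hx]⟩

end KF

section InG

variable {F : Type w} [Field F] {σ : F →+* F} {Y : Type u} [Group Y] {S : Full σ Y}
variable {G : Type v} [Group G] {K : Subgroup G} {t q : G}

/-- the embedding of `Y ≅ K` in `G` -/
def emb (e : Y ≃* ↥K) : Y →* G := K.subtype.comp e.toMonoidHom

theorem emb_injective (e : Y ≃* ↥K) : Function.Injective (emb e) := fun _ _ h =>
  e.injective (Subtype.ext h)

theorem emb_mem (e : Y ≃* ↥K) (y : Y) : emb e y ∈ K := (e y).2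

theorem exists_emb (e : Y ≃* ↥K) {x : G} (hx : x ∈ K) : ∃ y, emb e y = x :=
  ⟨e.symm ⟨x, hx⟩, by show ((e (e.symm ⟨x, hx⟩) : ↥K) : G) = x; rw [e.apply_symm_apply]⟩

/-- the output of the front: `FrontCyc.Out`, the facts on `P = C(t, z)^∞ = PL` and `T = ⟨t⟩ × U` -/
structure Out (S : Full σ Y) (i : Y →* G) (t : G) (K T : Subgroup G) (n z : G) : Prop extends
    FrontCyc.Out t K ((J S.XZ 1 8).map i) ((S.Zc 2).map i) T n z where
  T_eq : T = TT S i t
  /-- 2-elements of `C(t)` lie in `⟨t⟩ × K` -/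
  mem : ∀ x : G, x * t = t * x → (∃ k : ℕ, x ^ 2 ^ k = 1) → ∃ y, x = i y ∨ x = t * i y
  /-- `n` normalises `P` and `Z_4` -/
  nP : ∀ p, n * p * n⁻¹ ∈ S.PL.map i ↔ p ∈ S.PL.map i
  nZ : ∀ p ∈ (S.Zc 2).map i, n * p * n⁻¹ ∈ (S.Zc 2).map i
  nZ' : ∀ p ∈ (S.Zc 2).map i, n⁻¹ * p * n ∈ (S.Zc 2).map i
  /-- `P` is the perfect residual of `C(t, y)`, `1 ≠ y ∈ Z_4` -/
  max : ∀ y ∈ (S.Zc 2).map i, y ≠ 1 → ∀ L : Subgroup G, ⁅L, L⁆ = L → (∀ x ∈ L, x * t = t * x) →
    (∀ x ∈ L, x * y = y * x) → L ≤ S.PL.map i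

/-- **The front.** -/
theorem front_of [Finite G] [Finite F] (hG : commutator G = ⊤) (St : Front.FE.Start K t q)
    (hs : Cfsg.Agent.Schreier.Basic.Sch ↥K) (e : Y ≃* ↥K) (H : YHyp S) :
    q = t ∧ ∃ (T : Subgroup G) (m z : G), Out S (emb e) t K T m z := by
  have : Finite Y := Finite.of_injective _ (emb_injective e)
  obtain ⟨hv, T, m, z, hO⟩ := FrontCyc.front hG St ((kf H).map e) hs ((cycOut H).of_equiv e)
  subst hv
  rw [Subgroup.map_map, Subgroup.map_map] at hO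
  change FrontCyc.Out q K ((J S.XZ 1 8).map (emb e)) ((S.Zc 2).map (emb e)) T m z at hO
  have hsw := hO.sw
  have hfr := hO.fr
  have hKt : ∀ y, q * emb e y = emb e y * q := fun y => (St.toStart0.Kt _ (emb_mem e y)).symm
  have hZP : (S.Zc 2).map (emb e) ≤ S.PL.map (emb e) := by
    refine Subgroup.map_mono ?_
    rintro _ ⟨v, rfl⟩
    exact J_mono (a := 1) (b := 7) (by norm_num) (by norm_num) (OutTwo.e4_mem_Q S v)
  have hPZ : ∀ p ∈ S.PL.map (emb e), ∀ y ∈ (S.Zc 2).map (emb e), p * y = y * p := by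
    rintro _ ⟨p, hp, rfl⟩ _ ⟨y, hy, rfl⟩
    rw [← map_mul, ← map_mul, S.comm_PL hp hy]
  have hmax : ∀ y ∈ (S.Zc 2).map (emb e), y ≠ 1 → ∀ L : Subgroup G, ⁅L, L⁆ = L → (∀ x ∈ L, x * q = q * x) →
      (∀ x ∈ L, x * y = y * x) → L ≤ S.PL.map (emb e) := by
    rintro _ ⟨y, hy, rfl⟩ hy1 L hL hLt hLz x hx
    have hLK : L ≤ K := FrGen.perf_le St.toStart0 hs hLt hL
    obtain ⟨x', rfl⟩ := exists_emb e (hLK hx)
    refine ⟨x', ?_, rfl⟩
    show x' ∈ S.PL
    rw [← S.centralizer_z hy (fun h => hy1 (by rw [h, map_one])), Subgroup.mem_centralizer_singleton_iff]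
    apply emb_injective e
    rw [map_mul, map_mul]
    exact hLz _ hx
  have hperf : ⁅S.PL.map (emb e), S.PL.map (emb e)⁆ = S.PL.map (emb e) := by
    rw [← Subgroup.map_commutator, PL_perfect S H.big]
  have hPt : ∀ p ∈ S.PL.map (emb e), p * q = q * p := by
    rintro _ ⟨p, -, rfl⟩
    exact (hKt p).symm
  have hnP := hsw.conj_P hperf hPt (fun p hp => hPZ p hp z hsw.zZ) (hmax z hsw.zZ hsw.z1)
  have hcP : ∀ g ∈ S.PL.map (emb e), (∀ p ∈ S.PL.map (emb e), p * g = g * p) → g ∈ (S.Zc 2).map (emb e) := by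
    rintro _ ⟨g, hg, rfl⟩ hcg
    refine ⟨g, ?_, rfl⟩
    show g ∈ S.Zc 2
    rw [← S.centralizer_Q, Subgroup.mem_centralizer_iff]
    intro x hx
    apply emb_injective e
    rw [map_mul, map_mul]
    exact hcg _ ⟨x, J_mono (a := 1) (b := 7) (by norm_num) (by norm_num) hx, rfl⟩
  have hnZ := FrontN.Swap.conj_Z hnP hZP (fun z hz p hp => hPZ p hp z hz) hcP
  -- 2-elements
  have hqq : q * q = 1 := St.tt
  have hzq : ∀ c ∈ Subgroup.zpowers q, c = 1 ∨ c = q := by
    intro c hc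
    obtain ⟨j, rfl⟩ := Subgroup.mem_zpowers_iff.1 hc
    obtain ⟨j, rfl | rfl⟩ := Int.even_or_odd' j
    · left
      rw [zpow_mul, show q ^ (2 : ℤ) = q * q by rw [zpow_two], hqq, one_zpow]
    · right
      rw [zpow_add, zpow_mul, show q ^ (2 : ℤ) = q * q by rw [zpow_two], hqq, one_zpow, one_mul, zpow_one]
  have hmem : ∀ x : G, x * q = q * x → (∃ k : ℕ, x ^ 2 ^ k = 1) → ∃ y, x = emb e y ∨ x = q * emb e y := by
    rintro x hx ⟨k, hk⟩
    obtain ⟨m', hm'⟩ := H.card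
    have hxK := St.nK x hx
    -- the automorphism induced by `x`
    have hα : (FrGen.cjK hxK) ^ 2 ^ k = 1 := by
      apply MulEquiv.ext
      intro y
      apply Subtype.ext
      rw [FrGen.cjK_pow, hk]
      show 1 * (y : G) * 1⁻¹ = y
      group
    let β : MulAut Y := MulAut.congr e.symm (FrGen.cjK hxK)
    have hβ : ∀ y, emb e (β y) = x * emb e y * x⁻¹ := by
      intro y
      show ((e (e.symm ((FrGen.cjK hxK) (e.symm.symm y))) : ↥K) : G) = _
      rw [e.apply_symm_apply]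
      rfl
    obtain ⟨y, hy⟩ := OutTwo.inner S hm' H.big H.two (α := β) (n := k) (by
      show (MulAut.congr e.symm (FrGen.cjK hxK)) ^ 2 ^ k = 1
      rw [← map_pow, hα, map_one])
    have hc : (emb e y)⁻¹ * x ∈ Subgroup.zpowers q := by
      apply St.cK
      · calc (emb e y)⁻¹ * x * q = (emb e y)⁻¹ * (q * x) := by rw [mul_assoc, hx]
          _ = ((emb e y)⁻¹ * q) * x := by rw [mul_assoc]
          _ = (q * (emb e y)⁻¹) * x := by
            have h1 := hKt y⁻¹
            rw [map_inv] at h1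
            rw [h1]
          _ = _ := by rw [mul_assoc]
      · intro w hw
        obtain ⟨w, rfl⟩ := exists_emb e hw
        have h1 := hβ w
        rw [hy, MulAut.conj_apply, map_mul, map_mul, map_inv] at h1
        calc emb e w * ((emb e y)⁻¹ * x) = (emb e y)⁻¹ * (emb e y * emb e w * (emb e y)⁻¹) * x := by group
          _ = (emb e y)⁻¹ * (x * emb e w * x⁻¹) * x := by rw [h1]
          _ = _ := by group
    refine ⟨y, ?_⟩
    have e1 : x = emb e y * ((emb e y)⁻¹ * x) := by group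
    rcases hzq _ hc with h | h
    · left
      rw [h, mul_one] at e1
      exact e1
    · right
      rw [h, ← hKt] at e1
      exact e1
  have hqT : q ∈ T := hfr.vT
  have hUT : (J S.XZ 1 8).map (emb e) ≤ T := by rw [hfr.U_eq]; exact inf_le_left
  have hT : T = TT S (emb e) q := by
    apply le_antisymm
    · intro x hx
      obtain ⟨k, hk⟩ := hfr.pT ⟨x, hx⟩
      obtain ⟨y, h | h⟩ := hmem x (hfr.tc x hx) ⟨k, congrArg Subtype.val hk⟩
      · refine Subgroup.mem_sup_right ?_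
        show x ∈ (J S.XZ 1 8).map (emb e)
        rw [hfr.U_eq]
        exact ⟨hx, by rw [h]; exact emb_mem e y⟩
      · have h1 : emb e y ∈ (J S.XZ 1 8).map (emb e) := by
          rw [hfr.U_eq]
          refine ⟨?_, emb_mem e y⟩
          have e1 : emb e y = q * x := by rw [h, ← mul_assoc, hqq, one_mul]
          rw [e1]
          exact mul_mem hqT hx
        rw [h]
        exact mul_mem (Subgroup.mem_sup_left (Subgroup.mem_zpowers q)) (Subgroup.mem_sup_right h1)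
    · exact sup_le ((Subgroup.zpowers_le).2 hqT) hUT
  have hnZ' : ∀ p ∈ (S.Zc 2).map (emb e), m⁻¹ * p * m ∈ (S.Zc 2).map (emb e) := by
    have h1 : ((S.Zc 2).map (emb e)).map (MulAut.conj m).toMonoidHom = (S.Zc 2).map (emb e) := by
      refine Subgroup.eq_of_le_of_card_ge ?_ ?_
      · rintro _ ⟨p, hp, rfl⟩
        exact hnZ p hp
      · exact (Nat.card_congr (((S.Zc 2).map (emb e)).equivMapOfInjective _ (MulAut.conj m).injective).toEquiv).le
    intro p hp
    rw [← h1] at hp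
    obtain ⟨p', hp', rfl⟩ := hp
    have e1 : m⁻¹ * (MulAut.conj m).toMonoidHom p' * m = p' := by
      show m⁻¹ * (m * p' * m⁻¹) * m = p'
      group
    rw [e1]
    exact hp'
  exact ⟨rfl, T, m, z, ⟨hO, hT, hmem, hnP, hnZ, hnZ', hmax⟩⟩

/-- the automorphisms that centralise `Z_4` are inner -/
def AF (S : Full σ Y) : Prop := ∀ α : MulAut Y, (∀ z ∈ S.Zc 2, α z = z) → ∃ x : Y, ∀ y, α y = x * y * x⁻¹

/-- **The position.** -/
theorem pos [Finite G] [Finite F] (hF8 : 8 ≤ Nat.card F) (hG : commutator G = ⊤) (St : Front.FE.Start K t t) (e : Y ≃* ↥K)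
    (hgen : ∀ L : Subgroup Y, (∀ a x, S.o a x ∈ L) → (∀ a p u, S.e a p u ∈ L) → L = ⊤) (hAF : AF S)
    {T : Subgroup G} {n z : G} (O : Out S (emb e) t K T n z) : Pos S (emb e) t := by
  have hfr := O.fr
  have hsw := O.sw
  have hKt : ∀ y, t * emb e y = emb e y * t := fun y => (St.toStart0.Kt _ (emb_mem e y)).symm
  have hzq : ∀ c ∈ Subgroup.zpowers t, c = 1 ∨ c = t := by
    intro c hc
    obtain ⟨j, rfl⟩ := Subgroup.mem_zpowers_iff.1 hc
    obtain ⟨j, rfl | rfl⟩ := Int.even_or_odd' j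
    · left
      rw [zpow_mul, show t ^ (2 : ℤ) = t * t by rw [zpow_two], St.tt, one_zpow]
    · right
      rw [zpow_add, zpow_mul, show t ^ (2 : ℤ) = t * t by rw [zpow_two], St.tt, one_zpow, one_mul, zpow_one]
  have hnK : ∀ c : G, c * t = t * c → ∀ y : Y, ∃ y' : Y, c * emb e y * c⁻¹ = emb e y' := by
    intro c hc y
    obtain ⟨y', hy'⟩ := exists_emb e ((Subgroup.mem_normalizer_iff.1 (St.nK c hc) _).1 (emb_mem e y))
    exact ⟨y', hy'.symm⟩
  refine
    { finG := inferInstance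
      finF := inferInstance
      big := hF8
      inj := emb_injective e
      tt := St.tt
      t1 := St.t1
      ti := hKt
      tY := fun y h => ?_
      nK := hnK
      cZ := ?_
      gen := hgen
      perf := hG
      pT := by rw [← O.T_eq]; exact hfr.pT
      max := by rw [← O.T_eq]; exact hfr.max
      fus := ?_ }
  · refine St.t1 (St.cen t ?_ fun y hy => St.toStart0.Kt y hy)
    rw [← h]
    exact emb_mem e y
  · intro c hct hcZ
    have hcN := St.nK c hct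
    let β : MulAut Y := MulAut.congr e.symm (FrGen.cjK hcN)
    have hβ : ∀ y, emb e (β y) = c * emb e y * c⁻¹ := by
      intro y
      show ((e (e.symm ((FrGen.cjK hcN) (e.symm.symm y))) : ↥K) : G) = _
      rw [e.apply_symm_apply]
      rfl
    obtain ⟨y, hy⟩ := hAF β (by
      intro z hz
      apply emb_injective e
      rw [hβ, hcZ z hz, mul_inv_cancel_right])
    have hc : (emb e y)⁻¹ * c ∈ Subgroup.zpowers t := by
      apply St.cK
      · calc (emb e y)⁻¹ * c * t = (emb e y)⁻¹ * (t * c) := by rw [mul_assoc, hct]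
          _ = ((emb e y)⁻¹ * t) * c := by rw [mul_assoc]
          _ = (t * (emb e y)⁻¹) * c := by
            have h1 := hKt y⁻¹
            rw [map_inv] at h1
            rw [h1]
          _ = _ := by rw [mul_assoc]
      · intro w hw
        obtain ⟨w, rfl⟩ := exists_emb e hw
        have h1 := hβ w
        rw [hy, map_mul, map_mul, map_inv] at h1
        calc emb e w * ((emb e y)⁻¹ * c) = (emb e y)⁻¹ * (emb e y * emb e w * (emb e y)⁻¹) * c := by group
          _ = (emb e y)⁻¹ * (c * emb e w * c⁻¹) * c := by rw [h1]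
          _ = _ := by group
    refine ⟨y, ?_⟩
    have e1 : c = emb e y * ((emb e y)⁻¹ * c) := by group
    rcases hzq _ hc with h | h
    · left
      rw [h, mul_one] at e1
      exact e1
    · right
      rw [h, ← hKt] at e1
      exact e1
  · refine ⟨n, by rw [← O.T_eq]; exact hsw.nN, ?_, ?_, ?_, ?_⟩
    · rw [hsw.nt]
      intro h
      exact hsw.z1 (mul_eq_left.1 h)
    · obtain ⟨z', hz', e'⟩ := hsw.zZ
      exact ⟨z', hz', by rw [e']; exact hsw.nt⟩
    · intro z hz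
      obtain ⟨z', hz', e'⟩ := O.nZ _ ⟨z, hz, rfl⟩
      exact ⟨z', hz', e'.symm⟩
    · intro z hz
      obtain ⟨z', hz', e'⟩ := O.nZ' _ ⟨z, hz, rfl⟩
      exact ⟨z', hz', e'.symm⟩

end InG

/-! ### The model -/

section Model

open Cfsg.Lie Cfsg.Agent.OddHalf.Iface Cfsg.Agent.KFacts.TwF4.Inst
open Cfsg.Agent.ChevalleyStructure.TwF4.TwistedFix

variable {F : Type w} [Field F] [Fintype F] {m : ℕ}

theorem yhyp [CharP F 2] (hm : 1 ≤ m) (hF : Fintype.card F = 2 ^ (2 * m + 1)) {φ : F →+* F} (hφ : Rln φ (2 ^ m)) :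
    YHyp (full hF hφ) where
  card := ⟨m, by rw [Nat.card_eq_fintype_card, hF]⟩
  big := by
    have h1 : 1 < Nat.card Fˣ := by
      rw [Nat.card_units, Nat.card_eq_fintype_card, hF]
      have : 2 ^ 3 ≤ 2 ^ (2 * m + 1) := Nat.pow_le_pow_right (by norm_num) (by omega)
      omega
    have h2 : Nontrivial Fˣ := Finite.one_lt_card_iff_nontrivial.1 h1
    exact exists_ne 1
  two := rfl

theorem big_card (hm : 1 ≤ m) (hF : Fintype.card F = 2 ^ (2 * m + 1)) : 8 ≤ Nat.card F := by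
  rw [Nat.card_eq_fintype_card, hF]
  have : 2 ^ 3 ≤ 2 ^ (2 * m + 1) := Nat.pow_le_pow_right (by norm_num) (by omega)
  omega

/-- a group of type `²F₄` is generated by its root elements -/
theorem gen {F : Type w} [Field F] {σ : F →+* F} {Y : Type u} [Group Y] (S : Full σ Y) (L : Subgroup Y)
    (h1 : ∀ a x, S.o a x ∈ L) (h2 : ∀ a p u, S.e a p u ∈ L) : L = ⊤ := by
  have h : ∀ k : ℤ, S.XZ k ≤ L := by
    intro k x hx
    obtain ⟨a, rfl | rfl⟩ := Int.even_or_odd' k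
    · obtain ⟨p, u, rfl⟩ := (S.mem_XZ_even a x).1 hx
      exact h2 _ p u
    · obtain ⟨t, rfl⟩ := (S.mem_XZ_odd a x).1 hx
      exact h1 _ t
  exact eq_top_of S (h 0) (h 1) (h 8) (h 9)

/-- `AF` from the form of the automorphisms -/
theorem af_of {F : Type w} [Field F] [Finite F] {σ : F →+* F} {Y : Type u} [Group Y] (S : Full σ Y)
    (h : ∀ α : MulAut Y, ∃ (k : Y) (τ : F ≃+* F), (∀ a t, α (S.o a t) = k * S.o a (τ t) * k⁻¹) ∧
      ∀ a p u, α (S.e a p u) = k * S.e a (τ p) (τ u) * k⁻¹) : AF S := by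
  intro α hα
  obtain ⟨k, τ, h1, h2⟩ := h α
  have hz : ∀ u, k * S.e 2 0 (τ u) * k⁻¹ = S.e 2 0 u := by
    intro u
    have h3 := h2 2 0 u
    rw [hα _ ⟨u, rfl⟩, map_zero] at h3
    exact h3.symm
  have hk : k ∈ S.PL := by
    rw [← S.centralizer_z ⟨1, rfl⟩ (fun h => one_ne_zero (S.e_eq_one h).2), Subgroup.mem_centralizer_singleton_iff]
    have h3 := hz 1
    rw [map_one] at h3
    calc k * S.e 2 0 1 = (k * S.e 2 0 1 * k⁻¹) * k := by group
      _ = _ := by rw [h3]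
  have hτ : ∀ u, τ u = u := by
    intro u
    have h3 := hz u
    rw [S.comm_PL hk ⟨_, rfl⟩, mul_inv_cancel_right] at h3
    exact (S.injE 2 _ _ _ _ h3).2
  refine ⟨k, ?_⟩
  let L : Subgroup Y :=
    { carrier := {x | α x = k * x * k⁻¹}
      one_mem' := by
        show α 1 = k * 1 * k⁻¹
        rw [map_one]; group
      mul_mem' := fun {x y} (hx : α x = k * x * k⁻¹) (hy : α y = k * y * k⁻¹) => by
        show α (x * y) = k * (x * y) * k⁻¹
        rw [map_mul, hx, hy]; group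
      inv_mem' := fun {x} (hx : α x = k * x * k⁻¹) => by
        show α x⁻¹ = k * x⁻¹ * k⁻¹
        rw [map_inv, hx]; group }
  have hL : L = ⊤ := by
    refine gen S L (fun a x => ?_) (fun a p u => ?_)
    · show α _ = _
      rw [h1, hτ]
    · show α _ = _
      rw [h2, hτ, hτ]
  intro y
  have hy : y ∈ L := by rw [hL]; exact Subgroup.mem_top y
  exact hy

/-- **The front for `K ≅ ²F₄(q)`**, `q ≥ 8`. -/
theorem front {G : Type v} [Group G] (C : Ctx G) {K : Subgroup G} (St : Std G K) (hcyc : Cyc K) [CharP F 2]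
    (hm : 1 ≤ m) (hF : Fintype.card F = 2 ^ (2 * m + 1)) {φ : F →+* F} (hφ : Rln φ (2 ^ m))
    (e : ↥(twistedF4 F (2 ^ m)) ≃* ↥K) :
    ∃ (t : G) (T : Subgroup G) (n z : G), Cfsg.Agent.OddHalf.Front.FE.Start K t t ∧
      Out (full hF hφ) (emb e) t K T n z := by
  have := C.fin
  obtain ⟨h1, h2⟩ := Cfsg.Agent.S1072.result (K := F) hm hF
  have hcen : Subgroup.center ↥K = ⊥ := by
    have h3 : IsSimpleGroup ↥K := e.symm.isSimpleGroup
    rcases (inferInstance : (Subgroup.center ↥K).Normal).eq_bot_or_eq_top with h | h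
    · exact h
    · exfalso
      apply h2
      refine ⟨⟨fun a b => e.injective ?_⟩⟩
      rw [map_mul, map_mul]
      have : e a ∈ Subgroup.center ↥K := by rw [h]; exact Subgroup.mem_top _
      exact (Subgroup.mem_center_iff.1 this _).symm
  obtain ⟨t, q, h⟩ := Cfsg.Agent.OddHalf.Front.FE.exists_start C St hcyc hcen
  obtain ⟨hv, T, n, z, hT⟩ := front_of (Cfsg.Agent.OddHalf.Front.FE.commutator_eq_top C) h
    ((Cfsg.Agent.Schreier.TwFFour.sch hF).of_equiv e) e (yhyp hm hF hφ)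
  subst hv
  exact ⟨q, T, n, z, h, hT⟩

/-- **The position for `K ≅ ²F₄(q)`**, `q ≥ 8`, from the form of the automorphisms of `K`. -/
theorem exists_pos {G : Type v} [Group G] (C : Ctx G) {K : Subgroup G} (St : Std G K) (hcyc : Cyc K) [CharP F 2]
    (hm : 1 ≤ m) (hF : Fintype.card F = 2 ^ (2 * m + 1)) {φ : F →+* F} (hφ : Rln φ (2 ^ m))
    (e : ↥(twistedF4 F (2 ^ m)) ≃* ↥K) (hAF : AF (full hF hφ)) :
    ∃ (t : G) (T : Subgroup G) (n z : G), Cfsg.Agent.OddHalf.Front.FE.Start K t t ∧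
      Out (full hF hφ) (emb e) t K T n z ∧ Pos (full hF hφ) (emb e) t := by
  have := C.fin
  obtain ⟨t, T, n, z, h, hO⟩ := front C St hcyc hm hF hφ e
  exact ⟨t, T, n, z, h, hO, pos (big_card hm hF) (Cfsg.Agent.OddHalf.Front.FE.commutator_eq_top C) h e
    (gen _) hAF hO⟩

end Model

end Cfsg.Agent.OddHalf.D7TwF4.Front

end

-- merged: Cfsg.Agent.OddHalf.D7TwF4.FrontFin
section

/-!
# ODD D7, `K = ²F₄(q)`, `q ≥ 8`: the position (helper841)

`exists_pos` : from `Ctx`, `Std`, `Cyc` and `Fam2F4 K` to the literal `Defs.Pos`. `exists_front` : the same with the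
output of the front, the model and the isomorphism.
-/

set_option autoImplicit false
set_option linter.unusedSectionVars false

namespace Cfsg.Agent.OddHalf.D7TwF4.FrontFin

open Cfsg.Agent.SplitTwo Cfsg.Agent.SplitTwo.ZS Cfsg.Agent.SplitTwo.RootSysZ
open Cfsg.Agent.KFacts.TwF4 Cfsg.Agent.KFacts.TwF4.Inst
open Cfsg.Agent.OddHalf.Iface Cfsg.Agent.OddHalf.D7.Cases
open Cfsg.Agent.OddHalf.D7TwF4.Defs Cfsg.Agent.OddHalf.D7TwF4.Front
open Cfsg.Agent.ChevalleyStructure.TwF4.TwistedFix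

universe u v w

/-- the automorphisms centralising `Z_4` are inner -/
theorem af {F : Type w} [Field F] [Finite F] {σ : F →+* F} {Y : Type u} [Group Y] [Finite Y] {S : Full σ Y}
    (hF : ∃ c : Fˣ, c ≠ 1) (hR : S.R.p = 2) : AF S := by
  intro α hα
  obtain ⟨k, -, hk⟩ := AutNorm.inner_of_Z4 S hF hR hα
  exact ⟨k, hk⟩

/-- **The front for `K ≅ ²F₄(q)`**: the model, the isomorphism, the output of the front and the position. -/
theorem exists_front {G : Type v} [Group G] (C : Ctx G) {K : Subgroup G} (Sd : Std G K) (hc : Cyc K)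
    (hF : Fam2F4 ↥K) : ∃ (F : Type) (_ : Field F) (σ : F →+* F) (Y : Type) (_ : Group Y) (S : Full σ Y)
      (e : Y ≃* ↥K) (t : G) (T : Subgroup G) (n z : G), (∃ m : ℕ, 1 ≤ m ∧ Nat.card F = 2 ^ (2 * m + 1)) ∧
      YHyp S ∧ Cfsg.Agent.OddHalf.Front.FE.Start K t t ∧ Out S (emb e) t K T n z ∧ Pos S (emb e) t := by
  obtain ⟨F, _, _, m, hm, hK, ⟨e⟩⟩ := hF
  have hchar := Cfsg.Agent.ChevalleyStructure.TwF4.Twisted.charP_two hK
  obtain ⟨φ, hφ⟩ := exists_rln hK
  have := C.fin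
  have hfin : Finite ↥(Cfsg.Lie.twistedF4 F (2 ^ m)) := Finite.of_injective _ e.symm.injective
  have hy := yhyp hm hK hφ
  obtain ⟨t, T, n, z, h1, h2, h3⟩ := exists_pos C Sd hc hm hK hφ e.symm (af hy.big hy.two)
  exact ⟨F, _, φ, _, _, full hK hφ, e.symm, t, T, n, z, ⟨m, hm, by rw [Nat.card_eq_fintype_card, hK]⟩, hy, h1, h2, h3⟩

/-- **The position for `K ≅ ²F₄(q)`.** -/
theorem exists_pos {G : Type v} [Group G] (C : Ctx G) {K : Subgroup G} (Sd : Std G K) (hc : Cyc K)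
    (hF : Fam2F4 ↥K) : ∃ (F : Type) (_ : Field F) (σ : F →+* F) (Y : Type) (_ : Group Y) (S : Full σ Y)
      (i : Y →* G) (t : G), Pos S i t := by
  obtain ⟨F, _, σ, Y, _, S, e, t, -, -, -, -, -, -, -, h⟩ := exists_front C Sd hc hF
  exact ⟨F, _, σ, Y, _, S, emb e, t, h⟩

end Cfsg.Agent.OddHalf.D7TwF4.FrontFin

end
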