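import Cfsg.Agent.OddHalf.D7TwF4.NEl
import Cfsg.Agent.OddHalf.D7TwF4.Defs
import Cfsg.Agent.KFacts.TwF4.CentR

-- merged: Cfsg.Agent.OddHalf.D7TwF4.CKill
section

/-!
# D7, `K = ²F₄(q)`: section 1.4, the constant `c` of an element `n` is zero (helper853; text: helper544, bb ODD 13028)

* `NO_conj` : the action of `B0_5 = NO` on `X_4`;
* `phi_eq_zero` : `NEl 2 φ u n` for all `u` implies `φ = 0`;
* `exists_cent` : for every `u` some `n` centralising `P_4 = PL` has `t n t = n * i (e 2 0 u)`.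
-/

set_option autoImplicit false
set_option linter.unusedSectionVars false

namespace Cfsg.Agent.OddHalf.D7TwF4.CKill

open Cfsg.Agent.KFacts.TwF4 Cfsg.Agent.SplitTwo.ZS Cfsg.Agent.OddHalf.D7TwF4.Defs

universe u v w

variable {F : Type w} [Field F] {σ : F →+* F} {Y : Type u} [Group Y] (S : Full σ Y)

/-- the action of `NO` on `X_4` -/
theorem NO_conj {y : Y} (hy : y ∈ S.NO) : ∃ b4 b6 b7 : F, ∀ p w,
    y⁻¹ * S.e 2 p w * y = S.e 2 p (w + b4 * σ p + p * σ b4) * S.o 2 (p * b6) * S.e 3 0 (p * b7) := by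
  obtain ⟨u, v, r, hr, rfl⟩ := S.mem_NO_iff.1 hy
  have Z := S.zsys8
  obtain ⟨x3, hx3, r4, hr4, rfl⟩ := Z.split_ll (by norm_num) (by norm_num) hr
  obtain ⟨x4, hx4, r5, hr5, rfl⟩ := Z.split_ll (by norm_num) (by norm_num) hr4
  obtain ⟨x5, hx5, r6, hr6, rfl⟩ := Z.split_ll (by norm_num) (by norm_num) hr5
  obtain ⟨x6, hx6, r7, hr7, rfl⟩ := Z.split_ll (by norm_num) (by norm_num) hr6
  have hx7 := mem_of_J_self hr7 (by norm_num)
  obtain ⟨b3, rfl⟩ := S.X3 (by simpa using hx3)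
  obtain ⟨b4, w4, rfl⟩ := S.X4 (by simpa using hx4)
  obtain ⟨b5, rfl⟩ := S.X5 (by simpa using hx5)
  obtain ⟨b6, w6, rfl⟩ := S.X6 (by simpa using hx6)
  obtain ⟨b7, rfl⟩ := S.X7 (by simpa using hx7)
  refine ⟨b4, b6, b7, fun p w => ?_⟩
  -- the moves `X * g = g * X'`
  have g1 : S.e 2 p w * S.e 1 0 u = S.e 1 0 u * S.e 2 p w := by
    have h : S.e 1 0 u * S.e 2 p w = S.e 2 p w * S.e 1 0 u * S.o 1 (0 * p) := S.e_e1 1 0 u p w
    rw [zero_mul, S.o_zero, mul_one] at h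
    exact h.symm
  have g2 : S.e 2 p w * S.o 1 b3 = S.o 1 b3 * S.e 2 p w := (S.o_e1 1 b3 p w).symm
  have g3 : S.e 2 p w * S.e 2 b4 w4 = S.e 2 b4 w4 * S.e 2 p (w + b4 * σ p + p * σ b4) := by
    rw [S.e_mul, S.e_mul, add_comm p b4]
    congr 1
    linear_combination (-(b4 * σ p)) * S.two
  have g4 : ∀ w', S.e 2 p w' * S.o 2 b5 = S.o 2 b5 * S.e 2 p w' := fun w' => S.e_o0 2 p w' b5
  have g5 : ∀ w', S.e 2 p w' * S.e 3 b6 w6 = S.e 3 b6 w6 * (S.e 2 p w' * S.o 2 (p * b6)) := fun w' => by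
    rw [← mul_assoc]; exact S.e_e1 2 p w' b6 w6
  have g6 : ∀ w', S.e 2 p w' * S.o 3 b7 = S.o 3 b7 * (S.e 2 p w' * S.e 3 0 (p * b7)) := fun w' => by
    rw [← mul_assoc]; exact S.e_o1 2 p w' b7
  have g6' : S.o 2 (p * b6) * S.o 3 b7 = S.o 3 b7 * S.o 2 (p * b6) := S.o_o1 2 _ _
  have g6'' : S.e 3 0 (p * b7) * S.o 2 (p * b6) = S.o 2 (p * b6) * S.e 3 0 (p * b7) := (S.o_e1 2 _ _ _).symm
  have g7 : ∀ w', S.e 2 p w' * S.e 4 0 v = S.e 4 0 v * S.e 2 p w' := fun w' => S.e_e2 2 p w' 0 v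
  have g7' : S.o 2 (p * b6) * S.e 4 0 v = S.e 4 0 v * S.o 2 (p * b6) := by
    have h : S.o 2 (p * b6) * S.e 4 0 v = S.e 4 0 v * S.o 2 (p * b6) * S.e 3 0 (p * b6 * 0) := S.o_e2 2 _ _ _
    rwa [mul_zero, S.e_zero, mul_one] at h
  have g7'' : S.e 3 0 (p * b7) * S.e 4 0 v = S.e 4 0 v * S.e 3 0 (p * b7) := by
    have h : S.e 3 0 (p * b7) * S.e 4 0 v = S.e 4 0 v * S.e 3 0 (p * b7) * S.o 3 (0 * 0) := S.e_e1 3 _ _ _ _
    rwa [zero_mul, S.o_zero, mul_one] at h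
  set w' := w + b4 * σ p + p * σ b4 with hw'
  have key : S.e 2 p w * (S.e 1 0 u * (S.o 1 b3 * (S.e 2 b4 w4 * (S.o 2 b5 * (S.e 3 b6 w6 * S.o 3 b7)))) * S.e 4 0 v)
      = (S.e 1 0 u * (S.o 1 b3 * (S.e 2 b4 w4 * (S.o 2 b5 * (S.e 3 b6 w6 * S.o 3 b7)))) * S.e 4 0 v) *
        (S.e 2 p w' * S.o 2 (p * b6) * S.e 3 0 (p * b7)) := by
    calc S.e 2 p w * (S.e 1 0 u * (S.o 1 b3 * (S.e 2 b4 w4 * (S.o 2 b5 * (S.e 3 b6 w6 * S.o 3 b7)))) * S.e 4 0 v)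
        = (S.e 2 p w * S.e 1 0 u) * (S.o 1 b3 * (S.e 2 b4 w4 * (S.o 2 b5 * (S.e 3 b6 w6 * S.o 3 b7)))) * S.e 4 0 v := by
          group
      _ = S.e 1 0 u * ((S.e 2 p w * S.o 1 b3) * (S.e 2 b4 w4 * (S.o 2 b5 * (S.e 3 b6 w6 * S.o 3 b7)))) * S.e 4 0 v := by
          rw [g1]; group
      _ = S.e 1 0 u * (S.o 1 b3 * ((S.e 2 p w * S.e 2 b4 w4) * (S.o 2 b5 * (S.e 3 b6 w6 * S.o 3 b7)))) * S.e 4 0 v := by
          rw [g2]; group
      _ = S.e 1 0 u * (S.o 1 b3 * (S.e 2 b4 w4 * ((S.e 2 p w' * S.o 2 b5) * (S.e 3 b6 w6 * S.o 3 b7)))) * S.e 4 0 v := by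
          rw [g3]; group
      _ = S.e 1 0 u * (S.o 1 b3 * (S.e 2 b4 w4 * (S.o 2 b5 * ((S.e 2 p w' * S.e 3 b6 w6) * S.o 3 b7)))) * S.e 4 0 v := by
          rw [g4]; group
      _ = S.e 1 0 u * (S.o 1 b3 * (S.e 2 b4 w4 * (S.o 2 b5 * (S.e 3 b6 w6 * (S.e 2 p w' *
            (S.o 2 (p * b6) * S.o 3 b7)))))) * S.e 4 0 v := by
          rw [g5]; group
      _ = S.e 1 0 u * (S.o 1 b3 * (S.e 2 b4 w4 * (S.o 2 b5 * (S.e 3 b6 w6 * ((S.e 2 p w' * S.o 3 b7) *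
            S.o 2 (p * b6)))))) * S.e 4 0 v := by
          rw [g6']; group
      _ = S.e 1 0 u * (S.o 1 b3 * (S.e 2 b4 w4 * (S.o 2 b5 * (S.e 3 b6 w6 * (S.o 3 b7 * (S.e 2 p w' *
            (S.e 3 0 (p * b7) * S.o 2 (p * b6)))))))) * S.e 4 0 v := by
          rw [g6]; group
      _ = S.e 1 0 u * (S.o 1 b3 * (S.e 2 b4 w4 * (S.o 2 b5 * (S.e 3 b6 w6 * S.o 3 b7)))) * (S.e 2 p w' *
            (S.o 2 (p * b6) * (S.e 3 0 (p * b7) * S.e 4 0 v))) := by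
          rw [g6'']; group
      _ = S.e 1 0 u * (S.o 1 b3 * (S.e 2 b4 w4 * (S.o 2 b5 * (S.e 3 b6 w6 * S.o 3 b7)))) * (S.e 2 p w' *
            ((S.o 2 (p * b6) * S.e 4 0 v) * S.e 3 0 (p * b7))) := by
          rw [g7'']; group
      _ = S.e 1 0 u * (S.o 1 b3 * (S.e 2 b4 w4 * (S.o 2 b5 * (S.e 3 b6 w6 * S.o 3 b7)))) * ((S.e 2 p w' * S.e 4 0 v) *
            (S.o 2 (p * b6) * S.e 3 0 (p * b7))) := by
          rw [g7']; group
      _ = _ := by rw [g7]; group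
  rw [mul_assoc, key, inv_mul_cancel_left]

/-- uniqueness in `X_4 X_5 X_6` -/
theorem V5_uniq {p w w' s c c' : F} (h : S.e 2 p w * S.o 2 s * S.e 3 0 c = S.e 2 p w' * S.e 3 0 c') : c = c' := by
  have Z := S.zsys8
  have h1 : S.e 3 0 c * (S.e 3 0 c')⁻¹ = (S.e 2 p w * S.o 2 s)⁻¹ * S.e 2 p w' := by
    calc S.e 3 0 c * (S.e 3 0 c')⁻¹ = (S.e 2 p w * S.o 2 s)⁻¹ * (S.e 2 p w * S.o 2 s * S.e 3 0 c) * (S.e 3 0 c')⁻¹ := by
          group
      _ = _ := by rw [h]; group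
  have m6 : S.e 3 0 c * (S.e 3 0 c')⁻¹ ∈ J S.XZ 6 6 :=
    mul_mem (mem_J (S.mX6 0 c) le_rfl le_rfl) (inv_mem (mem_J (S.mX6 0 c') le_rfl le_rfl))
  have m45 : S.e 3 0 c * (S.e 3 0 c')⁻¹ ∈ J S.XZ 4 5 := by
    rw [h1]
    refine mul_mem (inv_mem (mul_mem (mem_J (S.mX4 p w) (by norm_num) (by norm_num))
      (mem_J (S.mX5 s) (by norm_num) (by norm_num)))) (mem_J (S.mX4 p w') (by norm_num) (by norm_num))
  have h2 := Z.inter_one 1 m6 m45 (by norm_num) (by norm_num) (by norm_num) (by norm_num) (Or.inr (by norm_num))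
  exact (S.injE 3 0 c 0 c' (mul_inv_eq_one.1 h2)).2

section Core

variable {S} {G : Type v} [Group G] {i : Y →* G} {t : G}

/-- a commutator commutes with `x` -/
theorem comm_aux {n z x : G} (h1 : z * x = x * z) (h2 : z * (n * x * n⁻¹) = n * x * n⁻¹ * z) :
    (n⁻¹ * z⁻¹ * n * z) * x = x * (n⁻¹ * z⁻¹ * n * z) := by
  have h3 : z⁻¹ * (n * x * n⁻¹) * z = n * x * n⁻¹ := by
    rw [mul_assoc, ← h2, inv_mul_cancel_left]
  calc (n⁻¹ * z⁻¹ * n * z) * x = n⁻¹ * z⁻¹ * n * (z * x) := by group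
    _ = n⁻¹ * z⁻¹ * (n * x * n⁻¹) * n * z := by rw [h1]; group
    _ = n⁻¹ * (z⁻¹ * (n * x * n⁻¹) * z) * z⁻¹ * n * z := by group
    _ = n⁻¹ * (n * x * n⁻¹) * z⁻¹ * n * z := by rw [h3]
    _ = x * (n⁻¹ * z⁻¹ * n * z) := by group

/-- the image of `t` under a commutator -/
theorem tau_aux {n z z' m m' : G} (h1 : n * t * n⁻¹ = t * z') (htz : t * z = z * t)
    (h2 : z * z' * z⁻¹ = z' * m) (h3 : n⁻¹ * (t * z') * n = t) (h4 : n⁻¹ * m * n = m')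
    (h5 : z⁻¹ * m' * z = m') : (n⁻¹ * z⁻¹ * n * z)⁻¹ * t * (n⁻¹ * z⁻¹ * n * z) = t * m' := by
  have e1 : z * (t * z') * z⁻¹ = t * (z' * m) := by
    calc z * (t * z') * z⁻¹ = (z * t) * z' * z⁻¹ := by group
      _ = t * (z * z' * z⁻¹) := by rw [← htz]; group
      _ = _ := by rw [h2]
  have e2 : z⁻¹ * t * z = t := by rw [mul_assoc, htz, inv_mul_cancel_left]
  calc (n⁻¹ * z⁻¹ * n * z)⁻¹ * t * (n⁻¹ * z⁻¹ * n * z)
      = z⁻¹ * (n⁻¹ * (z * (n * t * n⁻¹) * z⁻¹) * n) * z := by group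
    _ = z⁻¹ * (n⁻¹ * (t * (z' * m)) * n) * z := by rw [h1, e1]
    _ = z⁻¹ * ((n⁻¹ * (t * z') * n) * (n⁻¹ * m * n)) * z := by group
    _ = z⁻¹ * (t * m') * z := by rw [h3, h4]
    _ = (z⁻¹ * t * z) * (z⁻¹ * m' * z) := by group
    _ = t * m' := by rw [e2, h5]

/-- **1.4, the core.** -/
theorem core (P : Pos S i t) {a : F} {φ φ2 φ4 φ6 : F → F} {n8 n2 n4 n6 : G} (h8 : NEl S.toSys i t 4 φ a n8)
    (h2 : NEl S.toSys i t 1 φ2 1 n2) (h4 : NEl S.toSys i t 2 φ4 (φ2 (σ a)) n4) (h6 : NEl S.toSys i t 3 φ6 (φ a) n6) :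
    φ 1 = 0 := by
  set R := P.sys with hR
  have ti := P.ti
  -- squares and commutation inside `J_5`
  have ch : (2 : F) = 0 := S.two
  have dbl : ∀ x : F, x + x = 0 := S.add_self
  have sqE : ∀ (b : ZMod 8) (x : F), R.e b 0 x * R.e b 0 x = 1 := fun b x => by
    rw [R.e_mul, zero_add, zero_mul, add_zero, dbl]
    show i (S.e b 0 0) = 1
    rw [S.e_zero, map_one]
  have sqO : ∀ (b : ZMod 8) (x : F), R.o b x * R.o b x = 1 := fun b x => by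
    rw [R.o_add, dbl]
    show i (S.o b 0) = 1
    rw [S.o_zero, map_one]
  have o0 : ∀ b : ZMod 8, R.o b 0 = 1 := fun b => by
    show i (S.o b 0) = 1
    rw [S.o_zero, map_one]
  have e0 : ∀ b : ZMod 8, R.e b 0 0 = 1 := fun b => by
    show i (S.e b 0 0) = 1
    rw [S.e_zero, map_one]
  have tE : ∀ (b : ZMod 8) (p w : F), t * R.e b p w = R.e b p w * t := fun b p w => ti _
  have tO : ∀ (b : ZMod 8) (x : F), t * R.o b x = R.o b x * t := fun b x => ti _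
  -- the elements
  have a8 : n8⁻¹ * t * n8 = t * R.e 4 0 a := h8.tau
  have a2 : n2⁻¹ * t * n2 = t * R.e 1 0 1 := h2.tau
  have a4 : n4⁻¹ * t * n4 = t * R.e 2 0 (φ2 (σ a)) := h4.tau
  have a6 : n6⁻¹ * t * n6 = t * R.e 3 0 (φ a) := h6.tau
  have b8z : ∀ v, n8 * R.e 4 0 v = R.e 4 0 v * n8 := h8.z
  have b8D : ∀ s, n8 * R.o 3 s = R.o 3 s * n8 := h8.om1
  have b8B : ∀ s, n8 * R.o 2 s = R.o 2 s * n8 := h8.om2
  have b8C : ∀ v, n8 * R.e 3 0 v = R.e 3 0 v * n8 := h8.em1 0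
  have b8X : ∀ p w, n8⁻¹ * R.e 2 p w * n8 = R.e 2 p w * R.o 3 (φ p) * R.e 3 0 (φ w) := fun p w => by
    have h : n8⁻¹ * i (S.e 2 p w) * n8 = i (S.e 2 p w * S.o 3 (φ p) * S.e 3 0 (φ w)) := h8.xm p w
    rw [map_mul, map_mul] at h
    exact h
  have b2z : ∀ v, n2 * R.e 1 0 v = R.e 1 0 v * n2 := h2.z
  have b2B : ∀ s, n2 * R.o 2 s = R.o 2 s * n2 := h2.o1
  have b2X : ∀ p w, n2 * R.e 2 p w = R.e 2 p w * n2 := h2.e1
  have b2C : ∀ v, n2⁻¹ * R.e 3 0 v * n2 = R.e 3 0 v * R.e 2 0 (φ2 v) := fun v => by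
    have h : n2⁻¹ * i (S.e 3 0 v) * n2 = i (S.e 3 0 v * S.o 1 (φ2 0) * S.e 2 0 (φ2 v)) := h2.xp 0 v
    rw [h2.phi_zero, S.o_zero, mul_one, map_mul] at h
    exact h
  have b4A : ∀ v, n4 * R.e 2 0 v = R.e 2 0 v * n4 := h4.z
  have b4B : ∀ s, n4 * R.o 2 s = R.o 2 s * n4 := h4.o0
  have b4C : ∀ v, n4 * R.e 3 0 v = R.e 3 0 v * n4 := h4.e1 0
  have b4X : ∀ p w, n4⁻¹ * R.e 2 p w * n4 = R.e 2 p (w + φ4 p) := h4.x0
  have b6C : ∀ v, n6 * R.e 3 0 v = R.e 3 0 v * n6 := h6.z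
  have b6B : ∀ s, n6 * R.o 2 s = R.o 2 s * n6 := h6.om1
  have b6X : ∀ p w, n6 * R.e 2 p w = R.e 2 p w * n6 := h6.em1
  -- relations
  have rAB : ∀ u s, R.e 2 0 u * R.o 2 s = R.o 2 s * R.e 2 0 u := fun u s => R.e_o0 2 0 u s
  have rBC : ∀ s v, R.o 2 s * R.e 3 0 v = R.e 3 0 v * R.o 2 s := fun s v => R.o_e1 2 s 0 v
  have rXC : ∀ p u v, R.e 2 p u * R.e 3 0 v = R.e 3 0 v * R.e 2 p u := fun p u v => by
    have h : R.e 2 p u * R.e 3 0 v = R.e 3 0 v * R.e 2 p u * R.o 2 (p * 0) := R.e_e1 2 p u 0 v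
    rwa [mul_zero, o0, mul_one] at h
  have rAC := rXC 0
  have rDC : ∀ s v, R.o 3 s * R.e 3 0 v = R.e 3 0 v * R.o 3 s := fun s v => (R.e_o0 3 0 v s).symm
  have rAD : ∀ u s, R.e 2 0 u * R.o 3 s = R.o 3 s * R.e 2 0 u := fun u s => by
    have h : R.e 2 0 u * R.o 3 s = R.o 3 s * R.e 2 0 u * R.e 3 0 (0 * s) := R.e_o1 2 0 u s
    rwa [zero_mul, e0, mul_one] at h
  have z2X : ∀ p w, R.e 1 0 1 * R.e 2 p w = R.e 2 p w * R.e 1 0 1 := fun p w => by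
    have h : R.e 1 0 1 * R.e 2 p w = R.e 2 p w * R.e 1 0 1 * R.o 1 (0 * p) := R.e_e1 1 0 1 p w
    rwa [zero_mul, o0, mul_one] at h
  have z2B : ∀ s, R.e 1 0 1 * R.o 2 s = R.o 2 s * R.e 1 0 1 := fun s => by
    have h : R.e 1 0 1 * R.o 2 s = R.o 2 s * R.e 1 0 1 * R.e 2 0 (0 * s) := R.e_o1 1 0 1 s
    rwa [zero_mul, e0, mul_one] at h
  have z2C : ∀ v, R.e 1 0 1 * R.e 3 0 v = R.e 3 0 v * R.e 1 0 1 := fun v => R.e_e2 1 0 1 0 v
  have z2D : ∀ s, R.e 1 0 1 * R.o 3 s = R.o 3 s * R.e 1 0 1 * R.e 2 0 s := fun s => by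
    have h : R.e 1 0 1 * R.o 3 s = R.o 3 s * R.e 1 0 1 * R.e 2 0 (0 * σ 0 * s + 1 * s) * R.o 2 (σ 0 * s) *
      R.e 3 0 (0 * σ s) := R.e_o2 1 0 1 s
    rwa [map_zero, zero_mul, zero_mul, zero_add, one_mul, zero_mul, o0, e0, mul_one, mul_one] at h
  have z8X : ∀ p w, R.e 4 0 a * R.e 2 p w = R.e 2 p w * R.e 4 0 a := fun p w => (R.e_e2 2 p w 0 a).symm
  have z8B : ∀ s, R.e 4 0 a * R.o 2 s = R.o 2 s * R.e 4 0 a := fun s => by
    have h : R.o 2 s * R.e 4 0 a = R.e 4 0 a * R.o 2 s * R.e 3 0 (s * 0) := R.o_e2 2 s 0 a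
    rw [mul_zero, e0, mul_one] at h
    exact h.symm
  have z8C : ∀ v, R.e 4 0 a * R.e 3 0 v = R.e 3 0 v * R.e 4 0 a := fun v => by
    have h : R.e 3 0 v * R.e 4 0 a = R.e 4 0 a * R.e 3 0 v * R.o 3 (0 * 0) := R.e_e1 3 0 v 0 a
    rw [mul_zero, o0, mul_one] at h
    exact h.symm
  have z28 : R.e 1 0 1 * R.e 4 0 a = R.e 4 0 a * R.e 1 0 1 * (R.e 2 0 a * R.o 2 a * R.e 3 0 (σ a)) := by
    have h := R.e_e3 1 0 1 0 a
    simp only [map_zero, map_one, zero_mul, mul_zero, zero_add, add_zero, one_mul, mul_one] at h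
    have h' : R.e 1 0 1 * R.e 4 0 a = R.e 4 0 a * R.e 1 0 1 * R.o 1 0 * R.e 2 0 a * R.o 2 a * R.e 3 0 (σ a) *
      R.o 3 0 := h
    rw [o0, o0, mul_one, mul_one] at h'
    rw [h']; group
  have tz2 : t * R.e 1 0 1 = R.e 1 0 1 * t := tE _ _ _
  have tz8 : t * R.e 4 0 a = R.e 4 0 a * t := tE _ _ _
  have s2 : R.e 1 0 1 * R.e 1 0 1 = 1 := sqE _ _
  have s8 : R.e 4 0 a * R.e 4 0 a = 1 := sqE _ _
  have b2z' : n2 * R.e 1 0 1 = R.e 1 0 1 * n2 := b2z 1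
  have b8z' : n8 * R.e 4 0 a = R.e 4 0 a * n8 := b8z a
  have z2m : R.e 1 0 1 * (R.e 2 0 a * R.o 2 a * R.e 3 0 (σ a)) = R.e 2 0 a * R.o 2 a * R.e 3 0 (σ a) * R.e 1 0 1 := by
    calc R.e 1 0 1 * (R.e 2 0 a * R.o 2 a * R.e 3 0 (σ a)) = (R.e 1 0 1 * R.e 2 0 a) * R.o 2 a * R.e 3 0 (σ a) := by
          group
      _ = R.e 2 0 a * (R.e 1 0 1 * R.o 2 a) * R.e 3 0 (σ a) := by rw [z2X]; group
      _ = R.e 2 0 a * R.o 2 a * (R.e 1 0 1 * R.e 3 0 (σ a)) := by rw [z2B]; group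
      _ = _ := by rw [z2C]; group
  have z8m : R.e 4 0 a * (R.e 2 0 a * R.o 2 a * R.e 3 0 (σ a)) = R.e 2 0 a * R.o 2 a * R.e 3 0 (σ a) * R.e 4 0 a := by
    calc R.e 4 0 a * (R.e 2 0 a * R.o 2 a * R.e 3 0 (σ a)) = (R.e 4 0 a * R.e 2 0 a) * R.o 2 a * R.e 3 0 (σ a) := by
          group
      _ = R.e 2 0 a * (R.e 4 0 a * R.o 2 a) * R.e 3 0 (σ a) := by rw [z8X]; group
      _ = R.e 2 0 a * R.o 2 a * (R.e 4 0 a * R.e 3 0 (σ a)) := by rw [z8B]; group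
      _ = _ := by rw [z8C]; group
  have mm : (R.e 2 0 a * R.o 2 a * R.e 3 0 (σ a)) * (R.e 2 0 a * R.o 2 a * R.e 3 0 (σ a)) = 1 := by
    calc (R.e 2 0 a * R.o 2 a * R.e 3 0 (σ a)) * (R.e 2 0 a * R.o 2 a * R.e 3 0 (σ a))
        = R.e 2 0 a * R.o 2 a * (R.e 3 0 (σ a) * R.e 2 0 a) * R.o 2 a * R.e 3 0 (σ a) := by group
      _ = R.e 2 0 a * (R.o 2 a * R.e 2 0 a) * (R.e 3 0 (σ a) * R.o 2 a) * R.e 3 0 (σ a) := by rw [← rAC]; group
      _ = (R.e 2 0 a * R.e 2 0 a) * (R.o 2 a * R.o 2 a) * (R.e 3 0 (σ a) * R.e 3 0 (σ a)) := by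
        rw [← rAB, ← rBC]; group
      _ = 1 := by rw [sqE, sqE, sqO]; group
  set z2 := R.e 1 0 1 with hz2
  set z8 := R.e 4 0 a with hz8
  set m := R.e 2 0 a * R.o 2 a * R.e 3 0 (σ a) with hm
  have mi : m⁻¹ = m := inv_eq_of_mul_eq_one_left mm
  -- the commutator `h'`
  have n2m : n2⁻¹ * m * n2 = m * R.e 2 0 (φ2 (σ a)) := by
    have e1 : n2⁻¹ * R.e 2 0 a * n2 = R.e 2 0 a := by rw [mul_assoc, ← b2X, inv_mul_cancel_left]
    have e2 : n2⁻¹ * R.o 2 a * n2 = R.o 2 a := by rw [mul_assoc, ← b2B, inv_mul_cancel_left]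
    calc n2⁻¹ * m * n2 = (n2⁻¹ * R.e 2 0 a * n2) * (n2⁻¹ * R.o 2 a * n2) * (n2⁻¹ * R.e 3 0 (σ a) * n2) := by
          rw [hm]; group
      _ = _ := by rw [e1, e2, b2C, hm]; group
  have n8m : n8⁻¹ * m * n8 = m * R.e 3 0 (φ a) := by
    have e1 : n8⁻¹ * R.e 2 0 a * n8 = R.e 2 0 a * R.e 3 0 (φ a) := by rw [b8X, h8.phi_zero, o0, mul_one]
    have e2 : n8⁻¹ * R.o 2 a * n8 = R.o 2 a := by rw [mul_assoc, ← b8B, inv_mul_cancel_left]
    have e3 : n8⁻¹ * R.e 3 0 (σ a) * n8 = R.e 3 0 (σ a) := by rw [mul_assoc, ← b8C, inv_mul_cancel_left]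
    have e4 : R.e 3 0 (φ a) * R.e 3 0 (σ a) = R.e 3 0 (σ a) * R.e 3 0 (φ a) := by
      rw [R.e_mul, R.e_mul]; congr 1; ring
    calc n8⁻¹ * m * n8 = (n8⁻¹ * R.e 2 0 a * n8) * (n8⁻¹ * R.o 2 a * n8) * (n8⁻¹ * R.e 3 0 (σ a) * n8) := by
          rw [hm]; group
      _ = R.e 2 0 a * (R.e 3 0 (φ a) * R.o 2 a) * R.e 3 0 (σ a) := by rw [e1, e2, e3]; group
      _ = R.e 2 0 a * R.o 2 a * (R.e 3 0 (φ a) * R.e 3 0 (σ a)) := by rw [← rBC]; group
      _ = _ := by rw [e4, hm]; group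
  have T1 : (n2⁻¹ * z8⁻¹ * n2 * z8)⁻¹ * t * (n2⁻¹ * z8⁻¹ * n2 * z8) = t * (m * R.e 2 0 (φ2 (σ a))) := by
    refine tau_aux (z' := z2) (m := m) ?_ tz8 ?_ ?_ n2m ?_
    · calc n2 * t * n2⁻¹ = n2 * ((t * z2) * z2) * n2⁻¹ := by rw [mul_assoc t, s2, mul_one]
        _ = n2 * ((n2⁻¹ * t * n2) * z2) * n2⁻¹ := by rw [a2]
        _ = t * (n2 * z2) * n2⁻¹ := by group
        _ = t * z2 := by rw [b2z']; group
    · calc z8 * z2 * z8⁻¹ = z2 * z8 * m⁻¹ * z8⁻¹ := by rw [z28]; group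
        _ = z2 * (z8 * m) * z8⁻¹ := by rw [mi]; group
        _ = z2 * m := by rw [z8m]; group
    · calc n2⁻¹ * (t * z2) * n2 = (n2⁻¹ * t * n2) * (n2⁻¹ * (z2 * n2)) := by group
        _ = t * z2 * z2 := by rw [a2, ← b2z']; group
        _ = t := by rw [mul_assoc, s2, mul_one]
    · calc z8⁻¹ * (m * R.e 2 0 (φ2 (σ a))) * z8 = z8⁻¹ * m * (R.e 2 0 (φ2 (σ a)) * z8) := by group
        _ = z8⁻¹ * (m * z8) * R.e 2 0 (φ2 (σ a)) := by rw [← z8X]; group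
        _ = _ := by rw [← z8m]; group
  have T2 : (n8⁻¹ * z2⁻¹ * n8 * z2)⁻¹ * t * (n8⁻¹ * z2⁻¹ * n8 * z2) = t * (m * R.e 3 0 (φ a)) := by
    refine tau_aux (z' := z8) (m := m) ?_ tz2 ?_ ?_ n8m ?_
    · calc n8 * t * n8⁻¹ = n8 * ((t * z8) * z8) * n8⁻¹ := by rw [mul_assoc t, s8, mul_one]
        _ = n8 * ((n8⁻¹ * t * n8) * z8) * n8⁻¹ := by rw [a8]
        _ = t * (n8 * z8) * n8⁻¹ := by group
        _ = t * z8 := by rw [b8z']; group
    · calc z2 * z8 * z2⁻¹ = z8 * (z2 * m) * z2⁻¹ := by rw [z28]; group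
        _ = z8 * m := by rw [z2m]; group
    · calc n8⁻¹ * (t * z8) * n8 = (n8⁻¹ * t * n8) * (n8⁻¹ * (z8 * n8)) := by group
        _ = t * z8 * z8 := by rw [a8, ← b8z']; group
        _ = t := by rw [mul_assoc, s8, mul_one]
    · calc z2⁻¹ * (m * R.e 3 0 (φ a)) * z2 = z2⁻¹ * m * (R.e 3 0 (φ a) * z2) := by group
        _ = z2⁻¹ * (m * z2) * R.e 3 0 (φ a) := by rw [← z2C]; group
        _ = _ := by rw [← z2m]; group
  set h' := n2⁻¹ * z8⁻¹ * n2 * z8 with hh'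
  set h := n8⁻¹ * z2⁻¹ * n8 * z2 with hh
  have n4m : n4 * m = m * n4 := by
    calc n4 * m = (n4 * R.e 2 0 a) * R.o 2 a * R.e 3 0 (σ a) := by rw [hm]; group
      _ = R.e 2 0 a * (n4 * R.o 2 a) * R.e 3 0 (σ a) := by rw [b4A]; group
      _ = R.e 2 0 a * R.o 2 a * (n4 * R.e 3 0 (σ a)) := by rw [b4B]; group
      _ = _ := by rw [b4C, hm]; group
  have n6m : n6 * m = m * n6 := by
    calc n6 * m = (n6 * R.e 2 0 a) * R.o 2 a * R.e 3 0 (σ a) := by rw [hm]; group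
      _ = R.e 2 0 a * (n6 * R.o 2 a) * R.e 3 0 (σ a) := by rw [b6X]; group
      _ = R.e 2 0 a * R.o 2 a * (n6 * R.e 3 0 (σ a)) := by rw [b6B]; group
      _ = _ := by rw [b6C, hm]; group
  have mA : m * R.e 2 0 (φ2 (σ a)) = R.e 2 0 (φ2 (σ a)) * m := by
    have e4 : R.e 2 0 a * R.e 2 0 (φ2 (σ a)) = R.e 2 0 (φ2 (σ a)) * R.e 2 0 a := by
      rw [R.e_mul, R.e_mul]; congr 1; ring
    calc m * R.e 2 0 (φ2 (σ a)) = R.e 2 0 a * R.o 2 a * (R.e 3 0 (σ a) * R.e 2 0 (φ2 (σ a))) := by rw [hm]; group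
      _ = R.e 2 0 a * (R.o 2 a * R.e 2 0 (φ2 (σ a))) * R.e 3 0 (σ a) := by rw [← rAC]; group
      _ = (R.e 2 0 a * R.e 2 0 (φ2 (σ a))) * R.o 2 a * R.e 3 0 (σ a) := by rw [← rAB]; group
      _ = _ := by rw [e4, hm]; group
  have T3 : (h' * n4 * n6)⁻¹ * t * (h' * n4 * n6) = t * (m * R.e 3 0 (φ a)) := by
    have e1 : n4⁻¹ * (t * (m * R.e 2 0 (φ2 (σ a)))) * n4 = t * m := by
      calc n4⁻¹ * (t * (m * R.e 2 0 (φ2 (σ a)))) * n4
          = (n4⁻¹ * t * n4) * (n4⁻¹ * (m * (R.e 2 0 (φ2 (σ a)) * n4))) := by group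
        _ = (n4⁻¹ * t * n4) * (n4⁻¹ * ((m * n4) * R.e 2 0 (φ2 (σ a)))) := by rw [← b4A]; group
        _ = t * (R.e 2 0 (φ2 (σ a)) * m) * R.e 2 0 (φ2 (σ a)) := by rw [← n4m, a4]; group
        _ = t * m * (R.e 2 0 (φ2 (σ a)) * R.e 2 0 (φ2 (σ a))) := by rw [← mA]; group
        _ = t * m := by rw [sqE, mul_one]
    have e2 : n6⁻¹ * (t * m) * n6 = t * (m * R.e 3 0 (φ a)) := by
      have mC : R.e 3 0 (φ a) * m = m * R.e 3 0 (φ a) := by
        have e4 : R.e 3 0 (φ a) * R.e 3 0 (σ a) = R.e 3 0 (σ a) * R.e 3 0 (φ a) := by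
          rw [R.e_mul, R.e_mul]; congr 1; ring
        calc R.e 3 0 (φ a) * m = (R.e 3 0 (φ a) * R.e 2 0 a) * R.o 2 a * R.e 3 0 (σ a) := by rw [hm]; group
          _ = R.e 2 0 a * (R.e 3 0 (φ a) * R.o 2 a) * R.e 3 0 (σ a) := by rw [← rAC]; group
          _ = R.e 2 0 a * R.o 2 a * (R.e 3 0 (φ a) * R.e 3 0 (σ a)) := by rw [← rBC]; group
          _ = _ := by rw [e4, hm]; group
      calc n6⁻¹ * (t * m) * n6 = (n6⁻¹ * t * n6) * (n6⁻¹ * (m * n6)) := by group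
        _ = t * (R.e 3 0 (φ a) * m) := by rw [← n6m, a6]; group
        _ = _ := by rw [mC]
    calc (h' * n4 * n6)⁻¹ * t * (h' * n4 * n6) = n6⁻¹ * (n4⁻¹ * (h'⁻¹ * t * h') * n4) * n6 := by group
      _ = _ := by rw [T1, e1, e2]
  set g := h' * n4 * n6 * h⁻¹ with hg
  have gt : g * t = t * g := by
    have e1 : (h' * n4 * n6)⁻¹ * t * (h' * n4 * n6) = h⁻¹ * t * h := by rw [T3, T2]
    calc g * t = (h' * n4 * n6) * (h⁻¹ * t * h) * h⁻¹ := by rw [hg]; group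
      _ = (h' * n4 * n6) * ((h' * n4 * n6)⁻¹ * t * (h' * n4 * n6)) * h⁻¹ := by rw [e1]
      _ = t * g := by rw [hg]; group
  -- conjugation by `n2`, `n8` from the other side
  have c2C : ∀ v, n2 * R.e 3 0 v * n2⁻¹ = R.e 3 0 v * R.e 2 0 (φ2 v) := fun v => by
    have e1 := b2C v
    have e2 : R.e 3 0 v = n2 * R.e 3 0 v * n2⁻¹ * R.e 2 0 (φ2 v) := by
      calc R.e 3 0 v = n2 * (n2⁻¹ * R.e 3 0 v * n2) * n2⁻¹ := by group
        _ = n2 * R.e 3 0 v * (R.e 2 0 (φ2 v) * n2⁻¹) := by rw [e1]; group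
        _ = n2 * R.e 3 0 v * (n2⁻¹ * (n2 * R.e 2 0 (φ2 v)) * n2⁻¹) := by group
        _ = _ := by rw [b2X]; group
    calc n2 * R.e 3 0 v * n2⁻¹ = (n2 * R.e 3 0 v * n2⁻¹ * R.e 2 0 (φ2 v)) * R.e 2 0 (φ2 v) := by
          rw [mul_assoc _ (R.e 2 0 (φ2 v)), sqE, mul_one]
      _ = _ := by rw [← e2]
  have c8X : ∀ p w, n8 * R.e 2 p w * n8⁻¹ = R.e 2 p w * R.o 3 (φ p) * R.e 3 0 (φ w) := fun p w => by
    have e1 := b8X p w
    have e3 : R.o 3 (φ p) * R.e 3 0 (φ w) * n8⁻¹ = n8⁻¹ * (R.o 3 (φ p) * R.e 3 0 (φ w)) := by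
      have e4 : n8 * (R.o 3 (φ p) * R.e 3 0 (φ w)) = (R.o 3 (φ p) * R.e 3 0 (φ w)) * n8 := by
        rw [← mul_assoc, b8D, mul_assoc, b8C, ← mul_assoc]
      calc R.o 3 (φ p) * R.e 3 0 (φ w) * n8⁻¹ = n8⁻¹ * (n8 * (R.o 3 (φ p) * R.e 3 0 (φ w))) * n8⁻¹ := by group
        _ = _ := by rw [e4]; group
    have e2 : R.e 2 p w = n8 * R.e 2 p w * n8⁻¹ * (R.o 3 (φ p) * R.e 3 0 (φ w)) := by
      calc R.e 2 p w = n8 * (n8⁻¹ * R.e 2 p w * n8) * n8⁻¹ := by group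
        _ = n8 * R.e 2 p w * (R.o 3 (φ p) * R.e 3 0 (φ w) * n8⁻¹) := by rw [e1]; group
        _ = _ := by rw [e3]; group
    have e5 : (R.o 3 (φ p) * R.e 3 0 (φ w)) * (R.o 3 (φ p) * R.e 3 0 (φ w)) = 1 := by
      calc (R.o 3 (φ p) * R.e 3 0 (φ w)) * (R.o 3 (φ p) * R.e 3 0 (φ w))
          = R.o 3 (φ p) * (R.e 3 0 (φ w) * R.o 3 (φ p)) * R.e 3 0 (φ w) := by group
        _ = (R.o 3 (φ p) * R.o 3 (φ p)) * (R.e 3 0 (φ w) * R.e 3 0 (φ w)) := by rw [← rDC]; group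
        _ = 1 := by rw [sqO, sqE, one_mul]
    calc n8 * R.e 2 p w * n8⁻¹ = (n8 * R.e 2 p w * n8⁻¹ * (R.o 3 (φ p) * R.e 3 0 (φ w))) *
          (R.o 3 (φ p) * R.e 3 0 (φ w)) := by
          rw [mul_assoc _ (R.o 3 (φ p) * R.e 3 0 (φ w)) (R.o 3 (φ p) * R.e 3 0 (φ w)), e5, mul_one]
      _ = _ := by rw [← e2]; group
  -- `g` centralises `J_5`
  have conj_of : ∀ {n x : G}, n * x = x * n → n * x * n⁻¹ = x := fun h => by rw [h, mul_inv_cancel_right]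
  have comm_g : ∀ {x : G}, h' * x = x * h' → n4 * x = x * n4 → n6 * x = x * n6 → h * x = x * h → g * x = x * g := by
    intro x h1 h2 h3 h4
    have h5 : h⁻¹ * x = x * h⁻¹ := by rw [inv_mul_eq_iff_eq_mul, ← mul_assoc, h4, mul_inv_cancel_right]
    calc g * x = h' * n4 * n6 * (h⁻¹ * x) := by rw [hg]; group
      _ = h' * n4 * (n6 * x) * h⁻¹ := by rw [h5]; group
      _ = h' * (n4 * x) * n6 * h⁻¹ := by rw [h3]; group
      _ = (h' * x) * n4 * n6 * h⁻¹ := by rw [h2]; group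
      _ = x * g := by rw [h1, hg]; group
  have gA : ∀ u, g * R.e 2 0 u = R.e 2 0 u * g := fun u => by
    refine comm_g (comm_aux (z8X 0 u) ?_) (b4A u) (b6X 0 u) (comm_aux (z2X 0 u) ?_)
    · rw [conj_of (b2X 0 u)]; exact z8X 0 u
    · rw [c8X, h8.phi_zero, o0, mul_one, ← mul_assoc, z2X, mul_assoc, z2C, ← mul_assoc]
  have gB : ∀ u, g * R.o 2 u = R.o 2 u * g := fun u => by
    refine comm_g (comm_aux (z8B u) ?_) (b4B u) (b6B u) (comm_aux (z2B u) ?_)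
    · rw [conj_of (b2B u)]; exact z8B u
    · rw [conj_of (b8B u)]; exact z2B u
  have gC : ∀ u, g * R.e 3 0 u = R.e 3 0 u * g := fun u => by
    refine comm_g (comm_aux (z8C u) ?_) (b4C u) (b6C u) (comm_aux (z2C u) ?_)
    · rw [c2C, ← mul_assoc, z8C, mul_assoc, z8X, ← mul_assoc]
    · rw [conj_of (b8C u)]; exact z2C u
  -- so `g` lies in `⟨t⟩ × NO`
  obtain ⟨y, hy, hgy⟩ : ∃ y ∈ Subgroup.centralizer (S.V5 : Set Y), g = i y ∨ g = t * i y := by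
    refine P.lift (a := 2) (fun z hz => ?_) gt ?_
    · obtain ⟨u, rfl⟩ := hz
      exact S.mem_V5.2 ⟨u, 0, 0, by rw [S.o_zero, S.e_zero, mul_one, mul_one]; rfl⟩
    · intro y hy
      obtain ⟨u, s, v, rfl⟩ := S.mem_V5.1 hy
      rw [map_mul, map_mul]
      show g * (R.e 2 0 u * R.o 2 s * R.e 3 0 v) = R.e 2 0 u * R.o 2 s * R.e 3 0 v * g
      calc g * (R.e 2 0 u * R.o 2 s * R.e 3 0 v) = (g * R.e 2 0 u) * R.o 2 s * R.e 3 0 v := by group
        _ = R.e 2 0 u * (g * R.o 2 s) * R.e 3 0 v := by rw [gA]; group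
        _ = R.e 2 0 u * R.o 2 s * (g * R.e 3 0 v) := by rw [gB]; group
        _ = _ := by rw [gC]; group
  rw [S.centralizer_V5] at hy
  obtain ⟨b4', b6', b7', hb⟩ := NO_conj S hy
  have key : ∀ p, p * b7' = φ (φ p) := by
    intro p
    -- the action of `g` on `X_4`, through `y`
    have k1 : g⁻¹ * R.e 2 p 0 * g = i (S.e 2 p (0 + b4' * σ p + p * σ b4') * S.o 2 (p * b6') * S.e 3 0 (p * b7')) := by
      have k2 : i (y⁻¹ * S.e 2 p 0 * y) = (i y)⁻¹ * R.e 2 p 0 * i y := by rw [map_mul, map_mul, map_inv]; rfl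
      rw [← hb, k2]
      rcases hgy with e | e
      · rw [e]
      · rw [e, mul_inv_rev, P.t_inv]
        calc (i y)⁻¹ * t * R.e 2 p 0 * (t * i y) = (i y)⁻¹ * (t * R.e 2 p 0) * t * i y := by group
          _ = (i y)⁻¹ * R.e 2 p 0 * (t * t) * i y := by rw [tE]; group
          _ = _ := by rw [P.tt, mul_one]
    -- directly
    have k3 : h'⁻¹ * R.e 2 p 0 * h' = R.e 2 p 0 := by
      have e1 : h' * R.e 2 p 0 = R.e 2 p 0 * h' := by
        refine comm_aux (z8X p 0) ?_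
        rw [conj_of (b2X p 0)]; exact z8X p 0
      rw [mul_assoc, ← e1, inv_mul_cancel_left]
    have k4 : n6⁻¹ * (n4⁻¹ * R.e 2 p 0 * n4) * n6 = R.e 2 p (0 + φ4 p) := by
      rw [b4X, mul_assoc, ← b6X, inv_mul_cancel_left]
    have k5 : ∀ w, h * R.e 2 p w * h⁻¹ = R.e 2 p w * R.e 2 0 (φ p) * R.e 3 0 (φ (φ p)) := by
      intro w
      have d1 : z2 * R.e 2 p w * z2⁻¹ = R.e 2 p w := conj_of (z2X p w)
      have d2 : z2⁻¹ * R.o 3 (φ p) * z2 = R.o 3 (φ p) * R.e 2 0 (φ p) := by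
        have d3 : z2 * R.e 2 0 (φ p) = R.e 2 0 (φ p) * z2 := z2X 0 _
        calc z2⁻¹ * R.o 3 (φ p) * z2 = z2⁻¹ * (R.o 3 (φ p) * z2 * R.e 2 0 (φ p)) * (R.e 2 0 (φ p))⁻¹ := by group
          _ = z2⁻¹ * (z2 * R.o 3 (φ p)) * (R.e 2 0 (φ p))⁻¹ := by rw [z2D]
          _ = R.o 3 (φ p) * (R.e 2 0 (φ p))⁻¹ := by group
          _ = _ := by rw [inv_eq_of_mul_eq_one_left (sqE _ _)]
      have d4 : z2⁻¹ * R.e 3 0 (φ w) * z2 = R.e 3 0 (φ w) := by rw [mul_assoc, ← z2C, inv_mul_cancel_left]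
      have d5 : z2⁻¹ * R.e 2 p w * z2 = R.e 2 p w := by rw [mul_assoc, ← z2X, inv_mul_cancel_left]
      have d6 : n8⁻¹ * R.o 3 (φ p) * n8 = R.o 3 (φ p) := by rw [mul_assoc, ← b8D, inv_mul_cancel_left]
      have d7 : n8⁻¹ * R.e 3 0 (φ w) * n8 = R.e 3 0 (φ w) := by rw [mul_assoc, ← b8C, inv_mul_cancel_left]
      have d8 : n8⁻¹ * R.e 2 0 (φ p) * n8 = R.e 2 0 (φ p) * R.e 3 0 (φ (φ p)) := by
        rw [b8X, h8.phi_zero, o0, mul_one]
      have d9 : R.e 3 0 (φ (φ p)) * R.e 3 0 (φ w) = R.e 3 0 (φ w) * R.e 3 0 (φ (φ p)) := by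
        rw [R.e_mul, R.e_mul]; congr 1; ring
      calc h * R.e 2 p w * h⁻¹
          = n8⁻¹ * (z2⁻¹ * (n8 * (z2 * R.e 2 p w * z2⁻¹) * n8⁻¹) * z2) * n8 := by rw [hh]; group
        _ = n8⁻¹ * (z2⁻¹ * (R.e 2 p w * R.o 3 (φ p) * R.e 3 0 (φ w)) * z2) * n8 := by rw [d1, c8X]
        _ = n8⁻¹ * ((z2⁻¹ * R.e 2 p w * z2) * (z2⁻¹ * R.o 3 (φ p) * z2) * (z2⁻¹ * R.e 3 0 (φ w) * z2)) * n8 := by
            group
        _ = n8⁻¹ * (R.e 2 p w * (R.o 3 (φ p) * R.e 2 0 (φ p)) * R.e 3 0 (φ w)) * n8 := by rw [d5, d2, d4]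
        _ = (n8⁻¹ * R.e 2 p w * n8) * (n8⁻¹ * R.o 3 (φ p) * n8) * (n8⁻¹ * R.e 2 0 (φ p) * n8) *
              (n8⁻¹ * R.e 3 0 (φ w) * n8) := by group
        _ = (R.e 2 p w * R.o 3 (φ p) * R.e 3 0 (φ w)) * R.o 3 (φ p) * (R.e 2 0 (φ p) * R.e 3 0 (φ (φ p))) *
              R.e 3 0 (φ w) := by rw [b8X, d6, d8, d7]
        _ = R.e 2 p w * R.o 3 (φ p) * (R.e 3 0 (φ w) * R.o 3 (φ p)) * R.e 2 0 (φ p) *
              (R.e 3 0 (φ (φ p)) * R.e 3 0 (φ w)) := by group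
        _ = R.e 2 p w * (R.o 3 (φ p) * R.o 3 (φ p)) * (R.e 3 0 (φ w) * R.e 2 0 (φ p)) * R.e 3 0 (φ w) *
              R.e 3 0 (φ (φ p)) := by rw [← rDC, d9]; group
        _ = R.e 2 p w * R.e 2 0 (φ p) * (R.e 3 0 (φ w) * R.e 3 0 (φ w)) * R.e 3 0 (φ (φ p)) := by
            rw [sqO, ← rAC]; group
        _ = _ := by rw [sqE, mul_one]
    have k6 : g⁻¹ * R.e 2 p 0 * g = R.e 2 p (0 + φ4 p) * R.e 2 0 (φ p) * R.e 3 0 (φ (φ p)) := by
      calc g⁻¹ * R.e 2 p 0 * g = h * (n6⁻¹ * (n4⁻¹ * (h'⁻¹ * R.e 2 p 0 * h') * n4) * n6) * h⁻¹ := by rw [hg]; group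
        _ = _ := by rw [k3, k4, k5]
    rw [k1] at k6
    have k7 : R.e 2 p (0 + φ4 p) * R.e 2 0 (φ p) * R.e 3 0 (φ (φ p)) = i (S.e 2 p (0 + φ4 p + φ p) *
        S.e 3 0 (φ (φ p))) := by
      rw [R.e_mul, map_zero, mul_zero, add_zero, add_zero, map_mul]
      rfl
    rw [k7] at k6
    exact V5_uniq S (P.inj k6)
  -- the field argument
  by_contra hc
  have hsurj : ∀ x : F, ∃ r, σ r = x := by
    have := P.finF
    exact fun x => (Finite.injective_iff_surjective.1 σ.injective) x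
  have k8 : ∀ s : F, s ^ 2 * (σ (φ 1)⁻¹ * b7') = φ 1 * s := by
    intro s
    have e1 := key (σ ((φ 1)⁻¹ * σ s))
    rw [h8.phi, ← mul_assoc, mul_inv_cancel₀ hc, one_mul, h8.phi, map_mul, S.sq] at e1
    rw [← e1]; ring
  have k9 : σ (φ 1)⁻¹ * b7' = φ 1 := by
    have := k8 1
    rwa [one_pow, one_mul, mul_one] at this
  have k10 : ∀ s : F, s = 0 ∨ s = 1 := by
    intro s
    have e1 := k8 s
    rw [k9] at e1
    have e2 : φ 1 * (s * (s - 1)) = 0 := by linear_combination e1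
    rcases mul_eq_zero.1 e2 with h | h
    · exact absurd h hc
    · rcases mul_eq_zero.1 h with h | h
      · exact Or.inl h
      · exact Or.inr (sub_eq_zero.1 h)
  have := P.finF
  have hle : Nat.card F ≤ Nat.card (Fin 2) := by
    refine Nat.card_le_card_of_surjective (fun k : Fin 2 => if k = 0 then (0 : F) else 1) ?_
    intro s
    rcases k10 s with rfl | rfl
    · exact ⟨0, rfl⟩
    · exact ⟨1, rfl⟩
  have hb := P.big
  have h2' : Nat.card (Fin 2) = 2 := by simp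
  omega

/-- rotation of the elements of 1.3 -/
theorem rotN (P : Pos S i t) {a : ZMod 8} {φ : F → F} {u : F} {n : G} (h : NEl S.toSys i t a φ u n) (k : ℕ) :
    ∃ n', NEl S.toSys i t (a + k) φ u n' := by
  induction k with
  | zero => exact ⟨n, by simpa using h⟩
  | succ k ih =>
    obtain ⟨n', hn'⟩ := ih
    refine ⟨i S.rot * n' * (i S.rot)⁻¹, ?_⟩
    have e : a + ((k + 1 : ℕ) : ZMod 8) = a + k + 1 := by push_cast; ring
    rw [e]
    exact hn'.rot P.ti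

/-- **1.4**: the constant is zero. -/
theorem phi_eq_zero (P : Pos S i t) (hn : ∀ u : F, ∃ (φ : F → F) (n : G), NEl S.toSys i t 2 φ u n) {φ : F → F} {u : F}
    {n : G} (h : NEl S.toSys i t 2 φ u n) (x : F) : φ x = 0 := by
  obtain ⟨n8, h8⟩ := rotN P h 2
  obtain ⟨φ2, m2, h2⟩ := hn 1
  obtain ⟨n2, h2⟩ := rotN P h2 7
  obtain ⟨φ4, n4, h4⟩ := hn (φ2 (σ u))
  obtain ⟨φ6, m6, h6⟩ := hn (φ u)
  obtain ⟨n6, h6⟩ := rotN P h6 1
  have h1 : φ 1 = 0 := core P h8 h2 h4 h6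
  have := P.finF
  obtain ⟨r, rfl⟩ := (Finite.injective_iff_surjective.1 σ.injective) x
  rw [h.phi, h1, zero_mul]

/-- the elements `w` centralising `P_4` with `[w, t] = i (e 2 0 u)` -/
theorem exists_cent (P : Pos S i t) (hn : ∀ u : F, ∃ (φ : F → F) (n : G), NEl S.toSys i t 2 φ u n) (u : F) :
    ∃ w : G, (∀ y ∈ S.PL, w * i y = i y * w) ∧ t * w * t = w * i (S.e 2 0 u) := by
  obtain ⟨φ, n, h⟩ := hn u
  have h0 := phi_eq_zero P hn h
  refine ⟨n, ?_, ?_⟩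
  · have hle : S.PL ≤ (Subgroup.centralizer ({n} : Set G)).comap i := by
      refine J_le fun k h1 h2 y hy => ?_
      rw [Subgroup.mem_comap, Subgroup.mem_centralizer_singleton_iff]
      have e2 : ∀ {x : G}, n⁻¹ * x * n = x → x * n = n * x := fun {x} hx => by
        calc x * n = n * (n⁻¹ * x * n) := by group
          _ = n * x := by rw [hx]
      have hk : k = 0 ∨ k = 1 ∨ k = 2 ∨ k = 3 ∨ k = 4 ∨ k = 5 ∨ k = 6 ∨ k = 7 ∨ k = 8 := by omega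
      rcases hk with rfl | rfl | rfl | rfl | rfl | rfl | rfl | rfl | rfl
      · obtain ⟨p, w, rfl⟩ := (S.mem_XZ_even 0 y).1 hy
        have h3 : n⁻¹ * i (S.e 0 p w) * n = i (S.e 0 p w * S.o 1 (φ p) * S.e 1 0 (φ w)) := h.xm p w
        rw [h0, h0, S.o_zero, S.e_zero, mul_one, mul_one] at h3
        exact e2 h3
      · obtain ⟨x, rfl⟩ := S.X1 hy
        exact (h.om2 x).symm
      · obtain ⟨p, w, rfl⟩ := S.X2 hy
        exact (h.em1 p w).symm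
      · obtain ⟨x, rfl⟩ := S.X3 hy
        exact (h.om1 x).symm
      · obtain ⟨p, w, rfl⟩ := S.X4 hy
        have h3 := h.x0 p w
        rw [h0, add_zero] at h3
        exact e2 h3
      · obtain ⟨x, rfl⟩ := S.X5 hy
        exact (h.o0 x).symm
      · obtain ⟨p, w, rfl⟩ := S.X6 hy
        exact (h.e1 p w).symm
      · obtain ⟨x, rfl⟩ := S.X7 hy
        exact (h.o1 x).symm
      · obtain ⟨p, w, rfl⟩ := S.X8 hy
        have h3 : n⁻¹ * i (S.e 4 p w) * n = i (S.e 4 p w * S.o 2 (φ p) * S.e 3 0 (φ w)) := h.xp p w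
        rw [h0, h0, S.o_zero, S.e_zero, mul_one, mul_one] at h3
        exact e2 h3
    intro y hy
    exact (Subgroup.mem_centralizer_singleton_iff.1 (hle hy)).symm
  · calc t * n * t = n * (n⁻¹ * t * n) * t := by group
      _ = n * (t * (i (S.e 2 0 u) * t)) := by rw [h.tau]; group
      _ = n * (t * t) * i (S.e 2 0 u) := by rw [← P.ti]; group
      _ = _ := by rw [P.tt, mul_one]

end Core

end Cfsg.Agent.OddHalf.D7TwF4.CKill

end

-- merged: Cfsg.Agent.OddHalf.D7TwF4.WMk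
section

/-!
# D7, `K = ²F₄(q)`: sections 1.5 - 1.7, the groups `W_a` (helper853; text: helper544, bb ODD 13028)

`Wst i t Z` : the group of the `w` centralising `i C_Y(Z)` with `[w, t] ∈ i Z`.

* `g_mem`, `g_sq` : `[w, x_1(a)] ∈ Wst Z_4`, an involution, for `w ∈ Wst Z_6`;
* `closed2` : `WS i t Z_4` is closed under multiplication (it is `Z_4 × {[w, x_1(a)]}`);
* `exists_WData` : the output of section 1, from elements of `C_G(P_4)` moving `t` to `t z`.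
-/

set_option autoImplicit false
set_option linter.unusedSectionVars false

namespace Cfsg.Agent.OddHalf.D7TwF4.WMk

open Cfsg.Agent.KFacts.TwF4 Cfsg.Agent.SplitTwo.ZS Cfsg.Agent.OddHalf.D7TwF4.Defs

universe u v w

variable {F : Type w} [Field F] {σ : F →+* F} {Y : Type u} [Group Y] {S : Full σ Y} {G : Type v} [Group G]
  {i : Y →* G} {t : G}

/-- the elements centralising `i C_Y(Z)` with `[w, t] ∈ i Z` -/
def Wst (P : Pos S i t) (a : ZMod 8) : Subgroup G where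
  carrier := {w | (∀ y : Y, (∀ z ∈ S.Zc a, y * z = z * y) → w * i y = i y * w) ∧ ∃ z ∈ S.Zc a, t * w * t = w * i z}
  one_mem' := ⟨fun y _ => by rw [one_mul, mul_one], 1, one_mem _, by rw [mul_one, P.tt, map_one, mul_one]⟩
  mul_mem' := by
    rintro v w ⟨hv, z, hz, ev⟩ ⟨hw, z', hz', ew⟩
    refine ⟨fun y hy => by rw [mul_assoc, hw y hy, ← mul_assoc, hv y hy, mul_assoc], z * z', mul_mem hz hz', ?_⟩
    have hzz : ∀ x ∈ S.Zc a, z * x = x * z := by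
      rintro _ ⟨x, rfl⟩
      obtain ⟨u, rfl⟩ := hz
      rw [S.e_mul, S.e_mul]
      congr 1
      ring
    have h1 := hw z hzz
    calc t * (v * w) * t = t * v * 1 * w * t := by group
      _ = (t * v * t) * (t * w * t) := by rw [← P.tt]; group
      _ = v * (i z * w) * i z' := by rw [ev, ew]; group
      _ = v * w * i (z * z') := by rw [← h1, map_mul]; group
  inv_mem' := by
    rintro w ⟨hw, z, hz, ew⟩
    refine ⟨fun y hy => ?_, z⁻¹, inv_mem hz, ?_⟩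
    · have h1 := hw y hy
      rw [inv_mul_eq_iff_eq_mul, ← mul_assoc, h1, mul_inv_cancel_right]
    · have hzz : ∀ x ∈ S.Zc a, z⁻¹ * x = x * z⁻¹ := by
        rintro _ ⟨x, rfl⟩
        obtain ⟨u, hu⟩ := inv_mem hz
        rw [← hu, S.e_mul, S.e_mul]
        congr 1
        ring
      have h1 := hw z⁻¹ hzz
      have h2 : w⁻¹ * i z⁻¹ = i z⁻¹ * w⁻¹ := by
        rw [inv_mul_eq_iff_eq_mul, ← mul_assoc, h1, mul_inv_cancel_right]
      calc t * w⁻¹ * t = (t⁻¹ * w * t⁻¹)⁻¹ := by group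
        _ = (t * w * t)⁻¹ := by rw [P.t_inv]
        _ = w⁻¹ * i z⁻¹ := by rw [ew, mul_inv_rev, h2, map_inv]

theorem mem_Wst {P : Pos S i t} {a : ZMod 8} {w : G} : w ∈ Wst P a ↔
    (∀ y : Y, (∀ z ∈ S.Zc a, y * z = z * y) → w * i y = i y * w) ∧ ∃ z ∈ S.Zc a, t * w * t = w * i z := Iff.rfl

/-- naturality of `Wst` -/
theorem Wst_conj (P : Pos S i t) {a b : ZMod 8} {g : Y} (hg : ∀ z, z ∈ S.Zc a ↔ g * z * g⁻¹ ∈ S.Zc b) {w : G}
    (hw : w ∈ Wst P a) : i g * w * (i g)⁻¹ ∈ Wst P b := by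
  obtain ⟨h2, z, hz, h3⟩ := hw
  have hgt := P.ti g
  have hgt' : t * (i g)⁻¹ = (i g)⁻¹ * t := by
    have := P.ti g⁻¹
    rwa [map_inv] at this
  refine ⟨?_, g * z * g⁻¹, (hg z).1 hz, ?_⟩
  · intro y hy
    have h5 := h2 (g⁻¹ * y * g) (by
      intro z hz
      have h6 := hy _ ((hg z).1 hz)
      calc g⁻¹ * y * g * z = g⁻¹ * (y * (g * z * g⁻¹)) * g := by group
        _ = z * (g⁻¹ * y * g) := by rw [h6]; group)
    rw [map_mul, map_mul, map_inv] at h5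
    calc i g * w * (i g)⁻¹ * i y = i g * (w * ((i g)⁻¹ * i y * i g)) * (i g)⁻¹ := by group
      _ = i y * (i g * w * (i g)⁻¹) := by rw [h5]; group
  · rw [map_mul, map_mul, map_inv]
    calc t * (i g * w * (i g)⁻¹) * t = (t * i g) * w * ((i g)⁻¹ * t) := by group
      _ = i g * (t * w * t) * (i g)⁻¹ := by rw [hgt, ← hgt']; group
      _ = i g * w * (i g)⁻¹ * (i g * i z * (i g)⁻¹) := by rw [h3]; group

section

variable (P : Pos S i t)

include P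

/-- `C_Y(Z_4) = P_4` -/
theorem mem_PL_of_comm {y : Y} (hy : ∀ z ∈ S.Zc 2, y * z = z * y) : y ∈ S.PL := by
  have := P.finF
  have h1 : S.e 2 0 1 ≠ 1 := fun h => one_ne_zero (S.e_eq_one h).2
  rw [← S.centralizer_z (z := S.e 2 0 1) ⟨1, rfl⟩ h1, Subgroup.mem_centralizer_singleton_iff]
  exact hy _ ⟨1, rfl⟩

theorem comm_PL {w : G} (hw : w ∈ Wst P 2) {y : Y} (hy : y ∈ S.PL) : w * i y = i y * w :=
  hw.1 y fun _ hz => S.comm_PL hy hz

theorem mk2 {w : G} (h1 : ∀ y ∈ S.PL, w * i y = i y * w) {u : F} (h2 : t * w * t = w * i (S.e 2 0 u)) : w ∈ Wst P 2 :=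
  ⟨fun _ hy => h1 _ (mem_PL_of_comm P hy), _, ⟨u, rfl⟩, h2⟩

/-- the kernel of `τ` -/
theorem ker2 {w : G} (hw : w ∈ Wst P 2) (hwt : w * t = t * w) : ∃ u, w = i (S.e 2 0 u) ∨ w = t * i (S.e 2 0 u) := by
  obtain ⟨y, hy, h⟩ := P.lift (A := (S.PL : Set Y)) (a := 2) (fun z hz => by
    obtain ⟨u, rfl⟩ := hz
    exact mem_J (S.mX4 0 u) (by norm_num) (by norm_num)) hwt (fun y hy => comm_PL P hw hy)
  obtain ⟨u, rfl⟩ := S.center_PL (g := y) (fun x hx => ((Subgroup.mem_centralizer_iff.1 hy) x hx).symm)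
  exact ⟨u, h⟩

/-- the torus element `h c (σ c)` centralises `X_6` -/
theorem h_six (c : Fˣ) (p w : F) : S.h c (Units.map (σ : F →* F) c) * S.e 3 p w *
    (S.h c (Units.map (σ : F →* F) c))⁻¹ = S.e 3 p w := by
  rw [S.h_e, chE_three, div_self', Units.val_one, map_one, one_mul, one_mul, one_mul]

theorem h_one (c : Fˣ) (x : F) : S.h c (Units.map (σ : F →* F) c) * S.o 0 x *
    (S.h c (Units.map (σ : F →* F) c))⁻¹ = S.o 0 (c * σ c * x) := by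
  rw [S.h_o]
  congr 1

theorem h_four (c : Fˣ) (x : F) : S.h c (Units.map (σ : F →* F) c) * S.e 2 0 x *
    (S.h c (Units.map (σ : F →* F) c))⁻¹ = S.e 2 0 (c * σ c * x) := by
  have h1 : chE σ 2 c (Units.map (σ : F →* F) c) = c := by
    rw [chE_two, map_map σ S.sq, pow_two, mul_div_cancel_right]
  rw [S.h_e, h1, mul_zero]

/-- `[w, x_1(a)]` -/
def gx (i : Y →* G) (S : Full σ Y) (w : G) (a : F) : G := w * i (S.o 0 a) * w⁻¹ * (i (S.o 0 a))⁻¹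

theorem r14 (a u : F) : i (S.o 0 a) * i (S.e 2 0 u) = i (S.e 2 0 u) * i (S.o 0 a) := by
  rw [← map_mul, ← map_mul, S.comm_Z4 (k := 1) (by norm_num) (by norm_num) (S.mX1 a) u]

theorem r16 (a u : F) : i (S.o 0 a) * i (S.e 3 0 u) = i (S.e 3 0 u) * i (S.o 0 a) * i (S.e 2 0 (a * u)) := by
  have r1 : S.o 0 a * S.e 3 0 u = S.e 3 0 u * S.o 0 a * S.e 1 0 (σ a * 0) * S.o 1 (a * σ 0) *
      S.e 2 0 (a * 0 * σ 0 + a * u) := S.o_e3 0 a 0 u
  rw [map_zero, mul_zero, mul_zero, zero_mul, zero_add, S.o_zero, S.e_zero, mul_one, mul_one] at r1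
  rw [← map_mul, r1, map_mul, map_mul]

/-- the commutator with `t` -/
theorem gx_t {w : G} {u : F} (hw : ∀ y : Y, (∀ z ∈ S.Zc 3, y * z = z * y) → w * i y = i y * w)
    (h : t * w * t = w * i (S.e 3 0 u)) (a : F) : t * gx i S w a * t = gx i S w a * i (S.e 2 0 (a * u)) := by
  have c4 : ∀ v, w * i (S.e 2 0 v) = i (S.e 2 0 v) * w := fun v => hw _ (by
    rintro _ ⟨x, rfl⟩
    have h := S.e_e1 2 0 v 0 x
    rw [mul_zero, S.o_zero, mul_one] at h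
    exact h)
  have c6 : ∀ v, w * i (S.e 3 0 v) = i (S.e 3 0 v) * w := fun v => hw _ (by
    rintro _ ⟨x, rfl⟩
    rw [S.e_mul, S.e_mul]; congr 1; ring)
  have h1 : t * w⁻¹ * t = w⁻¹ * (i (S.e 3 0 u))⁻¹ := by
    have e : t * w⁻¹ * t = (t * w * t)⁻¹ := by
      calc t * w⁻¹ * t = (t⁻¹ * w * t⁻¹)⁻¹ := by group
        _ = _ := by rw [P.t_inv]
    rw [e, h, c6, mul_inv_rev]
  have hx : t * i (S.o 0 a) * t = i (S.o 0 a) := by rw [P.ti, mul_assoc, P.tt, mul_one]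
  have hx' : t * (i (S.o 0 a))⁻¹ * t = (i (S.o 0 a))⁻¹ := by
    have := P.ti (S.o 0 a)⁻¹
    rw [map_inv] at this
    rw [this, mul_assoc, P.tt, mul_one]
  have h2 : i (S.e 3 0 u) * i (S.o 0 a) * (i (S.e 3 0 u))⁻¹ = i (S.e 2 0 (a * u)) * i (S.o 0 a) := by
    have h3 := r16 P (t := t) a u
    have h4 : i (S.e 3 0 u) * i (S.o 0 a) = i (S.o 0 a) * i (S.e 3 0 u) * (i (S.e 2 0 (a * u)))⁻¹ := by
      rw [h3]; group
    have h5 : (i (S.e 3 0 u) : G) * i (S.e 2 0 (a * u)) = i (S.e 2 0 (a * u)) * i (S.e 3 0 u) := by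
      have h := S.e_e1 2 0 (a * u) 0 u
      rw [mul_zero, S.o_zero, mul_one] at h
      rw [← map_mul, ← map_mul]
      exact (congrArg i h).symm
    have h6 : (i (S.e 2 0 (a * u)))⁻¹ = i (S.e 2 0 (a * u)) := by
      rw [← map_inv]; congr 1
      apply inv_eq_of_mul_eq_one_left
      rw [S.e_mul, add_zero, zero_mul, add_zero, S.add_self, S.e_zero]
    rw [h4, h6]
    calc i (S.o 0 a) * i (S.e 3 0 u) * i (S.e 2 0 (a * u)) * (i (S.e 3 0 u))⁻¹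
        = i (S.o 0 a) * (i (S.e 3 0 u) * i (S.e 2 0 (a * u))) * (i (S.e 3 0 u))⁻¹ := by group
      _ = i (S.o 0 a) * i (S.e 2 0 (a * u)) := by rw [h5]; group
      _ = _ := r14 P (t := t) a _
  calc t * gx i S w a * t = t * w * 1 * i (S.o 0 a) * 1 * w⁻¹ * 1 * (i (S.o 0 a))⁻¹ * t := by
        rw [gx]; group
    _ = (t * w * t) * (t * i (S.o 0 a) * t) * (t * w⁻¹ * t) * (t * (i (S.o 0 a))⁻¹ * t) := by
        rw [← P.tt]; group
    _ = w * (i (S.e 3 0 u) * i (S.o 0 a)) * (w⁻¹ * (i (S.e 3 0 u))⁻¹) * (i (S.o 0 a))⁻¹ := by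
        rw [h, hx, h1, hx']; group
    _ = w * (i (S.e 3 0 u) * i (S.o 0 a) * (i (S.e 3 0 u))⁻¹) * w⁻¹ * (i (S.o 0 a))⁻¹ := by
        have e : w⁻¹ * (i (S.e 3 0 u))⁻¹ = (i (S.e 3 0 u))⁻¹ * w⁻¹ := by
          rw [← mul_inv_rev, ← c6, mul_inv_rev]
        rw [e]; group
    _ = (w * i (S.e 2 0 (a * u))) * i (S.o 0 a) * w⁻¹ * (i (S.o 0 a))⁻¹ := by rw [h2]; group
    _ = i (S.e 2 0 (a * u)) * gx i S w a := by rw [c4, gx]; group
    _ = _ := by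
      -- `x_4'(a u)` commutes with everything
      have e1 : i (S.e 2 0 (a * u)) * w = w * i (S.e 2 0 (a * u)) := (c4 _).symm
      have e2 : i (S.e 2 0 (a * u)) * w⁻¹ = w⁻¹ * i (S.e 2 0 (a * u)) := by
        rw [eq_inv_mul_iff_mul_eq, ← mul_assoc, c4, mul_inv_cancel_right]
      have e3 := r14 P (t := t) a (a * u)
      have e4 : i (S.e 2 0 (a * u)) * (i (S.o 0 a))⁻¹ = (i (S.o 0 a))⁻¹ * i (S.e 2 0 (a * u)) := by
        rw [eq_inv_mul_iff_mul_eq, ← mul_assoc, e3, mul_inv_cancel_right]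
      rw [gx]
      calc i (S.e 2 0 (a * u)) * (w * i (S.o 0 a) * w⁻¹ * (i (S.o 0 a))⁻¹)
          = (i (S.e 2 0 (a * u)) * w) * i (S.o 0 a) * w⁻¹ * (i (S.o 0 a))⁻¹ := by group
        _ = w * (i (S.e 2 0 (a * u)) * i (S.o 0 a)) * w⁻¹ * (i (S.o 0 a))⁻¹ := by rw [e1]; group
        _ = w * i (S.o 0 a) * (i (S.e 2 0 (a * u)) * w⁻¹) * (i (S.o 0 a))⁻¹ := by rw [← e3]; group
        _ = w * i (S.o 0 a) * w⁻¹ * (i (S.e 2 0 (a * u)) * (i (S.o 0 a))⁻¹) := by rw [e2]; group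
        _ = _ := by rw [e4]; group

/-- elements of `Wst 3` commute with `X_2, …, X_10` -/
theorem comm_P6 {w : G} (hw : w ∈ Wst P 3) {k : ℤ} (h1 : 2 ≤ k) (h2 : k ≤ 10) {y : Y} (hy : y ∈ S.XZ k) :
    w * i y = i y * w := hw.1 y (by rintro _ ⟨v, rfl⟩; exact S.comm_Z6 h1 h2 hy v)

/-- `[w, x_1(a)]` commutes with `Q_5` -/
theorem gx_comm {w : G} (hw : w ∈ Wst P 3) (a : F) {y : Y} (hy : y ∈ J S.XZ 2 8) :
    gx i S w a * i y = i y * gx i S w a := by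
  have hcw : ∀ x ∈ J S.XZ 2 8, w * i x = i x * w := by
    have : J S.XZ 2 8 ≤ (Subgroup.centralizer ({w} : Set G)).comap i := J_le fun k h1 h2 x hx => by
      rw [Subgroup.mem_comap, Subgroup.mem_centralizer_singleton_iff]
      exact (comm_P6 P hw h1 (by omega) hx).symm
    intro x hx
    exact (Subgroup.mem_centralizer_singleton_iff.1 (this hx)).symm
  have hy' : (S.o 0 a)⁻¹ * y * S.o 0 a ∈ J S.XZ 2 8 := by
    have h1 := S.zsys8.le_normalizer (a := 2) (b := 8) (by norm_num)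
    have h2 : S.o 0 a ∈ Subgroup.normalizer (J S.XZ 2 8 : Set Y) := h1 (mem_J (S.mX1 a) (by norm_num) (by norm_num))
    have h3 := (Subgroup.mem_normalizer_iff.1 (inv_mem h2) y).1 hy
    rwa [inv_inv] at h3
  have h1 := hcw _ hy
  have h2 := hcw _ hy'
  have h3 : w⁻¹ * i ((S.o 0 a)⁻¹ * y * S.o 0 a) = i ((S.o 0 a)⁻¹ * y * S.o 0 a) * w⁻¹ := by
    rw [inv_mul_eq_iff_eq_mul, ← mul_assoc, h2, mul_inv_cancel_right]
  rw [map_mul, map_mul, map_inv] at h3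
  rw [gx]
  calc w * i (S.o 0 a) * w⁻¹ * (i (S.o 0 a))⁻¹ * i y
      = w * i (S.o 0 a) * (w⁻¹ * ((i (S.o 0 a))⁻¹ * i y * i (S.o 0 a))) * (i (S.o 0 a))⁻¹ := by group
    _ = (w * i y) * i (S.o 0 a) * w⁻¹ * (i (S.o 0 a))⁻¹ := by rw [h3]; group
    _ = _ := by rw [h1]; group

/-- the hypothesis: the output of section 1.4 -/
def HC (_P : Pos S i t) : Prop := ∀ u : F, ∃ w : G, (∀ y ∈ S.PL, w * i y = i y * w) ∧ t * w * t = w * i (S.e 2 0 u)

/-- first step: `[w, x_1(a)] ∈ x_6'(β) Wst 2` -/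
theorem gx_form (hc : HC P) {w : G} (hw : w ∈ Wst P 3) (a : F) : ∃ β : F, ∃ m ∈ Wst P 2,
    gx i S w a = i (S.e 3 0 β) * m := by
  obtain ⟨hw1, z, ⟨u, rfl⟩, hw2⟩ := id hw
  obtain ⟨m, hm1, hm2⟩ := hc (a * u)
  have hmW : m ∈ Wst P 2 := mk2 P hm1 hm2
  have h1 := gx_t P hw1 hw2 a
  have h2 : gx i S w a * m⁻¹ * t = t * (gx i S w a * m⁻¹) := by
    have h3 : t * m⁻¹ * t = (i (S.e 2 0 (a * u)))⁻¹ * m⁻¹ := by
      have e : t * m⁻¹ * t = (t * m * t)⁻¹ := by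
        calc t * m⁻¹ * t = (t⁻¹ * m * t⁻¹)⁻¹ := by group
          _ = _ := by rw [P.t_inv]
      rw [e, hm2, mul_inv_rev]
    have h4 : t * (gx i S w a * m⁻¹) * t = gx i S w a * m⁻¹ := by
      calc t * (gx i S w a * m⁻¹) * t = t * gx i S w a * 1 * m⁻¹ * t := by group
        _ = (t * gx i S w a * t) * (t * m⁻¹ * t) := by rw [← P.tt]; group
        _ = _ := by rw [h1, h3]; group
    calc gx i S w a * m⁻¹ * t = (t * (gx i S w a * m⁻¹) * t) * t := by rw [h4]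
      _ = t * (gx i S w a * m⁻¹) * (t * t) := by group
      _ = _ := by rw [P.tt, mul_one]
  have hmJ : ∀ y ∈ J S.XZ 2 8, m⁻¹ * i y = i y * m⁻¹ := fun y hy => by
    have h3 := hm1 y (J_mono (by norm_num) (by norm_num) hy)
    rw [inv_mul_eq_iff_eq_mul, ← mul_assoc, h3, mul_inv_cancel_right]
  obtain ⟨y, hy, h⟩ := P.lift (A := (J S.XZ 2 8 : Set Y)) (a := 2) (fun z hz => by
    obtain ⟨u, rfl⟩ := hz
    exact mem_J (S.mX4 0 u) (by norm_num) (by norm_num)) h2 (fun y hy => by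
    rw [mul_assoc, hmJ y hy, ← mul_assoc, gx_comm P hw a hy, mul_assoc])
  rw [S.centralizer_J28] at hy
  obtain ⟨α, β, rfl⟩ := hy
  have hcomm : S.e 2 0 α * S.e 3 0 β = S.e 3 0 β * S.e 2 0 α := by
    have h := S.e_e1 2 0 α 0 β
    rw [mul_zero, S.o_zero, mul_one] at h
    exact h
  have hz : i (S.e 2 0 α) ∈ Wst P 2 := by
    refine ⟨fun y hy => ?_, 1, one_mem _, ?_⟩
    · rw [← map_mul, ← map_mul, hy _ ⟨α, rfl⟩]
    · rw [P.ti, mul_assoc, P.tt, map_one]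
  have htW : t ∈ Wst P 2 := ⟨fun y _ => P.ti y, 1, one_mem _, by rw [P.tt, one_mul, map_one, mul_one]⟩
  refine ⟨β, ?_⟩
  have e0 : gx i S w a = gx i S w a * m⁻¹ * m := by group
  rcases h with h | h
  · refine ⟨i (S.e 2 0 α) * m, mul_mem hz hmW, ?_⟩
    rw [e0, h, hcomm, map_mul, mul_assoc]
  · refine ⟨t * i (S.e 2 0 α) * m, mul_mem (mul_mem htW hz) hmW, ?_⟩
    rw [e0, h, hcomm, map_mul]
    calc t * (i (S.e 3 0 β) * i (S.e 2 0 α)) * m = (t * i (S.e 3 0 β)) * i (S.e 2 0 α) * m := by group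
      _ = _ := by rw [P.ti]; group

/-- additivity -/
theorem gx_add (w : G) (a b : F) : gx i S w (a + b) = gx i S w a * (i (S.o 0 a) * gx i S w b * (i (S.o 0 a))⁻¹) := by
  rw [gx, gx, gx, ← S.o_add, map_mul]
  group

/-- some unit `c ≠ 1` -/
theorem exists_c : ∃ c : Fˣ, (c : F) * σ c ≠ 1 := by
  by_contra hcon
  push Not at hcon
  have := P.finF
  have h1 : ∀ x : F, x = 0 ∨ x = 1 := by
    intro x
    by_cases hx : x = 0
    · exact Or.inl hx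
    · right
      have h2 := hcon (Units.mk0 x hx)
      have h3 := S.unit_eq_one (x := Units.mk0 x hx) (Units.ext h2)
      exact congrArg Units.val h3
  have hle : Nat.card F ≤ Nat.card (Fin 2) := by
    refine Nat.card_le_card_of_surjective (fun k : Fin 2 => if k = 0 then (0 : F) else 1) ?_
    intro s
    rcases h1 s with rfl | rfl
    · exact ⟨0, rfl⟩
    · exact ⟨1, rfl⟩
  have hb := P.big
  have h2' : Nat.card (Fin 2) = 2 := by simp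
  omega

/-- the torus element normalises `Z_{2a}` -/
theorem h_Zc (c d : Fˣ) (a : ZMod 8) (z : Y) : z ∈ S.Zc a ↔ S.h c d * z * (S.h c d)⁻¹ ∈ S.Zc a := by
  constructor
  · exact fun hz => S.T_conj_Zc (S.mem_T.2 ⟨c, d, rfl⟩) hz
  · intro hz
    have h1 := S.T_conj_Zc (S.mem_T.2 ⟨c⁻¹, d⁻¹, rfl⟩) hz
    rw [← S.h_inv] at h1
    have e : (S.h c d)⁻¹ * (S.h c d * z * (S.h c d)⁻¹) * (S.h c d)⁻¹⁻¹ = z := by group
    rwa [e] at h1

/-- **`[w, x_1(a)] ∈ Wst 2`** -/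
theorem gx_mem (hc : HC P) {w : G} (hw : w ∈ Wst P 3) (a' : F) : gx i S w a' ∈ Wst P 2 := by
  obtain ⟨c, hcc⟩ := exists_c P
  set h := S.h c (Units.map (σ : F →* F) c) with hh
  set l : F := c * σ c with hl
  have hl1 : l + 1 ≠ 0 := by
    intro h0
    apply hcc
    have h2 := S.two
    linear_combination h0 - h2
  set a : F := a' / (l + 1) with ha
  have hsum : l * a + a = a' := by rw [ha]; field_simp
  obtain ⟨β, m, hm, hg⟩ := gx_form P hc hw a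
  -- conjugate by the torus element
  have hwh : w * i h = i h * w := hw.1 h (by
    rintro _ ⟨v, rfl⟩
    have h1 := h_six P (t := t) c 0 v
    rw [← hh] at h1
    exact mul_inv_eq_iff_eq_mul.1 h1)
  have hg2 : gx i S w (l * a) = i (S.e 3 0 β) * (i h * m * (i h)⁻¹) := by
    have h1 := h_one P (t := t) c a
    rw [← hh, ← hl] at h1
    have h2 : i (S.o 0 (l * a)) = i h * i (S.o 0 a) * (i h)⁻¹ := by rw [← h1, map_mul, map_mul, map_inv]
    have h3 : i h * i (S.e 3 0 β) * (i h)⁻¹ = i (S.e 3 0 β) := by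
      rw [← map_mul, ← map_inv, ← map_mul, hh, h_six P (t := t)]
    have h4 : w⁻¹ * i h = i h * w⁻¹ := by rw [inv_mul_eq_iff_eq_mul, ← mul_assoc, hwh, mul_inv_cancel_right]
    calc gx i S w (l * a) = (w * i h) * i (S.o 0 a) * (i h)⁻¹ * w⁻¹ * i h * (i (S.o 0 a))⁻¹ * (i h)⁻¹ := by
          rw [gx, h2]; group
      _ = i h * w * i (S.o 0 a) * (i h)⁻¹ * (w⁻¹ * i h) * (i (S.o 0 a))⁻¹ * (i h)⁻¹ := by rw [hwh]; group
      _ = i h * gx i S w a * (i h)⁻¹ := by rw [h4, gx]; group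
      _ = (i h * i (S.e 3 0 β) * (i h)⁻¹) * (i h * m * (i h)⁻¹) := by rw [hg]; group
      _ = _ := by rw [h3]
  have hm' : i h * m * (i h)⁻¹ ∈ Wst P 2 := Wst_conj P (fun z => h_Zc P (t := t) c _ 2 z) hm
  set m' := i h * m * (i h)⁻¹ with hm'd
  -- the sum
  have x1 : ∀ {v : G}, v ∈ Wst P 2 → v * i (S.o 0 (l * a)) = i (S.o 0 (l * a)) * v := fun hv =>
    comm_PL P hv (mem_J (S.mX1 _) (by norm_num) (by norm_num))
  have x6 : ∀ {v : G}, v ∈ Wst P 2 → v * i (S.e 3 0 β) = i (S.e 3 0 β) * v := fun hv =>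
    comm_PL P hv (mem_J (S.mX6 0 _) (by norm_num) (by norm_num))
  have hz : i (S.e 2 0 (l * a * β)) ∈ Wst P 2 := by
    refine ⟨fun y hy => ?_, 1, one_mem _, ?_⟩
    · rw [← map_mul, ← map_mul, hy _ ⟨_, rfl⟩]
    · rw [P.ti, mul_assoc, P.tt, map_one]
  have s6 : i (S.e 3 0 β) * i (S.e 3 0 β) = 1 := by
    rw [← map_mul, S.e_mul, add_zero, zero_mul, add_zero, S.add_self, S.e_zero, map_one]
  rw [← hsum, gx_add P (t := t), hg2, hg]
  have e : i (S.e 3 0 β) * m' * (i (S.o 0 (l * a)) * (i (S.e 3 0 β) * m) * (i (S.o 0 (l * a)))⁻¹) =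
      m' * i (S.e 2 0 (l * a * β)) * m := by
    calc i (S.e 3 0 β) * m' * (i (S.o 0 (l * a)) * (i (S.e 3 0 β) * m) * (i (S.o 0 (l * a)))⁻¹)
        = i (S.e 3 0 β) * m' * (i (S.o 0 (l * a)) * i (S.e 3 0 β)) * m * (i (S.o 0 (l * a)))⁻¹ := by group
      _ = i (S.e 3 0 β) * (m' * i (S.e 3 0 β)) * (i (S.o 0 (l * a)) * (i (S.e 2 0 (l * a * β)) * m)) *
            (i (S.o 0 (l * a)))⁻¹ := by
          rw [r16 P (t := t)]; group
      _ = (i (S.e 3 0 β) * i (S.e 3 0 β)) * m' * (i (S.e 2 0 (l * a * β)) * m) := by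
          rw [← x1 (mul_mem hz hm), x6 hm']; group
      _ = _ := by rw [s6]; group
  rw [e]
  exact mul_mem (mul_mem hm' hz) hm

/-- `[w, x_1(a)]` is an involution -/
theorem gx_sq (hc : HC P) {w : G} (hw : w ∈ Wst P 3) (a : F) : gx i S w a * gx i S w a = 1 := by
  have h1 : gx i S w a * i (S.o 0 a) = i (S.o 0 a) * gx i S w a :=
    comm_PL P (gx_mem P hc hw a) (mem_J (S.mX1 _) (by norm_num) (by norm_num))
  have h2 : i (S.o 0 a) * i (S.o 0 a) = 1 := by rw [← map_mul, S.o_add, S.add_self, S.o_zero, map_one]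
  have h3 : gx i S w a * i (S.o 0 a) = w * i (S.o 0 a) * w⁻¹ := by rw [gx]; group
  calc gx i S w a * gx i S w a = gx i S w a * gx i S w a * (i (S.o 0 a) * i (S.o 0 a)) := by rw [h2, mul_one]
    _ = gx i S w a * (gx i S w a * i (S.o 0 a)) * i (S.o 0 a) := by group
    _ = gx i S w a * (i (S.o 0 a) * gx i S w a) * i (S.o 0 a) := by rw [h1]
    _ = (gx i S w a * i (S.o 0 a)) * (gx i S w a * i (S.o 0 a)) := by group
    _ = w * (i (S.o 0 a) * i (S.o 0 a)) * w⁻¹ := by rw [h3]; group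
    _ = 1 := by rw [h2]; group

/-- `a ↦ [w, x_1(a)]` is a homomorphism -/
theorem gx_mul (hc : HC P) {w : G} (hw : w ∈ Wst P 3) (a b : F) :
    gx i S w (a + b) = gx i S w a * gx i S w b := by
  rw [gx_add P (t := t)]
  have h1 : gx i S w b * i (S.o 0 a) = i (S.o 0 a) * gx i S w b :=
    comm_PL P (gx_mem P hc hw b) (mem_J (S.mX1 _) (by norm_num) (by norm_num))
  rw [← h1, mul_inv_cancel_right]

/-! ### transport -/

theorem rotk_Zc (k : ℤ) (a : ℤ) (z : Y) : z ∈ S.Zc (a : ZMod 8) ↔ S.rot ^ k * z * (S.rot ^ k)⁻¹ ∈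
    S.Zc ((a + k : ℤ) : ZMod 8) := by
  have e : ((a + k : ℤ) : ZMod 8) = (a : ZMod 8) + (k : ZMod 8) := by push_cast; rfl
  rw [e, ← S.map_Zc k a]
  constructor
  · intro hz
    exact ⟨z, hz, rfl⟩
  · rintro ⟨x, hx, hxz⟩
    have h : S.rot ^ k * x * (S.rot ^ k)⁻¹ = S.rot ^ k * z * (S.rot ^ k)⁻¹ := hxz
    rwa [← mul_left_cancel (mul_right_cancel h)]

theorem n1_Zc (z : Y) : z ∈ S.Zc 2 ↔ S.n1 * z * S.n1⁻¹ ∈ S.Zc 3 := by
  constructor
  · rintro ⟨u, rfl⟩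
    exact ⟨u, (S.n1_e 2 0 u).symm⟩
  · rintro ⟨u, hu⟩
    have h1 : S.n1⁻¹ * S.e 3 0 u * S.n1 = S.e 2 0 u := S.n1_e' 3 0 u
    have h2 : z = S.n1⁻¹ * (S.n1 * z * S.n1⁻¹) * S.n1 := by group
    rw [h2, ← hu, h1]
    exact ⟨u, rfl⟩

theorem n1_Zc' (z : Y) : z ∈ S.Zc 3 ↔ S.n1 * z * S.n1⁻¹ ∈ S.Zc 2 := by
  constructor
  · rintro ⟨u, rfl⟩
    exact ⟨u, (S.n1_e 3 0 u).symm⟩
  · rintro ⟨u, hu⟩
    have h1 : S.n1⁻¹ * S.e 2 0 u * S.n1 = S.e 3 0 u := S.n1_e' 2 0 u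
    have h2 : z = S.n1⁻¹ * (S.n1 * z * S.n1⁻¹) * S.n1 := by group
    rw [h2, ← hu, h1]
    exact ⟨u, rfl⟩

/-- an element of `Wst 3` over `x_6'(1)` -/
theorem exists_w1 (hc : HC P) : ∃ w ∈ Wst P 3, t * w * t = w * i (S.e 3 0 1) := by
  obtain ⟨m, hm1, hm2⟩ := hc 1
  have hm := mk2 P hm1 hm2
  refine ⟨i S.n1 * m * (i S.n1)⁻¹, Wst_conj P (fun z => n1_Zc P (t := t) z) hm, ?_⟩
  have h1 : (i (S.e 3 0 1) : G) = i S.n1 * i (S.e 2 0 1) * (i S.n1)⁻¹ := by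
    rw [← map_mul, ← map_inv, ← map_mul, S.n1_e]
    rfl
  have h2 : (i S.n1)⁻¹ * t = t * (i S.n1)⁻¹ := by
    have := P.ti S.n1⁻¹
    rw [map_inv] at this
    exact this.symm
  rw [h1]
  calc t * (i S.n1 * m * (i S.n1)⁻¹) * t = (t * i S.n1) * m * ((i S.n1)⁻¹ * t) := by group
    _ = i S.n1 * (t * m * t) * (i S.n1)⁻¹ := by rw [P.ti, h2]; group
    _ = _ := by rw [hm2]; group

/-! ### the group `W 2` -/

theorem e2_mul (u v : F) : S.e 2 0 u * S.e 2 0 v = S.e 2 0 (u + v) := by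
  rw [S.e_mul, add_zero, zero_mul, add_zero]

/-- the elements of `WS i t Z_4` are the `[w, x_1(a)] z` -/
theorem form2 (hc : HC P) {w : G} (hw : w ∈ Wst P 3) (hw1 : t * w * t = w * i (S.e 3 0 1)) (v : G) :
    v ∈ WS i t (S.Zc 2) ↔ ∃ a u, v = gx i S w a * i (S.e 2 0 u) := by
  have hg : ∀ a, t * gx i S w a * t = gx i S w a * i (S.e 2 0 a) := fun a => by
    have := gx_t P hw.1 hw1 a
    rwa [mul_one] at this
  have hm := fun a => gx_mem P hc hw a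
  have hz : ∀ u, i (S.e 2 0 u) ∈ Wst P 2 := fun u => by
    refine ⟨fun y hy => ?_, 1, one_mem _, ?_⟩
    · rw [← map_mul, ← map_mul, hy _ ⟨_, rfl⟩]
    · rw [P.ti, mul_assoc, P.tt, map_one]
  have hgz : ∀ a u, gx i S w a * i (S.e 2 0 u) = i (S.e 2 0 u) * gx i S w a := fun a u =>
    comm_PL P (hm a) (mem_J (S.mX4 0 u) (by norm_num) (by norm_num))
  have sqz : ∀ u, i (S.e 2 0 u) * i (S.e 2 0 u) = 1 := fun u => by
    rw [← map_mul, e2_mul P (t := t), S.add_self, S.e_zero, map_one]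
  constructor
  · rintro ⟨h1, h2, ⟨z, ⟨a, rfl⟩, h3⟩, h4⟩
    have hv : v ∈ Wst P 2 := ⟨h2, _, ⟨a, rfl⟩, h3⟩
    have h5 : v * gx i S w a ∈ Wst P 2 := mul_mem hv (hm a)
    have h6 : v * gx i S w a * t = t * (v * gx i S w a) := by
      have h7 : t * (v * gx i S w a) * t = v * gx i S w a := by
        calc t * (v * gx i S w a) * t = t * v * 1 * gx i S w a * t := by group
          _ = (t * v * t) * (t * gx i S w a * t) := by rw [← P.tt]; group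
          _ = v * (i (S.e 2 0 a) * gx i S w a) * i (S.e 2 0 a) := by rw [h3, hg]; group
          _ = v * gx i S w a * (i (S.e 2 0 a) * i (S.e 2 0 a)) := by rw [← hgz]; group
          _ = _ := by rw [sqz, mul_one]
      calc v * gx i S w a * t = (t * (v * gx i S w a) * t) * t := by rw [h7]
        _ = t * (v * gx i S w a) * (t * t) := by group
        _ = _ := by rw [P.tt, mul_one]
    obtain ⟨u, h7 | h7⟩ := ker2 P h5 h6
    · refine ⟨a, u, ?_⟩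
      rw [hgz, ← h7, mul_assoc, gx_sq P hc hw a, mul_one]
    · exfalso
      have h8 : v = t * i (S.e 2 0 u) * gx i S w a := by rw [← h7, mul_assoc, gx_sq P hc hw a, mul_one]
      have h9 : v * v = i (S.e 2 0 a) := by
        calc v * v = (t * i (S.e 2 0 u)) * gx i S w a * t * i (S.e 2 0 u) * gx i S w a := by rw [h8]; group
          _ = i (S.e 2 0 u) * (t * gx i S w a * t) * (i (S.e 2 0 u) * gx i S w a) := by rw [P.ti]; group
          _ = (i (S.e 2 0 u) * gx i S w a) * i (S.e 2 0 a) * (i (S.e 2 0 u) * gx i S w a) := by rw [hg]; group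
          _ = (gx i S w a * (i (S.e 2 0 u) * i (S.e 2 0 a))) * (gx i S w a * i (S.e 2 0 u)) := by
            rw [← hgz]; group
          _ = (gx i S w a * (i (S.e 2 0 a) * i (S.e 2 0 u))) * (gx i S w a * i (S.e 2 0 u)) := by
            rw [← map_mul, e2_mul P (t := t), add_comm, ← e2_mul P (t := t), map_mul]
          _ = i (S.e 2 0 a) * (gx i S w a * (i (S.e 2 0 u) * gx i S w a)) * i (S.e 2 0 u) := by
            rw [← mul_assoc (gx i S w a), hgz]; group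
          _ = i (S.e 2 0 a) * (gx i S w a * gx i S w a) * (i (S.e 2 0 u) * i (S.e 2 0 u)) := by rw [← hgz]; group
          _ = _ := by rw [gx_sq P hc hw a, sqz]; group
      rw [h1] at h9
      have ha : a = 0 := by
        have h10 : S.e 2 0 a = 1 := P.inj (by rw [← h9, map_one])
        exact (S.e_eq_one h10).2
      apply h4
      refine ⟨_, ⟨u, rfl⟩, ?_⟩
      rw [h8, ha]
      have h11 : gx i S w 0 = 1 := by rw [gx, S.o_zero, map_one]; group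
      rw [h11, mul_one]
  · rintro ⟨a, u, rfl⟩
    have hv := mul_mem (hm a) (hz u)
    refine ⟨?_, hv.1, hv.2, ?_⟩
    · calc gx i S w a * i (S.e 2 0 u) * (gx i S w a * i (S.e 2 0 u))
          = gx i S w a * (i (S.e 2 0 u) * gx i S w a) * i (S.e 2 0 u) := by group
        _ = (gx i S w a * gx i S w a) * (i (S.e 2 0 u) * i (S.e 2 0 u)) := by rw [← hgz]; group
        _ = 1 := by rw [gx_sq P hc hw a, sqz, one_mul]
    · rintro ⟨z, ⟨x, rfl⟩, h⟩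
      have h1 : gx i S w a = t * (i (S.e 2 0 x) * (i (S.e 2 0 u))⁻¹) := by
        rw [← mul_assoc, ← h, mul_inv_cancel_right]
      have h2 : t * gx i S w a * t = gx i S w a := by
        rw [h1, ← map_inv, ← map_mul]
        have e : t * i (S.e 2 0 x * (S.e 2 0 u)⁻¹) * t = i (S.e 2 0 x * (S.e 2 0 u)⁻¹) := by
          rw [P.ti, mul_assoc, P.tt, mul_one]
        calc t * (t * i (S.e 2 0 x * (S.e 2 0 u)⁻¹)) * t = t * (t * i (S.e 2 0 x * (S.e 2 0 u)⁻¹) * t) := by group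
          _ = t * i (S.e 2 0 x * (S.e 2 0 u)⁻¹) := by rw [e]
      have h3 : i (S.e 2 0 a) = 1 := by
        have := hg a
        rw [h2] at this
        exact (mul_eq_left.1 this.symm)
      have ha : a = 0 := (S.e_eq_one (P.inj (h3.trans (map_one i).symm))).2
      rw [ha] at h1
      have h11 : gx i S w 0 = 1 := by rw [gx, S.o_zero, map_one]; group
      rw [h11, ← map_inv, ← map_mul] at h1
      apply P.tY (S.e 2 0 x * (S.e 2 0 u)⁻¹)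
      calc i (S.e 2 0 x * (S.e 2 0 u)⁻¹) = t * (t * i (S.e 2 0 x * (S.e 2 0 u)⁻¹)) := by
            rw [← mul_assoc, P.tt, one_mul]
        _ = t := by rw [← h1, mul_one]

/-- `WS i t Z_4` is closed under multiplication -/
theorem closed2 (hc : HC P) {v v' : G} (hv : v ∈ WS i t (S.Zc 2)) (hv' : v' ∈ WS i t (S.Zc 2)) :
    v * v' ∈ WS i t (S.Zc 2) := by
  obtain ⟨w, hw, hw1⟩ := exists_w1 P hc
  rw [form2 P hc hw hw1] at hv hv' ⊢
  obtain ⟨a, u, rfl⟩ := hv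
  obtain ⟨b, x, rfl⟩ := hv'
  refine ⟨a + b, u + x, ?_⟩
  have hgz : gx i S w b * i (S.e 2 0 u) = i (S.e 2 0 u) * gx i S w b :=
    comm_PL P (gx_mem P hc hw b) (mem_J (S.mX4 0 u) (by norm_num) (by norm_num))
  rw [gx_mul P hc hw, ← e2_mul P (t := t), map_mul]
  calc gx i S w a * i (S.e 2 0 u) * (gx i S w b * i (S.e 2 0 x))
      = gx i S w a * (i (S.e 2 0 u) * gx i S w b) * i (S.e 2 0 x) := by group
    _ = _ := by rw [← hgz]; group

/-- two elements of `WS` with the same `[·, t]` -/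
theorem uniq2 (hc : HC P) {v v' : G} (hv : v ∈ WS i t (S.Zc 2)) (hv' : v' ∈ WS i t (S.Zc 2)) {z : Y}
    (h : t * v * t = v * i z) (h' : t * v' * t = v' * i z) : ∃ x, v = v' * i (S.e 2 0 x) := by
  obtain ⟨w, hw, hw1⟩ := exists_w1 P hc
  have h1 := closed2 P hc hv hv'
  obtain ⟨a, u, e⟩ := (form2 P hc hw hw1 _).1 h1
  have hcomm : v' * i z = i z * v' := by
    obtain ⟨-, h2, ⟨z', hz', h3⟩, -⟩ := hv'
    have e1 : i z = i z' := mul_left_cancel (h'.symm.trans h3)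
    rw [e1]
    refine h2 z' fun x hx => ?_
    obtain ⟨x, rfl⟩ := hx
    obtain ⟨u, rfl⟩ := hz'
    rw [S.e_mul, S.e_mul]; congr 1; ring
  have sqz : i z * i z = 1 := by
    obtain ⟨-, -, ⟨z', ⟨u, rfl⟩, h3⟩, -⟩ := hv'
    have e1 : i z = i (S.e 2 0 u) := mul_left_cancel (h'.symm.trans h3)
    rw [e1, ← map_mul, e2_mul P (t := t), S.add_self, S.e_zero, map_one]
  have h2 : t * (v * v') * t = v * v' := by
    calc t * (v * v') * t = t * v * 1 * v' * t := by group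
      _ = (t * v * t) * (t * v' * t) := by rw [← P.tt]; group
      _ = v * (i z * v') * i z := by rw [h, h']; group
      _ = v * v' * (i z * i z) := by rw [← hcomm]; group
      _ = _ := by rw [sqz, mul_one]
  have h3 : t * (v * v') * t = v * v' * i (S.e 2 0 a) := by
    have h4 : t * gx i S w a * t = gx i S w a * i (S.e 2 0 a) := by
      have := gx_t P hw.1 hw1 a
      rwa [mul_one] at this
    have h5 : t * i (S.e 2 0 u) * t = i (S.e 2 0 u) := by rw [P.ti, mul_assoc, P.tt, mul_one]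
    rw [e]
    calc t * (gx i S w a * i (S.e 2 0 u)) * t = t * gx i S w a * 1 * i (S.e 2 0 u) * t := by group
      _ = (t * gx i S w a * t) * (t * i (S.e 2 0 u) * t) := by rw [← P.tt]; group
      _ = gx i S w a * (i (S.e 2 0 a) * i (S.e 2 0 u)) := by rw [h4, h5]; group
      _ = gx i S w a * (i (S.e 2 0 u) * i (S.e 2 0 a)) := by
        rw [← map_mul, e2_mul P (t := t), add_comm, ← e2_mul P (t := t), map_mul]
      _ = _ := by group
  have ha : a = 0 := by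
    rw [h2] at h3
    have h4 : i (S.e 2 0 a) = 1 := mul_eq_left.1 h3.symm
    exact (S.e_eq_one (P.inj (h4.trans (map_one i).symm))).2
  have h11 : gx i S w 0 = 1 := by rw [gx, S.o_zero, map_one]; group
  rw [ha, h11, one_mul] at e
  refine ⟨u, ?_⟩
  have hv'z : v' * i (S.e 2 0 u) = i (S.e 2 0 u) * v' := by
    refine hv'.2.1 _ fun x hx => ?_
    obtain ⟨x, rfl⟩ := hx
    rw [S.e_mul, S.e_mul]; congr 1; ring
  have h12 : v' * v' = 1 := hv'.1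
  rw [hv'z, ← e, mul_assoc, h12, mul_one]

/-- elements of `WS` over a given element of `Z_4` -/
theorem exists2 (hc : HC P) (a : F) : ∃ v ∈ WS i t (S.Zc 2), t * v * t = v * i (S.e 2 0 a) := by
  obtain ⟨w, hw, hw1⟩ := exists_w1 P hc
  refine ⟨gx i S w a, (form2 P hc hw hw1 _).2 ⟨a, 0, by rw [S.e_zero, map_one, mul_one]⟩, ?_⟩
  have := gx_t P hw.1 hw1 a
  rwa [mul_one] at this

/-- the commutator of elements of `WS Z_4` and `WS Z_6`: first form -/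
theorem comm_form {v w : G} (hv : v ∈ WS i t (S.Zc 2)) (hw : w ∈ WS i t (S.Zc 3)) :
    ∃ α β, v * w * v⁻¹ * w⁻¹ = i (S.e 2 0 α * S.e 3 0 β) ∨ v * w * v⁻¹ * w⁻¹ = t * i (S.e 2 0 α * S.e 3 0 β) := by
  obtain ⟨-, hv2, ⟨z, ⟨a, rfl⟩, hv3⟩, -⟩ := hv
  obtain ⟨-, hw2, ⟨z', ⟨b, rfl⟩, hw3⟩, -⟩ := hw
  have c46 : ∀ x y, S.e 2 0 x * S.e 3 0 y = S.e 3 0 y * S.e 2 0 x := fun x y => by
    have h := S.e_e1 2 0 x 0 y
    rw [mul_zero, S.o_zero, mul_one] at h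
    exact h
  have v4 : v * i (S.e 2 0 a) = i (S.e 2 0 a) * v := hv2 _ (by
    rintro _ ⟨x, rfl⟩; rw [S.e_mul, S.e_mul]; congr 1; ring)
  have v6 : v * i (S.e 3 0 b) = i (S.e 3 0 b) * v := hv2 _ (by
    rintro _ ⟨x, rfl⟩; exact (c46 x b).symm)
  have w4 : w * i (S.e 2 0 a) = i (S.e 2 0 a) * w := hw2 _ (by
    rintro _ ⟨x, rfl⟩; exact c46 a x)
  have w6 : w * i (S.e 3 0 b) = i (S.e 3 0 b) * w := hw2 _ (by
    rintro _ ⟨x, rfl⟩; rw [S.e_mul, S.e_mul]; congr 1; ring)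
  have hvJ : ∀ y ∈ J S.XZ 2 8, v * i y = i y * v := fun y hy =>
    hv2 y fun _ hz => S.comm_PL (J_mono (by norm_num) (by norm_num) hy) hz
  have hwJ : ∀ y ∈ J S.XZ 2 8, w * i y = i y * w := by
    have : J S.XZ 2 8 ≤ (Subgroup.centralizer ({w} : Set G)).comap i := J_le fun k h1 h2 x hx => by
      rw [Subgroup.mem_comap, Subgroup.mem_centralizer_singleton_iff]
      exact (hw2 x (by rintro _ ⟨v, rfl⟩; exact S.comm_Z6 h1 (by omega) hx v)).symm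
    intro x hx
    exact (Subgroup.mem_centralizer_singleton_iff.1 (this hx)).symm
  have inv_of : ∀ {x y : G}, x * y = y * x → x⁻¹ * y = y * x⁻¹ := fun {x y} h => by
    rw [inv_mul_eq_iff_eq_mul, ← mul_assoc, h, mul_inv_cancel_right]
  have hct : v * w * v⁻¹ * w⁻¹ * t = t * (v * w * v⁻¹ * w⁻¹) := by
    have tinv : ∀ x : G, t * x⁻¹ * t = (t * x * t)⁻¹ := fun x => by
      calc t * x⁻¹ * t = (t⁻¹ * x * t⁻¹)⁻¹ := by group
        _ = _ := by rw [P.t_inv]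
    have e1 : t * (v * w * v⁻¹ * w⁻¹) * t = v * w * v⁻¹ * w⁻¹ := by
      calc t * (v * w * v⁻¹ * w⁻¹) * t = t * v * 1 * w * 1 * v⁻¹ * 1 * w⁻¹ * t := by group
        _ = (t * v * t) * (t * w * t) * (t * v⁻¹ * t) * (t * w⁻¹ * t) := by rw [← P.tt]; group
        _ = (v * i (S.e 2 0 a)) * (w * i (S.e 3 0 b)) * (v * i (S.e 2 0 a))⁻¹ * (w * i (S.e 3 0 b))⁻¹ := by
          rw [tinv, tinv, hv3, hw3]
        _ = (i (S.e 2 0 a) * v) * (w * i (S.e 3 0 b)) * (i (S.e 2 0 a) * v)⁻¹ * (w * i (S.e 3 0 b))⁻¹ := by rw [v4]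
        _ = i (S.e 2 0 a) * v * w * (i (S.e 3 0 b) * v⁻¹) * (i (S.e 2 0 a))⁻¹ * (i (S.e 3 0 b))⁻¹ * w⁻¹ := by group
        _ = i (S.e 2 0 a) * v * w * v⁻¹ * (i (S.e 3 0 b) * (i (S.e 2 0 a))⁻¹) * (i (S.e 3 0 b))⁻¹ * w⁻¹ := by
          rw [← inv_of v6]; group
        _ = i (S.e 2 0 a) * v * w * v⁻¹ * ((i (S.e 2 0 a))⁻¹ * w⁻¹) := by
          have h2 : i (S.e 3 0 b) * (i (S.e 2 0 a))⁻¹ = (i (S.e 2 0 a))⁻¹ * i (S.e 3 0 b) := by
            have := congrArg i (c46 a b)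
            rw [map_mul, map_mul] at this
            exact (inv_of this).symm
          rw [h2]; group
        _ = i (S.e 2 0 a) * v * w * (v⁻¹ * w⁻¹ * (i (S.e 2 0 a))⁻¹) := by
          have h2 : (i (S.e 2 0 a))⁻¹ * w⁻¹ = w⁻¹ * (i (S.e 2 0 a))⁻¹ := by
            rw [← mul_inv_rev, w4, mul_inv_rev]
          rw [h2]; group
        _ = (i (S.e 2 0 a) * v) * w * v⁻¹ * w⁻¹ * (i (S.e 2 0 a))⁻¹ := by group
        _ = v * (i (S.e 2 0 a) * w) * v⁻¹ * w⁻¹ * (i (S.e 2 0 a))⁻¹ := by rw [← v4]; group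
        _ = v * w * (i (S.e 2 0 a) * v⁻¹) * w⁻¹ * (i (S.e 2 0 a))⁻¹ := by rw [← w4]; group
        _ = v * w * v⁻¹ * (i (S.e 2 0 a) * w⁻¹) * (i (S.e 2 0 a))⁻¹ := by rw [← inv_of v4]; group
        _ = v * w * v⁻¹ * w⁻¹ := by rw [← inv_of w4]; group
    calc v * w * v⁻¹ * w⁻¹ * t = (t * (v * w * v⁻¹ * w⁻¹) * t) * t := by rw [e1]
      _ = t * (v * w * v⁻¹ * w⁻¹) * (t * t) := by group
      _ = _ := by rw [P.tt, mul_one]
  obtain ⟨y, hy, h⟩ := P.lift (A := (J S.XZ 2 8 : Set Y)) (a := 2) (fun z hz => by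
    obtain ⟨u, rfl⟩ := hz
    exact mem_J (S.mX4 0 u) (by norm_num) (by norm_num)) hct (fun y hy => by
    have e1 := hvJ y hy
    have e2 := hwJ y hy
    have e3 := inv_of e1
    have e4 := inv_of e2
    calc v * w * v⁻¹ * w⁻¹ * i y = v * w * v⁻¹ * (w⁻¹ * i y) := by group
      _ = v * w * (v⁻¹ * i y) * w⁻¹ := by rw [e4]; group
      _ = v * (w * i y) * v⁻¹ * w⁻¹ := by rw [e3]; group
      _ = (v * i y) * w * v⁻¹ * w⁻¹ := by rw [e2]; group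
      _ = _ := by rw [e1]; group)
  rw [S.centralizer_J28] at hy
  obtain ⟨α, β, rfl⟩ := hy
  exact ⟨α, β, h⟩

/-- **1.6, half**: `[W_4, W_6] ≤ Z_4` -/
theorem comm_Z4 (hc : HC P) {v w : G} (hv : v ∈ WS i t (S.Zc 2)) (hw : w ∈ WS i t (S.Zc 3)) :
    ∃ x, v * w * v⁻¹ * w⁻¹ = i (S.e 2 0 x) := by
  obtain ⟨c, hcc⟩ := exists_c P
  set h := S.h c (Units.map (σ : F →* F) c) with hh
  set l : F := c * σ c with hl
  have hl1 : l + 1 ≠ 0 := by
    intro h0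
    apply hcc
    have h2 := S.two
    linear_combination h0 - h2
  obtain ⟨-, -, ⟨z, ⟨a, rfl⟩, hv3⟩, -⟩ := id hv
  obtain ⟨s, hs, hs3⟩ := exists2 P hc (a / (l + 1))
  -- `s' = s^h`
  have hs' : i h * s * (i h)⁻¹ ∈ WS i t (S.Zc 2) := WS_conj P.ti (fun z => h_Zc P (t := t) c _ 2 z) hs
  have hht : t * (i h)⁻¹ = (i h)⁻¹ * t := by
    have := P.ti h⁻¹
    rwa [map_inv] at this
  have hs'3 : t * (i h * s * (i h)⁻¹) * t = i h * s * (i h)⁻¹ * i (S.e 2 0 (l * (a / (l + 1)))) := by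
    have h1 : i (S.e 2 0 (l * (a / (l + 1)))) = i h * i (S.e 2 0 (a / (l + 1))) * (i h)⁻¹ := by
      rw [← map_mul, ← map_inv, ← map_mul, hh, h_four P (t := t)]
    rw [h1]
    calc t * (i h * s * (i h)⁻¹) * t = (t * i h) * s * ((i h)⁻¹ * t) := by group
      _ = i h * (t * s * t) * (i h)⁻¹ := by rw [P.ti, ← hht]; group
      _ = _ := by rw [hs3]; group
  have hsum : a / (l + 1) + l * (a / (l + 1)) = a := by
    field_simp
    ring
  set s' := i h * s * (i h)⁻¹ with hs'd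
  have ss : s * s = 1 := hs.1
  have si : s⁻¹ = s := inv_eq_of_mul_eq_one_left ss
  have s4 : ∀ x, s * i (S.e 2 0 x) = i (S.e 2 0 x) * s := fun x => hs.2.1 _ (by
    rintro _ ⟨y, rfl⟩; rw [S.e_mul, S.e_mul]; congr 1; ring)
  -- `v = s' s z`
  have h1 : s' * s ∈ WS i t (S.Zc 2) := closed2 P hc hs' hs
  have h2 : t * (s' * s) * t = s' * s * i (S.e 2 0 a) := by
    calc t * (s' * s) * t = t * s' * 1 * s * t := by group
      _ = (t * s' * t) * (t * s * t) := by rw [← P.tt]; group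
      _ = s' * (i (S.e 2 0 (l * (a / (l + 1)))) * s) * i (S.e 2 0 (a / (l + 1))) := by rw [hs'3, hs3]; group
      _ = s' * s * (i (S.e 2 0 (l * (a / (l + 1)))) * i (S.e 2 0 (a / (l + 1)))) := by rw [← s4]; group
      _ = _ := by rw [← map_mul, e2_mul P (t := t), add_comm, hsum]
  obtain ⟨x, hx⟩ := uniq2 P hc hv h1 hv3 h2
  -- `z` commutes with `w`
  have c46 : ∀ x y, S.e 2 0 x * S.e 3 0 y = S.e 3 0 y * S.e 2 0 x := fun x y => by
    have h := S.e_e1 2 0 x 0 y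
    rw [mul_zero, S.o_zero, mul_one] at h
    exact h
  have w4 : ∀ y, w * i (S.e 2 0 y) = i (S.e 2 0 y) * w := fun y => hw.2.1 _ (by
    rintro _ ⟨x, rfl⟩; exact c46 y x)
  have hwh : w * i h = i h * w := hw.2.1 h (by
    rintro _ ⟨v, rfl⟩
    have h1 := h_six P (t := t) c 0 v
    rw [← hh] at h1
    exact mul_inv_eq_iff_eq_mul.1 h1)
  have inv_of : ∀ {x y : G}, x * y = y * x → x⁻¹ * y = y * x⁻¹ := fun {x y} h => by
    rw [inv_mul_eq_iff_eq_mul, ← mul_assoc, h, mul_inv_cancel_right]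
  obtain ⟨α, β, hf⟩ := comm_form P hs hw
  -- the commutator with `s'`
  have e0 : s' * w * s'⁻¹ * w⁻¹ = i h * (s * w * s⁻¹ * w⁻¹) * (i h)⁻¹ := by
    have e1 : (i h)⁻¹ * w = w * (i h)⁻¹ := (inv_of hwh.symm)
    have e2 : w⁻¹ * i h = i h * w⁻¹ := inv_of hwh
    calc s' * w * s'⁻¹ * w⁻¹ = i h * s * ((i h)⁻¹ * w) * i h * s⁻¹ * (i h)⁻¹ * w⁻¹ := by rw [hs'd]; group
      _ = i h * s * w * s⁻¹ * ((i h)⁻¹ * w⁻¹) := by rw [e1]; group
      _ = _ := by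
        have e3 : (i h)⁻¹ * w⁻¹ = w⁻¹ * (i h)⁻¹ := by rw [← mul_inv_rev, hwh, mul_inv_rev]
        rw [e3]; group
  have eA : i h * i (S.e 2 0 α * S.e 3 0 β) * (i h)⁻¹ = i (S.e 2 0 (l * α) * S.e 3 0 β) := by
    have e1 := h_four P (t := t) c α
    have e2 := h_six P (t := t) c 0 β
    rw [← hh] at e1 e2
    rw [← map_mul, ← map_inv, ← map_mul]
    congr 1
    calc h * (S.e 2 0 α * S.e 3 0 β) * h⁻¹ = (h * S.e 2 0 α * h⁻¹) * (h * S.e 3 0 β * h⁻¹) := by group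
      _ = _ := by rw [e1, e2]
  -- the commutator with `s' s`
  have e5 : v * w * v⁻¹ * w⁻¹ = (s' * s) * (s * w * s⁻¹ * w⁻¹)⁻¹ * (s' * s)⁻¹ * (s' * w * s'⁻¹ * w⁻¹) := by
    have e6 : v * w * v⁻¹ = (s' * s) * w * (s' * s)⁻¹ := by
      rw [hx]
      calc s' * s * i (S.e 2 0 x) * w * (s' * s * i (S.e 2 0 x))⁻¹
          = s' * s * (i (S.e 2 0 x) * w) * (i (S.e 2 0 x))⁻¹ * (s' * s)⁻¹ := by group
        _ = _ := by rw [← w4]; group
    rw [e6]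
    have e7 : (s' * s) * (s * w * s⁻¹ * w⁻¹)⁻¹ * (s' * s)⁻¹ * (s' * w * s'⁻¹ * w⁻¹) =
        s' * s * w * (s * w⁻¹ * (s⁻¹ * s⁻¹)) * (w * s'⁻¹ * w⁻¹) := by group
    have e8 : s⁻¹ * s⁻¹ = 1 := by rw [si, ss]
    rw [e7, e8]
    calc s' * s * w * (s' * s)⁻¹ * w⁻¹ = s' * s * w * s⁻¹ * s'⁻¹ * w⁻¹ := by group
      _ = s' * s * w * s * s'⁻¹ * w⁻¹ := by rw [si]
      _ = _ := by group
  -- `s' s` commutes with `Z_4 Z_6` and moves `t` by `Z_4`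
  have k46 : ∀ p q, (s' * s) * i (S.e 2 0 p * S.e 3 0 q) * (s' * s)⁻¹ = i (S.e 2 0 p * S.e 3 0 q) := fun p q => by
    have : (s' * s) * i (S.e 2 0 p * S.e 3 0 q) = i (S.e 2 0 p * S.e 3 0 q) * (s' * s) := h1.2.1 _ (by
      rintro _ ⟨y, rfl⟩
      calc S.e 2 0 p * S.e 3 0 q * S.e 2 0 y = S.e 2 0 p * (S.e 3 0 q * S.e 2 0 y) := by group
        _ = (S.e 2 0 p * S.e 2 0 y) * S.e 3 0 q := by rw [← c46]; group
        _ = S.e 2 0 y * (S.e 2 0 p * S.e 3 0 q) := by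
          rw [e2_mul P (t := t), add_comm, ← e2_mul P (t := t)]; group)
    rw [this, mul_inv_cancel_right]
  have kt : (s' * s) * t * (s' * s)⁻¹ = t * i (S.e 2 0 a) := by
    have e1 : (s' * s) * i (S.e 2 0 a) = i (S.e 2 0 a) * (s' * s) := h1.2.1 _ (by
      rintro _ ⟨y, rfl⟩; rw [S.e_mul, S.e_mul]; congr 1; ring)
    calc (s' * s) * t * (s' * s)⁻¹ = t * (t * (s' * s) * t) * (s' * s)⁻¹ := by
          calc (s' * s) * t * (s' * s)⁻¹ = 1 * (s' * s) * t * (s' * s)⁻¹ := by group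
            _ = _ := by rw [← P.tt]; group
      _ = t * (i (S.e 2 0 a) * (s' * s)) * (s' * s)⁻¹ := by rw [h2, e1]
      _ = _ := by group
  have inv46 : (S.e 2 0 α * S.e 3 0 β)⁻¹ = S.e 2 0 α * S.e 3 0 β := by
    apply inv_eq_of_mul_eq_one_left
    calc S.e 2 0 α * S.e 3 0 β * (S.e 2 0 α * S.e 3 0 β) = S.e 2 0 α * (S.e 3 0 β * S.e 2 0 α) * S.e 3 0 β := by
          group
      _ = (S.e 2 0 α * S.e 2 0 α) * (S.e 3 0 β * S.e 3 0 β) := by rw [← c46]; group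
      _ = 1 := by
        rw [e2_mul P (t := t), S.add_self, S.e_zero, one_mul, S.e_mul, add_zero, zero_mul, add_zero, S.add_self,
          S.e_zero]
  have prod : S.e 2 0 α * S.e 3 0 β * (S.e 2 0 (l * α) * S.e 3 0 β) = S.e 2 0 (α + l * α) := by
    calc S.e 2 0 α * S.e 3 0 β * (S.e 2 0 (l * α) * S.e 3 0 β)
        = S.e 2 0 α * (S.e 3 0 β * S.e 2 0 (l * α)) * S.e 3 0 β := by group
      _ = (S.e 2 0 α * S.e 2 0 (l * α)) * (S.e 3 0 β * S.e 3 0 β) := by rw [← c46]; group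
      _ = _ := by
        rw [e2_mul P (t := t), S.e_mul 3, add_zero, zero_mul, add_zero, S.add_self, S.e_zero, mul_one]
  rcases hf with hf | hf
  · refine ⟨α + l * α, ?_⟩
    rw [e5, e0, hf, eA, ← map_inv, inv46, k46, ← map_mul, prod]
  · refine ⟨a + (α + l * α), ?_⟩
    have e9 : (t * i (S.e 2 0 α * S.e 3 0 β))⁻¹ = t * i (S.e 2 0 α * S.e 3 0 β) := by
      rw [mul_inv_rev, ← map_inv, inv46, P.t_inv, P.ti]
    have e10 : i h * (t * i (S.e 2 0 α * S.e 3 0 β)) * (i h)⁻¹ = t * i (S.e 2 0 (l * α) * S.e 3 0 β) := by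
      calc i h * (t * i (S.e 2 0 α * S.e 3 0 β)) * (i h)⁻¹ = (i h * t) * i (S.e 2 0 α * S.e 3 0 β) * (i h)⁻¹ := by
            group
        _ = t * (i h * i (S.e 2 0 α * S.e 3 0 β) * (i h)⁻¹) := by rw [← P.ti]; group
        _ = _ := by rw [eA]
    rw [e5, e0, hf, e9, e10]
    calc s' * s * (t * i (S.e 2 0 α * S.e 3 0 β)) * (s' * s)⁻¹ * (t * i (S.e 2 0 (l * α) * S.e 3 0 β))
        = (s' * s * t * (s' * s)⁻¹) * (s' * s * i (S.e 2 0 α * S.e 3 0 β) * (s' * s)⁻¹) *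
            (t * i (S.e 2 0 (l * α) * S.e 3 0 β)) := by group
      _ = t * i (S.e 2 0 a) * (i (S.e 2 0 α * S.e 3 0 β) * t) * i (S.e 2 0 (l * α) * S.e 3 0 β) := by
          rw [kt, k46]; group
      _ = t * (i (S.e 2 0 a) * t) * (i (S.e 2 0 α * S.e 3 0 β) * i (S.e 2 0 (l * α) * S.e 3 0 β)) := by
          rw [← P.ti]; group
      _ = (t * t) * i (S.e 2 0 a) * i (S.e 2 0 (α + l * α)) := by rw [← P.ti, ← map_mul, prod]; group
      _ = _ := by rw [P.tt, one_mul, ← map_mul, e2_mul P (t := t)]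

/-- **1.6**: `[W_4, W_6] = 1` -/
theorem comm2 (hc : HC P) {v w : G} (hv : v ∈ WS i t (S.Zc 2)) (hw : w ∈ WS i t (S.Zc 3)) : v * w = w * v := by
  obtain ⟨x, hx⟩ := comm_Z4 P hc hv hw
  have hv' := WS_conj P.ti (fun z => n1_Zc P (t := t) z) hv
  have hw' := WS_conj P.ti (fun z => n1_Zc' P (t := t) z) hw
  obtain ⟨y, hy⟩ := comm_Z4 P hc hw' hv'
  -- conjugate back
  have h1 : w * v * w⁻¹ * v⁻¹ = i (S.e 3 0 y) := by
    have h2 : (i S.n1)⁻¹ * i (S.e 2 0 y) * i S.n1 = i (S.e 3 0 y) := by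
      rw [← map_inv, ← map_mul, ← map_mul, S.n1_e']
      rfl
    rw [← h2, ← hy]
    group
  have h2 : i (S.e 2 0 x) = (i (S.e 3 0 y))⁻¹ := by
    rw [← hx, ← h1]; group
  have h3 : S.e 2 0 x = S.e 3 0 (-y) := by
    apply P.inj
    rw [h2, ← map_inv]
    congr 1
    apply inv_eq_of_mul_eq_one_left
    rw [S.e_mul, add_zero, zero_mul, add_zero, neg_add_cancel, S.e_zero]
  have h4 : S.e 2 0 x = 1 := by
    apply S.zsys8.inter_one 1 (a := 4) (b := 4) (c := 6) (d := 6) (mem_J (S.mX4 0 x) le_rfl le_rfl) ?_ (by norm_num)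
      (by norm_num) (by norm_num) (by norm_num) (Or.inl (by norm_num))
    rw [h3]
    exact mem_J (S.mX6 0 _) le_rfl le_rfl
  rw [h4, map_one, mul_inv_eq_one, mul_inv_eq_iff_eq_mul] at hx
  exact hx

/-- **1.7**: `[W_6, X_1] ≤ W_4` -/
theorem two2 (hc : HC P) {w : G} (hw : w ∈ WS i t (S.Zc 3)) (a : F) : gx i S w a ∈ WS i t (S.Zc 2) := by
  have hw' : w ∈ Wst P 3 := ⟨hw.2.1, hw.2.2.1⟩
  have hm := gx_mem P hc hw' a
  refine ⟨gx_sq P hc hw' a, hm.1, hm.2, ?_⟩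
  rintro ⟨z, ⟨x, rfl⟩, h⟩
  obtain ⟨-, h2, ⟨z, ⟨u, rfl⟩, h3⟩, h4⟩ := hw
  have h5 := gx_t P hw'.1 h3 a
  have h6 : t * gx i S w a * t = gx i S w a := by
    have e : t * i (S.e 2 0 x) * t = i (S.e 2 0 x) := by rw [P.ti, mul_assoc, P.tt, mul_one]
    rw [h]
    calc t * (t * i (S.e 2 0 x)) * t = t * (t * i (S.e 2 0 x) * t) := by group
      _ = t * i (S.e 2 0 x) := by rw [e]
  rw [h6] at h5
  have h7 : S.e 2 0 (a * u) = 1 := P.inj (by rw [map_one]; exact mul_eq_left.1 h5.symm)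
  -- `w` lies in `Z_6` or `a = 0`
  have key : ∃ y : Y, gx i S w a = i y := by
    rcases mul_eq_zero.1 (S.e_eq_one h7).2 with ha | hu
    · refine ⟨1, ?_⟩
      rw [ha, gx, S.o_zero, map_one]; group
    · rw [hu, S.e_zero, map_one, mul_one] at h3
      -- `w` commutes with `t`: use the reflection
      have h8 := Wst_conj P (fun z => n1_Zc' P (t := t) z) hw'
      have h9 : i S.n1 * w * (i S.n1)⁻¹ * t = t * (i S.n1 * w * (i S.n1)⁻¹) := by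
        have e1 : (i S.n1)⁻¹ * t = t * (i S.n1)⁻¹ := by
          have := P.ti S.n1⁻¹
          rw [map_inv] at this
          exact this.symm
        have e2 : w * t = t * w := by
          calc w * t = (t * w * t) * t := by rw [h3]
            _ = t * w * (t * t) := by group
            _ = _ := by rw [P.tt, mul_one]
        calc i S.n1 * w * (i S.n1)⁻¹ * t = i S.n1 * w * ((i S.n1)⁻¹ * t) := by group
          _ = i S.n1 * (w * t) * (i S.n1)⁻¹ := by rw [e1]; group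
          _ = (i S.n1 * t) * w * (i S.n1)⁻¹ := by rw [e2]; group
          _ = _ := by rw [← P.ti]; group
      obtain ⟨b, h10 | h10⟩ := ker2 P h8 h9
      · refine ⟨S.n1⁻¹ * S.e 2 0 b * S.n1 * S.o 0 a * (S.n1⁻¹ * S.e 2 0 b * S.n1)⁻¹ * (S.o 0 a)⁻¹, ?_⟩
        have h11 : w = i (S.n1⁻¹ * S.e 2 0 b * S.n1) := by
          rw [map_mul, map_mul, map_inv, ← h10]; group
        rw [gx, h11]
        simp only [map_mul, map_inv]
      · exfalso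
        apply h4
        refine ⟨S.n1⁻¹ * S.e 2 0 b * S.n1, ⟨b, (S.n1_e' 2 0 b).symm⟩, ?_⟩
        have e1 : (i S.n1)⁻¹ * t = t * (i S.n1)⁻¹ := by
          have := P.ti S.n1⁻¹
          rw [map_inv] at this
          exact this.symm
        rw [map_mul, map_mul, map_inv]
        calc w = (i S.n1)⁻¹ * (i S.n1 * w * (i S.n1)⁻¹) * i S.n1 := by group
          _ = ((i S.n1)⁻¹ * t) * i (S.e 2 0 b) * i S.n1 := by rw [h10]; group
          _ = _ := by rw [e1]; group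
  obtain ⟨y, hy⟩ := key
  rw [h] at hy
  exact P.t_mul_ne hy

end

section Main

variable (P : Pos S i t)

include P

/-- `WS` is closed under multiplication -/
theorem closed (hc : HC P) (a : ℤ) {v v' : G} (hv : v ∈ WS i t (S.Zc (a : ZMod 8)))
    (hv' : v' ∈ WS i t (S.Zc (a : ZMod 8))) : v * v' ∈ WS i t (S.Zc (a : ZMod 8)) := by
  have h1 : ∀ z, z ∈ S.Zc (a : ZMod 8) ↔ S.rot ^ (2 - a) * z * (S.rot ^ (2 - a))⁻¹ ∈ S.Zc 2 := fun z => by
    have := rotk_Zc P (t := t) (2 - a) a z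
    rw [show a + (2 - a) = 2 by ring] at this
    exact this
  have h2 : ∀ z, z ∈ S.Zc 2 ↔ (S.rot ^ (2 - a))⁻¹ * z * (S.rot ^ (2 - a))⁻¹⁻¹ ∈ S.Zc (a : ZMod 8) := fun z => by
    rw [h1]
    have e : S.rot ^ (2 - a) * ((S.rot ^ (2 - a))⁻¹ * z * (S.rot ^ (2 - a))⁻¹⁻¹) * (S.rot ^ (2 - a))⁻¹ = z := by
      group
    rw [e]
  have h3 := closed2 P hc (WS_conj P.ti h1 hv) (WS_conj P.ti h1 hv')
  have h4 := WS_conj P.ti h2 h3
  have e : i (S.rot ^ (2 - a))⁻¹ * (i (S.rot ^ (2 - a)) * v * (i (S.rot ^ (2 - a)))⁻¹ *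
      (i (S.rot ^ (2 - a)) * v' * (i (S.rot ^ (2 - a)))⁻¹)) * (i (S.rot ^ (2 - a))⁻¹)⁻¹ = v * v' := by
    rw [map_inv]; group
  rwa [e] at h4

theorem one_WS (a : ZMod 8) : (1 : G) ∈ WS i t (S.Zc a) := by
  refine ⟨one_mul 1, fun y _ => by rw [one_mul, mul_one], ⟨1, one_mem _, by rw [mul_one, P.tt, map_one, mul_one]⟩, ?_⟩
  rintro ⟨z, -, h⟩
  exact P.t_mul_ne (y := z) (y' := 1) (by rw [map_one]; exact h.symm)

/-- the group `W a` -/
def W (hc : HC P) (a : ℤ) : Subgroup G where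
  carrier := WS i t (S.Zc (a : ZMod 8))
  one_mem' := one_WS P _
  mul_mem' := fun hv hv' => closed P hc a hv hv'
  inv_mem' := by
    intro v hv
    have h : v⁻¹ = v := inv_eq_of_mul_eq_one_left hv.1
    rw [h]; exact hv

theorem mem_W {hc : HC P} {a : ℤ} {w : G} : w ∈ W P hc a ↔ w ∈ WS i t (S.Zc (a : ZMod 8)) := Iff.rfl

/-- **Output of section 1.** -/
theorem exists_WData (hc : HC P) : ∃ W : ℤ → Subgroup G, WData S i t W := by
  have hrot : ∀ (k a : ℤ) (w : G), w ∈ W P hc a → i (S.rot ^ k) * w * (i (S.rot ^ k))⁻¹ ∈ W P hc (a + k) :=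
    fun k a w hw => WS_conj P.ti (fun z => rotk_Zc P (t := t) k a z) hw
  refine ⟨W P hc, ⟨fun a w => Iff.rfl, ?_, ?_, ?_, ?_⟩⟩
  · -- sur
    intro a z hz
    have h1 := (rotk_Zc P (t := t) (2 - a) a z).1 hz
    rw [show a + (2 - a) = 2 by ring] at h1
    obtain ⟨u, hu⟩ := h1
    obtain ⟨v, hv, hv2⟩ := exists2 P hc u
    have hv' : v ∈ W P hc 2 := hv
    refine ⟨i (S.rot ^ (a - 2)) * v * (i (S.rot ^ (a - 2)))⁻¹, ?_, ?_⟩
    · have := hrot (a - 2) 2 v hv'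
      rwa [show (2 : ℤ) + (a - 2) = a by ring] at this
    · have hu' : S.e 2 0 u = S.rot ^ (2 - a) * z * (S.rot ^ (2 - a))⁻¹ := hu
      have e1 : z = S.rot ^ (a - 2) * S.e 2 0 u * (S.rot ^ (a - 2))⁻¹ := by
        rw [hu']; group
      have e2 : (i (S.rot ^ (a - 2)))⁻¹ * t = t * (i (S.rot ^ (a - 2)))⁻¹ := by
        have := P.ti (S.rot ^ (a - 2))⁻¹
        rw [map_inv] at this
        exact this.symm
      rw [e1, map_mul, map_mul, map_inv]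
      calc t * (i (S.rot ^ (a - 2)) * v * (i (S.rot ^ (a - 2)))⁻¹) * t
          = (t * i (S.rot ^ (a - 2))) * v * ((i (S.rot ^ (a - 2)))⁻¹ * t) := by group
        _ = i (S.rot ^ (a - 2)) * (t * v * t) * (i (S.rot ^ (a - 2)))⁻¹ := by rw [P.ti, e2]; group
        _ = _ := by rw [hv2]; group
  · -- one
    intro a w hw w' hw'
    have h1 := hrot (2 - a) a w hw
    have h2 := hrot (2 - a) (a + 1) w' hw'
    rw [show a + (2 - a) = 2 by ring] at h1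
    rw [show a + 1 + (2 - a) = 3 by ring] at h2
    have h3 := comm2 P hc h1 h2
    have e : ∀ x y r : G, r * x * r⁻¹ * (r * y * r⁻¹) = r * y * r⁻¹ * (r * x * r⁻¹) → x * y = y * x := by
      intro x y r h
      calc x * y = r⁻¹ * (r * x * r⁻¹ * (r * y * r⁻¹)) * r := by group
        _ = y * x := by rw [h]; group
    exact e _ _ _ h3
  · -- two
    intro a w hw y hy
    have h1 := hrot (2 - a) (a + 1) w hw
    rw [show a + 1 + (2 - a) = 3 by ring] at h1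
    have h2 := S.rotk_X' (2 - a) _ hy
    rw [show 2 * a - 3 + 2 * (2 - a) = 1 by ring] at h2
    obtain ⟨x, hx⟩ := S.X1 h2
    have h3 : gx i S _ x ∈ W P hc 2 := two2 P hc h1 x
    have h4 := hrot (a - 2) 2 _ h3
    rw [show (2 : ℤ) + (a - 2) = a by ring] at h4
    have e1 : i (S.rot ^ (a - 2)) = (i (S.rot ^ (2 - a)))⁻¹ := by
      rw [← map_inv]; congr 1
      rw [← zpow_neg]; congr 1; ring
    rw [e1, gx, hx, map_mul, map_mul, map_inv] at h4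
    have e2 : ∀ r w x : G, r⁻¹ * (r * w * r⁻¹ * (r * x * r⁻¹) * (r * w * r⁻¹)⁻¹ * (r * x * r⁻¹)⁻¹) * r⁻¹⁻¹ =
        w * x * w⁻¹ * x⁻¹ := by
      intro r w x; group
    rwa [e2] at h4
  · -- two'
    intro a w hw y hy
    have h1 := hrot (2 - a) a w hw
    rw [show a + (2 - a) = 2 by ring] at h1
    have h2 := S.rotk_X' (2 - a) _ hy
    rw [show 2 * a + 5 + 2 * (2 - a) = 9 by ring] at h2
    obtain ⟨x, hx⟩ := S.X9 h2
    have h1' := WS_conj P.ti (fun z => n1_Zc P (t := t) z) h1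
    have h3 : gx i S _ x ∈ WS i t (S.Zc 2) := two2 P hc h1' x
    have hx' : S.o 0 x = S.n1 * (S.rot ^ (2 - a) * y * (S.rot ^ (2 - a))⁻¹) * S.n1⁻¹ := by
      rw [← hx, S.n1_o]
      rfl
    have h3' : i S.n1⁻¹ * gx i S (i S.n1 * (i (S.rot ^ (2 - a)) * w * (i (S.rot ^ (2 - a)))⁻¹) * (i S.n1)⁻¹) x *
        (i S.n1⁻¹)⁻¹ ∈ WS i t (S.Zc 3) := by
      refine WS_conj P.ti (fun z => ?_) h3
      rw [n1_Zc' P (t := t)]
      have e : S.n1 * (S.n1⁻¹ * z * S.n1⁻¹⁻¹) * S.n1⁻¹ = z := by group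
      rw [e]
    have h4 := hrot (a - 2) 3 _ h3'
    rw [show (3 : ℤ) + (a - 2) = a + 1 by ring] at h4
    have e1 : i (S.rot ^ (a - 2)) = (i (S.rot ^ (2 - a)))⁻¹ := by
      rw [← map_inv]; congr 1
      rw [← zpow_neg]; congr 1; ring
    rw [e1, gx, hx'] at h4
    simp only [map_mul, map_inv] at h4
    have e2 : ∀ r n w x : G, r⁻¹ * (n⁻¹ * (n * (r * w * r⁻¹) * n⁻¹ * (n * (r * x * r⁻¹) * n⁻¹) *
        (n * (r * w * r⁻¹) * n⁻¹)⁻¹ * (n * (r * x * r⁻¹) * n⁻¹)⁻¹) * n⁻¹⁻¹) * r⁻¹⁻¹ = w * x * w⁻¹ * x⁻¹ := by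
      intro r n w x; group
    rwa [e2] at h4

/-- **Sections 1.4 - 1.7**, from the elements of section 1.3. -/
theorem exists_WData_of_NEl (hn : ∀ u : F, ∃ (φ : F → F) (n : G), NEl S.toSys i t 2 φ u n) :
    ∃ W : ℤ → Subgroup G, WData S i t W := exists_WData P fun u => CKill.exists_cent P hn u

end Main

end Cfsg.Agent.OddHalf.D7TwF4.WMk

end
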