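import Cfsg.Agent.KFacts.TwF4.TorFix
import Cfsg.Agent.KFacts.TwF4.Perf
import Cfsg.Agent.ThreePrime.SzAut
import Cfsg.Agent.Octagon.FieldAut171
import Cfsg.Agent.KFacts.TwF4.InvConj
import Cfsg.Agent.OddHalf.D7TwF4.Defs
import Cfsg.Agent.OddHalf.D7TwF4.NEl

-- merged: Cfsg.Agent.OddHalf.D7TwF4.NormE
section

/-!
# D7, `K = ²F₄(q)`: coordinates on `E_4 = Z_2 X_3 Z_4 X_5 Z_6` (helper467)

* `EE a b z c d` : the coordinates; `mem_Q2`;
* `Act x t p r s` : the action of `x ∈ Q` on `E_4`; `exists_act`;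
* `EE_e4` : the action of `X_8`;
* `comm_Q1` : `[PL, Q1] ≤ E_4`;
* `sT d` : the torus of the Levi complement.
-/

set_option autoImplicit false
set_option maxHeartbeats 400000

namespace Cfsg.Agent.OddHalf.D7TwF4.NormE

open Cfsg.Agent.KFacts.TwF4 Cfsg.Agent.SplitTwo.ZS

universe u w

variable {F : Type w} [Field F] {σ : F →+* F} {Y : Type u} [Group Y] (S : Full σ Y)

include S in
theorem char2 (x : F) : x + x = 0 := by
  rw [← two_mul, S.two, zero_mul]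

theorem ze (a : ZMod 8) (u v : F) : S.e a 0 u * S.e a 0 v = S.e a 0 (u + v) := by
  rw [S.e_mul, add_zero, zero_mul, add_zero]

theorem zi (a : ZMod 8) (u : F) : (S.e a 0 u)⁻¹ = S.e a 0 u := by
  rw [inv_eq_iff_mul_eq_one, ze, char2 S, S.e_zero]

theorem oi (a : ZMod 8) (u : F) : (S.o a u)⁻¹ = S.o a u := by
  rw [inv_eq_iff_mul_eq_one, S.o_add, char2 S, S.o_zero]

theorem e_split (a : ZMod 8) (p u : F) : S.e a p u = S.e a p 0 * S.e a 0 u := by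
  rw [S.e_mul, add_zero, zero_add, map_zero, mul_zero, add_zero]

/-- coordinates on `E_4` -/
def EE (a b z c d : F) : Y := S.e 1 0 a * S.o 1 b * S.e 2 0 z * S.o 2 c * S.e 3 0 d

theorem Q2_comm {x y : Y} (hx : x ∈ S.Q2) (hy : y ∈ S.Q2) : x * y = y * x :=
  S.Q1_comm (Subgroup.mem_sup_right hx) hy

theorem EE_mem (a b z c d : F) : EE S a b z c d ∈ S.Q2 :=
  mul_mem (mul_mem (mul_mem (mul_mem (S.q2_1 a) (S.q2_2 b)) (S.q2_3 z)) (S.q2_4 c)) (S.q2_5 d)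

theorem EE_mul (a b z c d a' b' z' c' d' : F) :
    EE S a b z c d * EE S a' b' z' c' d' = EE S (a + a') (b + b') (z + z') (c + c') (d + d') := by
  unfold EE
  have C : ∀ x y, x ∈ S.Q2 → y ∈ S.Q2 → Commute x y := fun x y hx hy => Q2_comm S hx hy
  have m2 := mul_mem (S.q2_1 a') (S.q2_2 b')
  have m3 := mul_mem m2 (S.q2_3 z')
  have m4 := mul_mem m3 (S.q2_4 c')
  rw [(C _ _ (S.q2_5 d) m4).mul_mul_mul_comm, (C _ _ (S.q2_4 c) m3).mul_mul_mul_comm,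
    (C _ _ (S.q2_3 z) m2).mul_mul_mul_comm, (C _ _ (S.q2_2 b) (S.q2_1 a')).mul_mul_mul_comm, ze, ze, ze, S.o_add,
    S.o_add]

theorem EE_a (a : F) : S.e 1 0 a = EE S a 0 0 0 0 := by
  unfold EE; simp only [S.o_zero, S.e_zero, mul_one]
theorem EE_b (b : F) : S.o 1 b = EE S 0 b 0 0 0 := by
  unfold EE; simp only [S.o_zero, S.e_zero, mul_one, one_mul]
theorem EE_z (z : F) : S.e 2 0 z = EE S 0 0 z 0 0 := by
  unfold EE; simp only [S.o_zero, S.e_zero, mul_one, one_mul]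
theorem EE_c (c : F) : S.o 2 c = EE S 0 0 0 c 0 := by
  unfold EE; simp only [S.o_zero, S.e_zero, mul_one, one_mul]
theorem EE_d (d : F) : S.e 3 0 d = EE S 0 0 0 0 d := by
  unfold EE; simp only [S.o_zero, S.e_zero, one_mul]

theorem EE_zero : EE S 0 0 0 0 0 = 1 := by rw [← EE_a, S.e_zero]

theorem EE_inv (a b z c d : F) : (EE S a b z c d)⁻¹ = EE S a b z c d := by
  rw [inv_eq_iff_mul_eq_one, EE_mul]
  simp only [char2 S]
  exact EE_zero S

theorem EE_split (a b z c d : F) : EE S a b z c d =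
    EE S a 0 0 0 0 * (EE S 0 b 0 0 0 * (EE S 0 0 z 0 0 * (EE S 0 0 0 c 0 * EE S 0 0 0 0 d))) := by
  simp only [EE_mul, add_zero, zero_add]

theorem EE_one {a b z c d : F} (h : EE S a b z c d = 1) : a = 0 ∧ b = 0 ∧ z = 0 ∧ c = 0 ∧ d = 0 := by
  have Z8 := S.zsys8
  unfold EE at h
  have m3 : ∀ a' b', (3 : ℤ) ≥ a' → 3 ≤ b' → S.o 1 b ∈ J S.XZ a' b' := fun a' b' h1 h2 => mem_J (S.mX3 b) h1 h2
  have m4 : ∀ a' b', (4 : ℤ) ≥ a' → 4 ≤ b' → S.e 2 0 z ∈ J S.XZ a' b' := fun a' b' h1 h2 => mem_J (S.mX4 0 z) h1 h2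
  have m5 : ∀ a' b', (5 : ℤ) ≥ a' → 5 ≤ b' → S.o 2 c ∈ J S.XZ a' b' := fun a' b' h1 h2 => mem_J (S.mX5 c) h1 h2
  have m6 : ∀ a' b', (6 : ℤ) ≥ a' → 6 ≤ b' → S.e 3 0 d ∈ J S.XZ a' b' := fun a' b' h1 h2 => mem_J (S.mX6 0 d) h1 h2
  have h2 : S.e 1 0 a = 1 := by
    refine Z8.inter 2 _ (S.mX2 0 a) ?_
    have e : S.e 1 0 a = (S.o 1 b * S.e 2 0 z * S.o 2 c * S.e 3 0 d)⁻¹ := by
      rw [eq_inv_iff_mul_eq_one, ← h]; group
    rw [e]
    exact inv_mem (mul_mem (mul_mem (mul_mem (m3 _ _ (by norm_num) (by norm_num)) (m4 _ _ (by norm_num) (by norm_num)))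
      (m5 _ _ (by norm_num) (by norm_num))) (m6 _ _ (by norm_num) (by norm_num)))
  rw [h2, one_mul] at h
  have h3 : S.o 1 b = 1 := by
    refine Z8.inter 3 _ (S.mX3 b) ?_
    have e : S.o 1 b = (S.e 2 0 z * S.o 2 c * S.e 3 0 d)⁻¹ := by
      rw [eq_inv_iff_mul_eq_one, ← h]; group
    rw [e]
    exact inv_mem (mul_mem (mul_mem (m4 _ _ (by norm_num) (by norm_num))
      (m5 _ _ (by norm_num) (by norm_num))) (m6 _ _ (by norm_num) (by norm_num)))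
  rw [h3, one_mul] at h
  have h4 : S.e 2 0 z = 1 := by
    refine Z8.inter 4 _ (S.mX4 0 z) ?_
    have e : S.e 2 0 z = (S.o 2 c * S.e 3 0 d)⁻¹ := by
      rw [eq_inv_iff_mul_eq_one, ← h]; group
    rw [e]
    exact inv_mem (mul_mem (m5 _ _ (by norm_num) (by norm_num)) (m6 _ _ (by norm_num) (by norm_num)))
  rw [h4, one_mul] at h
  have h5 : S.o 2 c = 1 := by
    refine Z8.inter 5 _ (S.mX5 c) ?_
    rw [mul_eq_one_iff_eq_inv.1 h]
    exact inv_mem (m6 _ _ (by norm_num) (by norm_num))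
  rw [h5, one_mul] at h
  exact ⟨(S.e_eq_one h2).2, S.o_eq_one h3, (S.e_eq_one h4).2, S.o_eq_one h5, (S.e_eq_one h).2⟩

theorem EE_inj {a b z c d a' b' z' c' d' : F} (h : EE S a b z c d = EE S a' b' z' c' d') :
    a = a' ∧ b = b' ∧ z = z' ∧ c = c' ∧ d = d' := by
  have h1 : EE S (a + a') (b + b') (z + z') (c + c') (d + d') = 1 := by
    rw [← EE_mul, h, EE_mul]
    simp only [char2 S]
    exact EE_zero S
  have key : ∀ x y : F, x + y = 0 → x = y := by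
    intro x y hxy
    calc x = x + (y + y) := by rw [char2 S, add_zero]
      _ = y := by rw [← add_assoc, hxy, zero_add]
  obtain ⟨h2, h3, h4, h5, h6⟩ := EE_one S h1
  exact ⟨key _ _ h2, key _ _ h3, key _ _ h4, key _ _ h5, key _ _ h6⟩

theorem mem_Q2 {x : Y} (hx : x ∈ S.Q2) : ∃ a b z c d, x = EE S a b z c d := by
  let K : Subgroup Y :=
    { carrier := {x | ∃ a b z c d, x = EE S a b z c d}
      one_mem' := ⟨0, 0, 0, 0, 0, (EE_zero S).symm⟩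
      mul_mem' := by
        rintro _ _ ⟨a, b, z, c, d, rfl⟩ ⟨a', b', z', c', d', rfl⟩
        exact ⟨_, _, _, _, _, EE_mul S _ _ _ _ _ _ _ _ _ _⟩
      inv_mem' := by
        rintro _ ⟨a, b, z, c, d, rfl⟩
        exact ⟨_, _, _, _, _, EE_inv S _ _ _ _ _⟩ }
  have : S.Q2 ≤ K := S.Q2_le (fun u => ⟨_, _, _, _, _, EE_a S u⟩) (fun u => ⟨_, _, _, _, _, EE_b S u⟩)
    (fun u => ⟨_, _, _, _, _, EE_z S u⟩) (fun u => ⟨_, _, _, _, _, EE_c S u⟩) (fun u => ⟨_, _, _, _, _, EE_d S u⟩)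
  exact this hx

/-! ### the action of `Q` -/

/-- the action of `x` on `E_4` -/
def Act (x : Y) (t p r s : F) : Prop :=
  ∀ a b z c d, EE S a b z c d * x = x * EE S a b (z + t * d + p * c + r * b + s * a) c d

variable {S} in
theorem Act.mul {x y : Y} {t p r s t' p' r' s' : F} (hx : Act S x t p r s) (hy : Act S y t' p' r' s') :
    Act S (x * y) (t + t') (p + p') (r + r') (s + s') := by
  intro a b z c d
  rw [← mul_assoc, hx, mul_assoc, hy, ← mul_assoc]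
  congr 2
  ring

theorem act_one : Act S 1 0 0 0 0 := by
  intro a b z c d
  rw [mul_one, one_mul]
  congr 1
  ring

variable {S} in
theorem Act.congr {x : Y} {t p r s t' p' r' s' : F} (hx : Act S x t p r s) (h1 : t = t') (h2 : p = p') (h3 : r = r')
    (h4 : s = s') : Act S x t' p' r' s' := by
  rw [← h1, ← h2, ← h3, ← h4]; exact hx

variable {S} in
theorem Act.inv {x : Y} {t p r s : F} (hx : Act S x t p r s) : Act S x⁻¹ t p r s := by
  intro a b z c d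
  have h := hx a b (z + t * d + p * c + r * b + s * a) c d
  have e : z + t * d + p * c + r * b + s * a + t * d + p * c + r * b + s * a = z := by
    have h1 := char2 S (t * d)
    have h2 := char2 S (p * c)
    have h3 := char2 S (r * b)
    have h4 := char2 S (s * a)
    linear_combination h1 + h2 + h3 + h4
  rw [e] at h
  rw [mul_inv_eq_iff_eq_mul, mul_assoc, h, inv_mul_cancel_left]

theorem act_of {x : Y} {t p r s : F} (h1 : ∀ a, EE S a 0 0 0 0 * x = x * EE S a 0 (s * a) 0 0)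
    (h2 : ∀ b, EE S 0 b 0 0 0 * x = x * EE S 0 b (r * b) 0 0)
    (h3 : ∀ z, EE S 0 0 z 0 0 * x = x * EE S 0 0 z 0 0)
    (h4 : ∀ c, EE S 0 0 0 c 0 * x = x * EE S 0 0 (p * c) c 0)
    (h5 : ∀ d, EE S 0 0 0 0 d * x = x * EE S 0 0 (t * d) 0 d) : Act S x t p r s := by
  intro a b z c d
  rw [EE_split, mul_assoc, mul_assoc, mul_assoc, mul_assoc, h5, ← mul_assoc (EE S 0 0 0 c 0), h4,
    ← mul_assoc (EE S 0 0 z 0 0), ← mul_assoc (EE S 0 0 z 0 0), h3, ← mul_assoc (EE S 0 b 0 0 0),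
    ← mul_assoc (EE S 0 b 0 0 0), ← mul_assoc (EE S 0 b 0 0 0), h2, ← mul_assoc (EE S a 0 0 0 0),
    ← mul_assoc (EE S a 0 0 0 0), ← mul_assoc (EE S a 0 0 0 0), ← mul_assoc (EE S a 0 0 0 0), h1]
  simp only [mul_assoc, EE_mul, add_zero, zero_add]
  congr 2
  ring

theorem act_of_comm {x : Y} (h1 : ∀ a, S.e 1 0 a * x = x * S.e 1 0 a)
    (h2 : ∀ b, S.o 1 b * x = x * S.o 1 b) (h3 : ∀ z, S.e 2 0 z * x = x * S.e 2 0 z)
    (h4 : ∀ c, S.o 2 c * x = x * S.o 2 c) (h5 : ∀ d, S.e 3 0 d * x = x * S.e 3 0 d) : Act S x 0 0 0 0 := by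
  refine act_of S (fun a => ?_) (fun b => ?_) (fun z => ?_) (fun c => ?_) (fun d => ?_)
  · rw [zero_mul, ← EE_a, h1]
  · rw [zero_mul, ← EE_b, h2]
  · rw [← EE_z, h3]
  · rw [zero_mul, ← EE_c, h4]
  · rw [zero_mul, ← EE_d, h5]

theorem act_Q1 {x : Y} (hx : x ∈ S.Q1) : Act S x 0 0 0 0 :=
  act_of_comm S (fun a => (S.Q1_comm hx (S.q2_1 a)).symm) (fun a => (S.Q1_comm hx (S.q2_2 a)).symm)
    (fun a => (S.Q1_comm hx (S.q2_3 a)).symm) (fun a => (S.Q1_comm hx (S.q2_4 a)).symm)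
    (fun a => (S.Q1_comm hx (S.q2_5 a)).symm)

theorem act_EE (a b z c d : F) : Act S (EE S a b z c d) 0 0 0 0 := act_Q1 S (Subgroup.mem_sup_right (EE_mem S a b z c d))

theorem act_o1 (t : F) : Act S (S.o 1 t) 0 0 0 0 := by rw [EE_b]; exact act_EE S _ _ _ _ _
theorem act_o2 (t : F) : Act S (S.o 2 t) 0 0 0 0 := by rw [EE_c]; exact act_EE S _ _ _ _ _
theorem act_e2 (p u : F) : Act S (S.e 2 p u) 0 0 0 0 := act_Q1 S (Subgroup.mem_sup_left (S.mX4 p u))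

theorem z4_comm {k : ℤ} (h1 : 0 ≤ k) (h2 : k ≤ 8) {x : Y} (hx : x ∈ S.XZ k) (v : F) :
    S.e 2 0 v * x = x * S.e 2 0 v := (S.comm_Z4 h1 h2 hx v).symm

/-- `X_1` -/
theorem act_o0 (t : F) : Act S (S.o 0 t) t 0 0 0 := by
  refine act_of S (fun a => ?_) (fun b => ?_) (fun z => ?_) (fun c => ?_) (fun d => ?_)
  · rw [zero_mul, ← EE_a]; exact (S.o_e1 0 t 0 a).symm
  · rw [zero_mul, ← EE_b]; exact (S.o_o1 0 t b).symm
  · rw [← EE_z]; exact z4_comm S (k := 1) (by norm_num) (by norm_num) (S.mX1 t) z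
  · rw [zero_mul, ← EE_c]; exact (S.o_o2 0 t c).symm
  · have r1 : S.o 0 t * S.e 3 0 d = S.e 3 0 d * S.o 0 t * S.e 1 0 (σ t * 0) * S.o 1 (t * σ 0) *
      S.e 2 0 (t * 0 * σ 0 + t * d) := S.o_e3 0 t 0 d
    rw [map_zero, mul_zero, mul_zero, mul_zero, zero_add, S.o_zero, S.e_zero, mul_one, mul_one] at r1
    have e : S.e 3 0 d * S.o 0 t = S.o 0 t * S.e 3 0 d * S.e 2 0 (t * d) := by
      rw [r1, mul_assoc, ze, char2 S, S.e_zero, mul_one]
    rw [← EE_d, e, mul_assoc]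
    congr 1
    rw [EE_d, EE_z, EE_mul]
    simp only [add_zero, zero_add]

/-- `X_2` -/
theorem act_e1 (p u : F) : Act S (S.e 1 p u) 0 p 0 0 := by
  refine act_of S (fun a => ?_) (fun b => ?_) (fun z => ?_) (fun c => ?_) (fun d => ?_)
  · rw [zero_mul, ← EE_a, S.e_mul, S.e_mul, map_zero]
    congr 1 <;> ring
  · rw [zero_mul, ← EE_b]; exact (S.e_o0 1 p u b).symm
  · rw [← EE_z]; exact z4_comm S (k := 2) (by norm_num) (by norm_num) (S.mX2 p u) z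
  · have r1 : S.e 1 p u * S.o 2 c = S.o 2 c * S.e 1 p u * S.e 2 0 (p * c) := S.e_o1 1 p u c
    have e : S.o 2 c * S.e 1 p u = S.e 1 p u * S.o 2 c * S.e 2 0 (p * c) := by
      rw [r1, mul_assoc, ze, char2 S, S.e_zero, mul_one]
    rw [← EE_c, e, mul_assoc]
    congr 1
    rw [EE_c, EE_z, EE_mul]
    simp only [add_zero, zero_add]
  · rw [zero_mul, ← EE_d]; exact (S.e_e2 1 p u 0 d).symm

/-- `X_6` -/
theorem act_e3 (p u : F) : Act S (S.e 3 p u) 0 0 p 0 := by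
  refine act_of S (fun a => ?_) (fun b => ?_) (fun z => ?_) (fun c => ?_) (fun d => ?_)
  · rw [zero_mul, ← EE_a]; exact S.e_e2 1 0 a p u
  · have r1 : S.o 1 b * S.e 3 p u = S.e 3 p u * S.o 1 b * S.e 2 0 (b * p) := S.o_e2 1 b p u
    rw [← EE_b, r1, mul_assoc]
    congr 1
    rw [EE_b, EE_z, EE_mul]
    simp only [add_zero, zero_add]
    rw [mul_comm]
  · rw [← EE_z]; exact z4_comm S (k := 6) (by norm_num) (by norm_num) (S.mX6 p u) z
  · rw [zero_mul, ← EE_c]; exact S.o_e1 2 c p u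
  · rw [zero_mul, ← EE_d, S.e_mul, S.e_mul, map_zero]
    congr 1 <;> ring

/-- `X_7` -/
theorem act_o3 (s : F) : Act S (S.o 3 s) 0 0 0 s := by
  refine act_of S (fun a => ?_) (fun b => ?_) (fun z => ?_) (fun c => ?_) (fun d => ?_)
  · have : S.e 1 0 a * S.o 3 s = S.o 3 s * S.e 1 0 a * S.e 2 0 (0 * σ 0 * s + a * s) * S.o 2 (σ 0 * s) * S.e 3 0 (0 * σ s) :=
        S.e_o2 1 0 a s
    rw [map_zero, zero_mul, zero_mul, zero_mul, zero_add, S.o_zero, S.e_zero, mul_one, mul_one] at this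
    rw [← EE_a, this, mul_assoc]
    congr 1
    rw [EE_a, EE_z, EE_mul]
    simp only [add_zero, zero_add]
    rw [mul_comm]
  · rw [zero_mul, ← EE_b]; exact S.o_o2 1 b s
  · rw [← EE_z]; exact z4_comm S (k := 7) (by norm_num) (by norm_num) (S.mX7 s) z
  · rw [zero_mul, ← EE_c]; exact S.o_o1 2 c s
  · rw [zero_mul, ← EE_d]; exact (S.comm_Z6 (k := 7) (by norm_num) (by norm_num) (S.mX7 s) d).symm

/-- every element of `Q` acts -/
theorem exists_act {x : Y} (hx : x ∈ S.Q) : ∃ t p r s, Act S x t p r s := by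
  let K : Subgroup Y :=
    { carrier := {x | ∃ t p r s, Act S x t p r s}
      one_mem' := ⟨0, 0, 0, 0, act_one S⟩
      mul_mem' := by
        rintro _ _ ⟨a, b, z, c, h⟩ ⟨a', b', z', c', h'⟩
        exact ⟨_, _, _, _, h.mul h'⟩
      inv_mem' := by
        rintro _ ⟨a, b, z, c, h⟩
        exact ⟨_, _, _, _, h.inv⟩ }
  have : S.Q ≤ K := by
    refine J_le fun k h1 h2 x hx => ?_
    interval_cases k
    · obtain ⟨t, rfl⟩ := S.X1 hx; exact ⟨_, _, _, _, act_o0 S t⟩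
    · obtain ⟨p, t, rfl⟩ := S.X2 hx; exact ⟨_, _, _, _, act_e1 S p t⟩
    · obtain ⟨t, rfl⟩ := S.X3 hx; exact ⟨_, _, _, _, act_o1 S t⟩
    · obtain ⟨p, t, rfl⟩ := S.X4 hx; exact ⟨_, _, _, _, act_e2 S p t⟩
    · obtain ⟨t, rfl⟩ := S.X5 hx; exact ⟨_, _, _, _, act_o2 S t⟩
    · obtain ⟨p, t, rfl⟩ := S.X6 hx; exact ⟨_, _, _, _, act_e3 S p t⟩
    · obtain ⟨t, rfl⟩ := S.X7 hx; exact ⟨_, _, _, _, act_o3 S t⟩
  exact this hx

/-- `[Q, E_4] ≤ Z_4` -/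
theorem Q_Q2_comm {x w : Y} (hx : x ∈ S.Q) (hw : w ∈ S.Q2) : ∃ z, w * x = x * w * S.e 2 0 z := by
  obtain ⟨t, p, r, s, h⟩ := exists_act S hx
  obtain ⟨a, b, z, c, d, rfl⟩ := mem_Q2 S hw
  refine ⟨t * d + p * c + r * b + s * a, ?_⟩
  rw [h, mul_assoc, EE_z, EE_mul]
  simp only [add_zero]
  congr 2
  ring

/-- the action of `X_8` on `E_4` -/
theorem EE_e4 (a b z c d q v : F) : ∃ z', EE S a b z c d * S.e 4 q v =
    S.e 4 q v * EE S a (b + a * q) z' (c + a * v + b * σ q)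
      (d + (a * q * v + a * q * q * σ q + a * σ v) + (b * q * σ q + b * v) + c * q) := by
  have h1 : EE S a 0 0 0 0 * S.e 4 q v = S.e 4 q v * EE S a (a * q) (σ a * q * σ q + σ a * v) (a * v)
      (a * q * v + a * q * q * σ q + a * σ v) := by
    have := S.e_e3 1 0 a q v
    rw [show ((1 : ZMod 8) + 3) = 4 from rfl, show ((1 : ZMod 8) + 1) = 2 from rfl,
      show ((1 : ZMod 8) + 2) = 3 from rfl] at this
    simp only [map_zero, zero_mul, mul_zero, zero_add, S.o_zero, mul_one] at this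
    rw [← EE_a, this, EE]
    simp only [mul_assoc]
  have h2 : EE S 0 b 0 0 0 * S.e 4 q v = S.e 4 q v * EE S 0 b (σ b * q) (b * σ q) (b * q * σ q + b * v) := by
    have := S.o_e3 1 b q v
    rw [show ((1 : ZMod 8) + 3) = 4 from rfl, show ((1 : ZMod 8) + 1) = 2 from rfl,
      show ((1 : ZMod 8) + 2) = 3 from rfl] at this
    rw [← EE_b, this, EE, S.e_zero, one_mul]
    simp only [mul_assoc]
  have h3 : EE S 0 0 z 0 0 * S.e 4 q v = S.e 4 q v * EE S 0 0 z 0 0 := by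
    rw [← EE_z]; exact z4_comm S (k := 8) (by norm_num) (by norm_num) (S.mX8 q v) z
  have h4 : EE S 0 0 0 c 0 * S.e 4 q v = S.e 4 q v * EE S 0 0 0 c (c * q) := by
    have : S.o 2 c * S.e 4 q v = S.e 4 q v * S.o 2 c * S.e 3 0 (c * q) := S.o_e2 2 c q v
    rw [← EE_c, this, mul_assoc]
    congr 1
    rw [EE_c, EE_d, EE_mul]
    simp only [add_zero, zero_add]
  have h5 : EE S 0 0 0 0 d * S.e 4 q v = S.e 4 q v * EE S 0 0 0 0 d := by
    rw [← EE_d]; exact (S.comm_Z6 (k := 8) (by norm_num) (by norm_num) (S.mX8 q v) d).symm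
  refine ⟨(σ a * q * σ q + σ a * v) + (σ b * q) + z, ?_⟩
  rw [EE_split, mul_assoc, mul_assoc, mul_assoc, mul_assoc, h5, ← mul_assoc (EE S 0 0 0 c 0), h4,
    ← mul_assoc (EE S 0 0 z 0 0), ← mul_assoc (EE S 0 0 z 0 0), h3, ← mul_assoc (EE S 0 b 0 0 0),
    ← mul_assoc (EE S 0 b 0 0 0), ← mul_assoc (EE S 0 b 0 0 0), h2, ← mul_assoc (EE S a 0 0 0 0),
    ← mul_assoc (EE S a 0 0 0 0), ← mul_assoc (EE S a 0 0 0 0), ← mul_assoc (EE S a 0 0 0 0), h1]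
  simp only [mul_assoc, EE_mul, add_zero, zero_add]
  congr 2 <;> ring

/-- the action of `X_8` on `Z_4 X_5 Z_6` -/
theorem EE_e4' (z c d q v : F) : EE S 0 0 z c d * S.e 4 q v = S.e 4 q v * EE S 0 0 z c (d + c * q) := by
  have h3 : EE S 0 0 z 0 0 * S.e 4 q v = S.e 4 q v * EE S 0 0 z 0 0 := by
    rw [← EE_z]; exact z4_comm S (k := 8) (by norm_num) (by norm_num) (S.mX8 q v) z
  have h4 : EE S 0 0 0 c 0 * S.e 4 q v = S.e 4 q v * EE S 0 0 0 c (c * q) := by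
    have : S.o 2 c * S.e 4 q v = S.e 4 q v * S.o 2 c * S.e 3 0 (c * q) := S.o_e2 2 c q v
    rw [← EE_c, this, mul_assoc]
    congr 1
    rw [EE_c, EE_d, EE_mul]
    simp only [add_zero, zero_add]
  have h5 : EE S 0 0 0 0 d * S.e 4 q v = S.e 4 q v * EE S 0 0 0 0 d := by
    rw [← EE_d]; exact (S.comm_Z6 (k := 8) (by norm_num) (by norm_num) (S.mX8 q v) d).symm
  have e : EE S 0 0 z c d = EE S 0 0 z 0 0 * (EE S 0 0 0 c 0 * EE S 0 0 0 0 d) := by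
    simp only [EE_mul, add_zero, zero_add]
  rw [e, mul_assoc, mul_assoc, h5, ← mul_assoc (EE S 0 0 0 c 0), h4, ← mul_assoc (EE S 0 0 z 0 0),
    ← mul_assoc (EE S 0 0 z 0 0), h3]
  simp only [mul_assoc, EE_mul, add_zero, zero_add]
  congr 2
  ring

/-- elements of `E_4` commuting with `X_8` modulo `Z_4` -/
theorem mem_of_comm8 {w : Y} (hw : w ∈ S.Q2) (h : ∀ q v, ∃ z, w * S.e 4 q v = S.e 4 q v * w * S.e 2 0 z) :
    ∃ z d, w = EE S 0 0 z 0 d := by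
  obtain ⟨a, b, z, c, d, rfl⟩ := mem_Q2 S hw
  have key : ∀ q v, a * q = 0 ∧ a * v + b * σ q = 0 ∧
      (a * q * v + a * q * q * σ q + a * σ v) + (b * q * σ q + b * v) + c * q = 0 := by
    intro q v
    obtain ⟨z', h1⟩ := EE_e4 S a b z c d q v
    obtain ⟨z'', h2⟩ := h q v
    rw [h1, mul_assoc (S.e 4 q v), EE_z, EE_mul] at h2
    obtain ⟨-, h3, -, h4, h5⟩ := EE_inj S (mul_left_cancel h2)
    refine ⟨?_, ?_, ?_⟩
    · linear_combination h3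
    · linear_combination h4
    · linear_combination h5
  have ha : a = 0 := by simpa using (key 1 0).1
  have hb : b = 0 := by simpa [ha] using (key 1 0).2.1
  have hc : c = 0 := by simpa [ha, hb] using (key 1 0).2.2
  exact ⟨z, d, by rw [ha, hb, hc]⟩

/-! ### commutators with `Q1` -/

theorem Q2_le_PL : S.Q2 ≤ S.PL := S.Q2_le_J.trans (J_mono (by norm_num) (by norm_num))
theorem Q1_le_PL : S.Q1 ≤ S.PL := S.Q1_le_J.trans (J_mono (by norm_num) (by norm_num))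
theorem Q2_le_Q : S.Q2 ≤ S.Q := S.Q2_le_J.trans (J_mono (by norm_num) (by norm_num))
theorem Q1_le_Q : S.Q1 ≤ S.Q := S.Q1_le_J.trans (J_mono (by norm_num) (by norm_num))
theorem Q_le_PL : S.Q ≤ S.PL := J_mono (by norm_num) (by norm_num)
theorem Q_le_U : S.Q ≤ J S.XZ 1 8 := J_mono (by norm_num) (by norm_num)
theorem U_le_PL : J S.XZ 1 8 ≤ S.PL := J_mono (by norm_num) (by norm_num)

theorem Q2_conj {g w : Y} (hg : g ∈ S.PL) (hw : w ∈ S.Q2) : g * w * g⁻¹ ∈ S.Q2 :=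
  (Subgroup.mem_normalizer_iff.1 (S.Q2_norm hg) w).1 hw

theorem Q2_conj' {g w : Y} (hg : g ∈ S.PL) (hw : w ∈ S.Q2) : g⁻¹ * w * g ∈ S.Q2 := by
  have := Q2_conj S (inv_mem hg) hw
  rwa [inv_inv] at this

/-- `[PL, X_4] ≤ E_4` -/
theorem comm_X4 {g : Y} (hg : g ∈ S.PL) (p u : F) : ∃ w ∈ S.Q2, g * S.e 2 p u = S.e 2 p u * g * w := by
  let K : Subgroup Y :=
    { carrier := {g | g ∈ S.PL ∧ ∃ w ∈ S.Q2, g * S.e 2 p u = S.e 2 p u * g * w}
      one_mem' := ⟨one_mem _, 1, one_mem _, by simp⟩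
      mul_mem' := by
        rintro x y ⟨hx, w, hw, h⟩ ⟨hy, w', hw', h'⟩
        refine ⟨mul_mem hx hy, (y⁻¹ * w * y) * w', mul_mem (Q2_conj' S hy hw) hw', ?_⟩
        calc x * y * S.e 2 p u = x * (y * S.e 2 p u) := by group
          _ = (x * S.e 2 p u) * (y * w') := by rw [h']; group
          _ = _ := by rw [h]; group
      inv_mem' := by
        rintro x ⟨hx, w, hw, h⟩
        refine ⟨inv_mem hx, x * w⁻¹ * x⁻¹, Q2_conj S hx (inv_mem hw), ?_⟩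
        calc x⁻¹ * S.e 2 p u = x⁻¹ * (S.e 2 p u * x * w) * w⁻¹ * x⁻¹ := by group
          _ = x⁻¹ * (x * S.e 2 p u) * w⁻¹ * x⁻¹ := by rw [← h]
          _ = _ := by group }
  have key : ∀ x w : Y, x ∈ S.PL → w ∈ S.Q2 → x * S.e 2 p u = S.e 2 p u * x * w → x ∈ K :=
    fun x w hx hw h => ⟨hx, w, hw, h⟩
  have key1 : ∀ x : Y, x ∈ S.PL → x * S.e 2 p u = S.e 2 p u * x → x ∈ K :=
    fun x hx h => key x 1 hx (one_mem _) (by rw [mul_one]; exact h)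
  have : S.PL ≤ K := by
    refine J_le fun k h1 h2 x hx => ?_
    have hxP : x ∈ S.PL := mem_J hx h1 h2
    interval_cases k
    · obtain ⟨q, v, rfl⟩ : ∃ q v, S.e 0 q v = x := (S.mem_XZ_even 0 x).1 hx
      exact key1 _ hxP (S.e_e2 0 q v p u)
    · obtain ⟨t, rfl⟩ := S.X1 hx
      exact key _ _ hxP (S.q2_1 (t * p)) (S.o_e2 0 t p u)
    · obtain ⟨q, v, rfl⟩ := S.X2 hx
      exact key _ _ hxP (S.q2_2 (q * p)) (S.e_e1 1 q v p u)
    · obtain ⟨t, rfl⟩ := S.X3 hx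
      exact key1 _ hxP (S.o_e1 1 t p u)
    · obtain ⟨q, v, rfl⟩ := S.X4 hx
      refine key _ _ hxP (S.q2_3 (q * σ p + p * σ q)) ?_
      rw [S.e_mul, S.e_mul, S.e_mul, map_zero, mul_zero, add_zero, add_zero, add_comm q p]
      congr 1
      linear_combination -char2 S (p * σ q)
    · obtain ⟨t, rfl⟩ := S.X5 hx
      exact key1 _ hxP (S.e_o0 2 p u t).symm
    · obtain ⟨q, v, rfl⟩ := S.X6 hx
      refine key _ _ hxP (S.q2_4 (p * q)) ?_
      have h : S.e 2 p u * S.e 3 q v = S.e 3 q v * S.e 2 p u * S.o 2 (p * q) := S.e_e1 2 p u q v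
      rw [h, mul_assoc, S.o_add, char2 S, S.o_zero, mul_one]
    · obtain ⟨t, rfl⟩ := S.X7 hx
      refine key _ _ hxP (S.q2_5 (p * t)) ?_
      have h : S.e 2 p u * S.o 3 t = S.o 3 t * S.e 2 p u * S.e 3 0 (p * t) := S.e_o1 2 p u t
      rw [h, mul_assoc, ze, char2 S, S.e_zero, mul_one]
    · obtain ⟨q, v, rfl⟩ := S.X8 hx
      exact key1 _ hxP (S.e_e2 2 p u q v).symm
  exact (this hg).2

theorem mem_Q1 {x : Y} (hx : x ∈ S.Q1) : ∃ p u, ∃ w ∈ S.Q2, x = S.e 2 p u * w := by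
  obtain ⟨a, ha, w, hw, rfl⟩ := mem_sup_of_norm (A := S.XZ 4) (B := S.Q2) (fun a ha b hb => by
    rw [S.Q1_comm (Subgroup.mem_sup_left ha) hb, mul_inv_cancel_right]; exact hb) hx
  obtain ⟨p, u, rfl⟩ := S.X4 ha
  exact ⟨p, u, w, hw, rfl⟩

/-- `[PL, Q1] ≤ E_4` -/
theorem comm_Q1 {g a : Y} (hg : g ∈ S.PL) (ha : a ∈ S.Q1) : g * a * g⁻¹ * a⁻¹ ∈ S.Q2 := by
  obtain ⟨p, u, w, hw, rfl⟩ := mem_Q1 S ha
  obtain ⟨w', hw', h⟩ := comm_X4 S hg p u
  have e : g * (S.e 2 p u * w) * g⁻¹ * (S.e 2 p u * w)⁻¹ =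
      S.e 2 p u * ((g * w' * g⁻¹) * (g * w * g⁻¹) * w⁻¹) * (S.e 2 p u)⁻¹ := by
    calc g * (S.e 2 p u * w) * g⁻¹ * (S.e 2 p u * w)⁻¹ = (g * S.e 2 p u) * w * g⁻¹ * w⁻¹ * (S.e 2 p u)⁻¹ := by group
      _ = _ := by rw [h]; group
  rw [e]
  exact Q2_conj S (Q1_le_PL S (Subgroup.mem_sup_left (S.mX4 p u)))
    (mul_mem (mul_mem (Q2_conj S hg hw') (Q2_conj S hg hw)) (inv_mem hw))

/-! ### the torus -/

/-- the torus of the Levi complement -/
def sT (d : Fˣ) : Y := S.h (Units.map (σ : F →* F) d) d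

theorem c0 (d : Fˣ) : (chE σ 0 (Units.map (σ : F →* F) d) d : F) = σ d := rfl
theorem c1 (d : Fˣ) : (chE σ 1 (Units.map (σ : F →* F) d) d : F) = d := rfl
theorem c2 (d : Fˣ) : chE σ 2 (Units.map (σ : F →* F) d) d = 1 := by rw [chE_two, div_self']
include S in
theorem c3 (d : Fˣ) : chE σ 3 (Units.map (σ : F →* F) d) d = d⁻¹ := by
  rw [chE_three, map_map σ S.sq, pow_two, div_mul_cancel_left]
theorem c4 (d : Fˣ) : chE σ 4 (Units.map (σ : F →* F) d) d = (Units.map (σ : F →* F) d)⁻¹ := rfl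

theorem k0 (d : Fˣ) : (chO σ 0 (Units.map (σ : F →* F) d) d : F) = d * σ d := by
  rw [chO, Units.val_mul, zero_add, c0, c1, mul_comm]
theorem k1 (d : Fˣ) : (chO σ 1 (Units.map (σ : F →* F) d) d : F) = d := by
  rw [chO, show (1 : ZMod 8) + 1 = 2 from rfl, c2, mul_one]; rfl
include S in
theorem k2 (d : Fˣ) : (chO σ 2 (Units.map (σ : F →* F) d) d : F) = (d : F)⁻¹ := by
  rw [chO, show (2 : ZMod 8) + 1 = 3 from rfl, c2, one_mul, c3 S, Units.val_inv_eq_inv_val]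
include S in
theorem k3 (d : Fˣ) : (chO σ 3 (Units.map (σ : F →* F) d) d : F) = ((d : F) * σ d)⁻¹ := by
  rw [chO, show (3 : ZMod 8) + 1 = 4 from rfl, c3 S, c4, ← mul_inv, Units.val_inv_eq_inv_val, Units.val_mul]; rfl

theorem sT_mem (d : Fˣ) : sT S d ∈ S.Tk 4 := by
  refine ⟨S.mem_T.2 ⟨_, _, rfl⟩, Subgroup.mem_centralizer_iff.2 fun x hx => ?_⟩
  obtain ⟨p, u, rfl⟩ := S.X4 hx
  have h := S.h_e (Units.map (σ : F →* F) d) d 2 p u
  rw [c2, Units.val_one, map_one, one_mul, one_mul, one_mul, mul_inv_eq_iff_eq_mul] at h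
  exact h.symm

theorem mem_Tk4 {s : Y} (hs : s ∈ S.Tk 4) : ∃ d, s = sT S d := by
  obtain ⟨c, d, rfl⟩ := S.mem_T.1 hs.1
  have h1 := S.Tk_comm hs (S.mX4 1 0)
  have h2 := S.h_e c d 2 1 0
  rw [h1, mul_inv_cancel_right, mul_one] at h2
  have h3 : chE σ 2 c d = 1 := Units.ext (S.injE 2 _ _ _ _ h2).1.symm
  rw [chE_two, div_eq_one] at h3
  exact ⟨d, by rw [sT, h3]⟩

theorem sT_inj {d d' : Fˣ} (h : sT S d = sT S d') : d = d' := (S.h_inj _ _ _ _ h).2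

theorem sT_one : sT S 1 = 1 := by rw [sT, map_one, S.h_one]

theorem sT_PL [Finite F] (d : Fˣ) : sT S d ∈ S.PL := S.h_mem_PL d

theorem sT_o0 (d : Fˣ) (x : F) : sT S d * S.o 0 x * (sT S d)⁻¹ = S.o 0 (d * σ d * x) := by
  rw [sT, S.h_o, k0]
theorem sT_e1 (d : Fˣ) (p u : F) : sT S d * S.e 1 p u * (sT S d)⁻¹ = S.e 1 (d * p) (d * σ d * u) := by
  rw [sT, S.h_e, c1]
theorem sT_o1 (d : Fˣ) (x : F) : sT S d * S.o 1 x * (sT S d)⁻¹ = S.o 1 (d * x) := by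
  rw [sT, S.h_o, k1]
theorem sT_e2 (d : Fˣ) (p u : F) : sT S d * S.e 2 p u * (sT S d)⁻¹ = S.e 2 p u := by
  rw [sT, S.h_e, c2, Units.val_one, map_one, one_mul, one_mul, one_mul]
theorem sT_o2 (d : Fˣ) (x : F) : sT S d * S.o 2 x * (sT S d)⁻¹ = S.o 2 ((d : F)⁻¹ * x) := by
  rw [sT, S.h_o, k2 S]
theorem sT_e3 (d : Fˣ) (p u : F) : sT S d * S.e 3 p u * (sT S d)⁻¹ = S.e 3 ((d : F)⁻¹ * p) (((d : F) * σ d)⁻¹ * u) := by
  rw [sT, S.h_e, c3 S, Units.val_inv_eq_inv_val, map_inv₀, ← mul_inv]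
theorem sT_o3 (d : Fˣ) (x : F) : sT S d * S.o 3 x * (sT S d)⁻¹ = S.o 3 (((d : F) * σ d)⁻¹ * x) := by
  rw [sT, S.h_o, k3 S]
theorem sT_e4 (d : Fˣ) (p u : F) : sT S d * S.e 4 p u * (sT S d)⁻¹ =
    S.e 4 ((σ (d : F))⁻¹ * p) ((σ (d : F))⁻¹ * σ (σ (d : F))⁻¹ * u) := by
  rw [sT, S.h_e, c4, Units.val_inv_eq_inv_val]; rfl

theorem sT_EE (s : Fˣ) (a b z c d : F) : sT S s * EE S a b z c d * (sT S s)⁻¹ =
    EE S (s * σ s * a) (s * b) z ((s : F)⁻¹ * c) (((s : F) * σ s)⁻¹ * d) := by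
  unfold EE
  calc sT S s * (S.e 1 0 a * S.o 1 b * S.e 2 0 z * S.o 2 c * S.e 3 0 d) * (sT S s)⁻¹ =
      (sT S s * S.e 1 0 a * (sT S s)⁻¹) * (sT S s * S.o 1 b * (sT S s)⁻¹) * (sT S s * S.e 2 0 z * (sT S s)⁻¹) *
      (sT S s * S.o 2 c * (sT S s)⁻¹) * (sT S s * S.e 3 0 d * (sT S s)⁻¹) := by group
    _ = _ := by rw [sT_e1, sT_o1, sT_e2, sT_o2, sT_e3, mul_zero, mul_zero]

/-- `n2` on `E_4` -/
theorem n2_EE (a b z c d : F) : S.n2 * EE S a b z c d * S.n2⁻¹ = EE S d c z b a := by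
  unfold EE
  have h : S.n2 * (S.e 1 0 a * S.o 1 b * S.e 2 0 z * S.o 2 c * S.e 3 0 d) * S.n2⁻¹ =
      (S.n2 * S.e 1 0 a * S.n2⁻¹) * (S.n2 * S.o 1 b * S.n2⁻¹) * (S.n2 * S.e 2 0 z * S.n2⁻¹) *
      (S.n2 * S.o 2 c * S.n2⁻¹) * (S.n2 * S.e 3 0 d * S.n2⁻¹) := by group
  rw [h, S.n2_e, S.n2_o, S.n2_e, S.n2_o, S.n2_e]
  show S.e 3 0 a * S.o 2 b * S.e 2 0 z * S.o 1 c * S.e 1 0 d = _
  rw [EE_d, EE_c, EE_z, EE_b, EE_a]
  simp only [EE_mul, add_zero, zero_add]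

end Cfsg.Agent.OddHalf.D7TwF4.NormE

end

-- merged: Cfsg.Agent.OddHalf.D7TwF4.NormSuz
section

/-!
# D7, `K = ²F₄(q)`: lemmas on the field (helper467)

* `tt0` : an additive map with a non-trivial multiplicative period is zero;
* `scal` : an additive map commuting with all multiplications is a multiplication;
* `suz` : an endomorphism of 2-power order of the Suzuki 2-group, equivariant up to a permutation of the torus, is the
  identity.
-/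

set_option autoImplicit false
set_option maxHeartbeats 400000

namespace Cfsg.Agent.OddHalf.D7TwF4.NormSuz

universe w

variable {F : Type w} [Field F] {σ : F →+* F}

theorem add_self (two : (2 : F) = 0) (x : F) : x + x = 0 := by
  rw [← two_mul, two, zero_mul]

theorem add_zero_of {g : F → F} (hg : ∀ x y, g (x + y) = g x + g y) : g 0 = 0 := by
  have := hg 0 0
  rw [add_zero] at this
  exact left_eq_add.1 this

/-- an additive map with `g (c x) = g x`, `c ≠ 1`, is zero -/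
theorem tt0 (two : (2 : F) = 0) {g : F → F} (hg : ∀ x y, g (x + y) = g x + g y) {c : F} (hc : c ≠ 1)
    (h : ∀ x, g (c * x) = g x) (x : F) : g x = 0 := by
  have h1 : c + 1 ≠ 0 := by
    intro h0
    apply hc
    have : c + 1 + 1 = 1 := by rw [h0, zero_add]
    rwa [add_assoc, add_self two, add_zero] at this
  have h2 := hg (c * ((c + 1)⁻¹ * x)) ((c + 1)⁻¹ * x)
  have h3 : c * ((c + 1)⁻¹ * x) + (c + 1)⁻¹ * x = x := by
    field_simp
  rw [h3, h, add_self two] at h2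
  exact h2

/-- an additive map commuting with the multiplications -/
theorem scal {g : F → F} (hg : ∀ x y, g (x + y) = g x + g y) (h : ∀ (c : Fˣ) x, g (c * x) = c * g x) (x : F) :
    g x = x * g 1 := by
  by_cases hx : x = 0
  · rw [hx, add_zero_of hg, zero_mul]
  · have := h (Units.mk0 x hx) 1
    rwa [mul_one] at this

theorem pow_two_eq_one (two : (2 : F) = 0) : ∀ (k : ℕ) {x : F}, x ^ (2 ^ k) = 1 → x = 1 := by
  intro k
  induction k with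
  | zero => intro x h; simpa using h
  | succ k ih =>
    intro x h
    rw [pow_succ, pow_mul] at h
    apply ih
    have h1 : (x ^ 2 ^ k - 1) ^ 2 = 0 := by
      have : (x ^ 2 ^ k - 1) ^ 2 = (x ^ 2 ^ k) ^ 2 - 2 * x ^ 2 ^ k + 1 := by ring
      rw [this, h, two]
      linear_combination two
    exact sub_eq_zero.1 (pow_eq_zero_iff two_ne_zero |>.1 h1)

/-- a multiplication of 2-power order is trivial -/
theorem scal_one (two : (2 : F) = 0) {g : F → F} {c : F} (h : ∀ x, g x = x * c) {k : ℕ}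
    (hk : ∀ x, g^[2 ^ k] x = x) : c = 1 := by
  have h1 : ∀ n : ℕ, ∀ x, g^[n] x = x * c ^ n := by
    intro n
    induction n with
    | zero => intro x; simp
    | succ n ih =>
      intro x
      rw [Function.iterate_succ_apply', ih, h, pow_succ, mul_assoc]
  have h2 := h1 (2 ^ k) 1
  rw [hk, one_mul] at h2
  exact pow_two_eq_one two k h2.symm

section suz

variable [Finite F]

theorem s1_surj (two : (2 : F) = 0) (hσ : ∀ x : F, σ (σ x) = x ^ 2) (v : F) : ∃ q : F, q * σ q = v := by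
  by_cases hv : v = 0
  · exact ⟨0, by rw [hv, zero_mul]⟩
  let f : Fˣ →* Fˣ := MonoidHom.id Fˣ * Units.map (σ : F →* F)
  have hf : Function.Injective f := (injective_iff_map_eq_one f).2 fun χ h => by
    have h0 : χ * Units.map (σ : F →* F) χ = 1 := h
    have h1 : (χ : F) * σ χ = 1 := congrArg Units.val h0
    have h2 := congrArg σ h1
    rw [map_mul, hσ, map_one] at h2
    have h3 : (χ : F) = 1 := by
      have : (χ : F) * (σ χ * χ ^ 2) = χ ^ 2 := by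
        calc (χ : F) * (σ χ * χ ^ 2) = (χ * σ χ) * χ ^ 2 := by ring
          _ = _ := by rw [h1, one_mul]
      rw [h2, mul_one, pow_two] at this
      exact (mul_right_cancel₀ χ.ne_zero ((one_mul (χ : F)).trans this)).symm
    exact Units.ext h3
  obtain ⟨χ, hχ⟩ := Finite.surjective_of_injective hf (Units.mk0 v hv)
  exact ⟨χ, congrArg Units.val hχ⟩

/-- **The Suzuki 2-group.** -/
theorem suz (hσ : ∀ x : F, σ (σ x) = x ^ 2) (two : (2 : F) = 0) (hne : ∃ x, σ x ≠ x) {a b : F → F → F}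
    (ha : ∀ q v q' v', a (q + q') (v + v' + q * σ q') = a q v + a q' v')
    (hb : ∀ q v q' v', b (q + q') (v + v' + q * σ q') = b q v + b q' v' + a q v * σ (a q' v'))
    (he : ∀ χ : Fˣ, ∃ χ' : Fˣ, (∀ q v, a (χ * q) (χ * σ χ * v) = χ' * a q v) ∧
      ∀ q v, b (χ * q) (χ * σ χ * v) = χ' * σ χ' * b q v)
    (hn : ∃ q v, a q v ≠ 0) {k : ℕ}
    (hp : ∀ q v, (fun x : F × F => (a x.1 x.2, b x.1 x.2))^[2 ^ k] (q, v) = (q, v)) :
    (∀ q v, a q v = q) ∧ ∀ q v, b q v = v := by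
  have c2 := add_self two
  -- `a` does not depend on `v`
  have a0 : ∀ v, a 0 v = 0 := by
    intro v
    obtain ⟨q, rfl⟩ := s1_surj two hσ v
    have := ha q 0 q 0
    rwa [c2, add_zero, zero_add, c2] at this
  have a1 : ∀ q v, a q v = a q 0 := by
    intro q v
    have := ha q 0 0 v
    rwa [add_zero, zero_add, map_zero, mul_zero, add_zero, a0, add_zero] at this
  have hA : ∀ q q', a (q + q') 0 = a q 0 + a q' 0 := by
    intro q q'
    have := ha q 0 q' 0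
    rwa [a1 (q + q')] at this
  have hAe : ∀ χ : Fˣ, ∃ χ' : Fˣ, ∀ q, a (χ * q) 0 = χ' * a q 0 := by
    intro χ
    obtain ⟨χ', h1, -⟩ := he χ
    refine ⟨χ', fun q => ?_⟩
    have := h1 q 0
    rwa [mul_zero] at this
  have hA1 : a 1 0 ≠ 0 := by
    intro h0
    obtain ⟨q, v, hq⟩ := hn
    apply hq
    rw [a1]
    by_cases hq0 : q = 0
    · rw [hq0, a0]
    · obtain ⟨χ', h1⟩ := hAe (Units.mk0 q hq0)
      have := h1 1
      rwa [mul_one, h0, mul_zero] at this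
  set A1 := a 1 0 with hA1d
  have hmul : ∀ x y, a (x * y) 0 * A1 = a x 0 * a y 0 := by
    intro x y
    by_cases hx : x = 0
    · rw [hx, zero_mul, a0, zero_mul, zero_mul]
    · obtain ⟨χ', h1⟩ := hAe (Units.mk0 x hx)
      have e1 := h1 y
      have e2 := h1 1
      rw [mul_one] at e2
      change a (x * y) 0 = _ at e1
      change a x 0 = _ at e2
      rw [e1, e2]; ring
  -- the field automorphism
  let τ : F →+* F :=
    { toFun := fun x => a x 0 / A1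
      map_one' := div_self hA1
      map_zero' := by rw [a0, zero_div]
      map_add' := fun x y => by rw [hA, add_div]
      map_mul' := fun x y => by
        have := hmul x y
        field_simp
        linear_combination this }
  have hτ : ∀ x, a x 0 = τ x * A1 := by
    intro x
    show a x 0 = a x 0 / A1 * A1
    field_simp
  let te : F ≃+* F := RingEquiv.ofBijective τ ⟨τ.injective, Finite.surjective_of_injective τ.injective⟩
  have hte : ∀ x, te x = τ x := fun x => rfl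
  -- iterates
  have hAn : ∀ n : ℕ, ∀ q v, ((fun x : F × F => (a x.1 x.2, b x.1 x.2))^[n] (q, v)).1 = (fun x => a x 0)^[n] q := by
    intro n
    induction n with
    | zero => intro q v; rfl
    | succ n ih =>
      intro q v
      rw [Function.iterate_succ_apply', Function.iterate_succ_apply']
      show a _ _ = a _ 0
      rw [a1, ih]
  have hAk : ∀ q, (fun x => a x 0)^[2 ^ k] q = q := by
    intro q
    rw [← hAn _ q 0, hp]
  have hit : ∀ n : ℕ, ∀ x, (fun x => a x 0)^[n] x = (fun x => te x)^[n] x * (fun x => a x 0)^[n] 1 := by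
    intro n
    induction n with
    | zero => intro x; simp
    | succ n ih =>
      intro x
      rw [Function.iterate_succ_apply', Function.iterate_succ_apply', Function.iterate_succ_apply', ih]
      show a _ 0 = te _ * a _ 0
      rw [hτ, hτ ((fun x => a x 0)^[n] 1), map_mul, hte, mul_assoc]
  have h1k : (fun x => a x 0)^[2 ^ k] 1 = 1 := hAk 1
  have htk : ∀ x, te^[2 ^ k] x = x := by
    intro x
    have := hit (2 ^ k) x
    rw [h1k, mul_one, hAk] at this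
    exact this.symm
  haveI : Fintype F := Fintype.ofFinite F
  obtain ⟨m, hm, -⟩ := Cfsg.Agent.Octagon.FieldAut171.exists_rln σ hσ
  have hid : ∀ x, te x = x := Cfsg.Agent.ThreePrime.SzRel.fieldAut_eq (by rw [← Nat.card_eq_fintype_card, hm]) te k htk
  have hA' : ∀ x, a x 0 = x * A1 := by
    intro x
    rw [hτ, ← hte, hid]
  have hA1' : A1 = 1 := scal_one two hA' hAk
  have hAA : ∀ q v, a q v = q := by
    intro q v
    rw [a1, hA', hA1', mul_one]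
  refine ⟨hAA, ?_⟩
  -- `b`
  have b0 : ∀ v, b 0 v = v := by
    intro v
    obtain ⟨q, rfl⟩ := s1_surj two hσ v
    have := hb q 0 q 0
    rwa [c2, add_zero, zero_add, hAA, c2, zero_add] at this
  have b1 : ∀ q v, b q v = b q 0 + v := by
    intro q v
    have := hb q 0 0 v
    rwa [add_zero, zero_add, map_zero, mul_zero, add_zero, b0, hAA, hAA, map_zero, mul_zero, add_zero] at this
  have hC : ∀ q q', b (q + q') 0 = b q 0 + b q' 0 := by
    intro q q'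
    have := hb q 0 q' 0
    rw [b1 (q + q'), hAA, hAA, add_zero, zero_add] at this
    exact add_right_cancel this
  have hCe : ∀ q, b q 0 = q * σ q * b 1 0 := by
    intro q
    by_cases hq : q = 0
    · rw [hq, b0, zero_mul, zero_mul]
    · obtain ⟨χ', h1, h2⟩ := he (Units.mk0 q hq)
      have e1 := h1 1 0
      have e2 := h2 1 0
      rw [mul_one, mul_zero, hAA, hAA, mul_one] at e1
      rw [mul_one, mul_zero, ← e1] at e2
      exact e2
  have hc : b 1 0 = 0 := by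
    obtain ⟨x, hx⟩ := hne
    have h1 := hC x 1
    rw [hCe (x + 1), hCe x, map_add, map_one] at h1
    have h2 : (x + σ x) * b 1 0 = 0 := by
      linear_combination h1
    rcases mul_eq_zero.1 h2 with h3 | h3
    · exfalso
      apply hx
      have : x + σ x + x = x := by rw [h3, zero_add]
      rw [add_right_comm, c2, zero_add] at this
      exact this
    · exact h3
  intro q v
  rw [b1, hCe, hc, mul_zero, zero_add]

end suz

end Cfsg.Agent.OddHalf.D7TwF4.NormSuz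

end

-- merged: Cfsg.Agent.OddHalf.D7TwF4.NormF
section

/-!
# D7, `K = ²F₄(q)`: the action of a 2-element on `C_Y(Z_4)` (helper467)

`NF S f` : `f` acts on `PL = C_Y(Z_4)` as an automorphism of 2-power order preserving `U`.
Steps A - C: after a conjugation by an element of `U`, `f` is the identity on `S_4`, trivial on `U / Q`, and
`f n2 ∈ n2 Z_4`.
-/

set_option autoImplicit false
set_option maxHeartbeats 400000
set_option linter.unusedSectionVars false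

namespace Cfsg.Agent.OddHalf.D7TwF4.NormF

open Cfsg.Agent.KFacts.TwF4 Cfsg.Agent.SplitTwo.ZS Cfsg.Agent.OddHalf.D7TwF4.NormE
open Cfsg.Agent.OddHalf.D7TwF4.NormSuz
open Cfsg.Agent.KFacts.TwF4.Inv Cfsg.Agent.KFacts.TwF4.SylU Cfsg.Agent.KFacts.TwF4.Perf Cfsg.Agent.KFacts.TwF4.Arc

universe u w

variable {F : Type w} [Field F] {σ : F →+* F} {Y : Type u} [Group Y]

/-- `f` acts on `PL` as an automorphism of 2-power order preserving `U` -/
structure NF (S : Full σ Y) (f : Y → Y) : Prop where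
  mul : ∀ x ∈ S.PL, ∀ y ∈ S.PL, f (x * y) = f x * f y
  mem : ∀ x ∈ S.PL, f x ∈ S.PL
  memU : ∀ x ∈ J S.XZ 1 8, f x ∈ J S.XZ 1 8
  ord : ∃ k : ℕ, ∀ x ∈ S.PL, f^[2 ^ k] x = x

theorem R_p (S : Full σ Y) : S.R.p = 2 := by
  have h1 : S.o 0 1 ∈ S.R.X (od 0) := (S.mem_odd 0 _).2 ⟨1, rfl⟩
  obtain ⟨k, hk⟩ := S.R.isPGroup (od 0) ⟨_, h1⟩
  have hk' : S.o 0 1 ^ (S.R.p ^ k) = 1 := by simpa using congrArg Subtype.val hk
  have : Fact (Nat.Prime 2) := ⟨Nat.prime_two⟩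
  have h2 : orderOf (S.o 0 1) = 2 := orderOf_eq_prime (by rw [pow_two, S.o_add, NormE.char2 S, S.o_zero])
    (fun h => one_ne_zero (S.o_eq_one h))
  have h3 := orderOf_dvd_of_pow_eq_one hk'
  rw [h2] at h3
  exact ((Nat.prime_dvd_prime_iff_eq Nat.prime_two S.R.prime).1 (Nat.prime_two.dvd_of_dvd_pow h3)).symm

variable [Finite F] [Finite Y]

theorem two_U (S : Full σ Y) : IsPGroup 2 (J S.XZ 1 8) :=
  isPGroup_J S.zsys8 (two_X S (R_p S)) 8 1 8 (by norm_num) (by norm_num)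

namespace NF

variable {S : Full σ Y} {f : Y → Y} (N : NF S f)

include N

theorem one : f 1 = 1 := by
  have h := N.mul 1 (one_mem _) 1 (one_mem _)
  rw [mul_one] at h
  exact mul_eq_left.1 h.symm

theorem inv {x : Y} (hx : x ∈ S.PL) : f x⁻¹ = (f x)⁻¹ := by
  have h := N.mul x hx x⁻¹ (inv_mem hx)
  rw [mul_inv_cancel, N.one] at h
  exact (inv_eq_of_mul_eq_one_right h.symm).symm

theorem conj {x y : Y} (hx : x ∈ S.PL) (hy : y ∈ S.PL) : f (x * y * x⁻¹) = f x * f y * (f x)⁻¹ := by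
  rw [N.mul _ (mul_mem hx hy) _ (inv_mem hx), N.mul _ hx _ hy, N.inv hx]

theorem conj' {x y : Y} (hx : x ∈ S.PL) (hy : y ∈ S.PL) : f (x⁻¹ * y * x) = (f x)⁻¹ * f y * f x := by
  rw [N.mul _ (mul_mem (inv_mem hx) hy) _ hx, N.mul _ (inv_mem hx) _ hy, N.inv hx]

theorem pow {x : Y} (hx : x ∈ S.PL) (n : ℕ) : f (x ^ n) = f x ^ n := by
  induction n with
  | zero => rw [pow_zero, pow_zero, N.one]
  | succ n ih => rw [pow_succ, pow_succ, N.mul _ (pow_mem hx n) _ hx, ih]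

theorem it_mem {x : Y} (hx : x ∈ S.PL) (n : ℕ) : f^[n] x ∈ S.PL := by
  induction n with
  | zero => exact hx
  | succ n ih => rw [Function.iterate_succ_apply']; exact N.mem _ ih

theorem it_memU {x : Y} (hx : x ∈ J S.XZ 1 8) (n : ℕ) : f^[n] x ∈ J S.XZ 1 8 := by
  induction n with
  | zero => exact hx
  | succ n ih => rw [Function.iterate_succ_apply']; exact N.memU _ ih

theorem it_mul {x y : Y} (hx : x ∈ S.PL) (hy : y ∈ S.PL) (n : ℕ) : f^[n] (x * y) = f^[n] x * f^[n] y := by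
  induction n with
  | zero => rfl
  | succ n ih =>
    rw [Function.iterate_succ_apply', Function.iterate_succ_apply', Function.iterate_succ_apply', ih,
      N.mul _ (N.it_mem hx n) _ (N.it_mem hy n)]

theorem surj {x : Y} (hx : x ∈ S.PL) : ∃ y ∈ S.PL, f y = x := by
  obtain ⟨k, hk⟩ := N.ord
  obtain ⟨m, hm⟩ : ∃ m, 2 ^ k = m + 1 := ⟨2 ^ k - 1, by have := Nat.one_le_two_pow (n := k); omega⟩
  refine ⟨f^[m] x, N.it_mem hx m, ?_⟩
  have h := hk x hx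
  rwa [hm, Function.iterate_succ_apply'] at h

theorem surjU {x : Y} (hx : x ∈ J S.XZ 1 8) : ∃ y ∈ J S.XZ 1 8, f y = x := by
  obtain ⟨k, hk⟩ := N.ord
  obtain ⟨m, hm⟩ : ∃ m, 2 ^ k = m + 1 := ⟨2 ^ k - 1, by have := Nat.one_le_two_pow (n := k); omega⟩
  refine ⟨f^[m] x, N.it_memU hx m, ?_⟩
  have h := hk x (U_le_PL S hx)
  rwa [hm, Function.iterate_succ_apply'] at h

theorem inj {x y : Y} (hx : x ∈ S.PL) (hy : y ∈ S.PL) (h : f x = f y) : x = y := by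
  obtain ⟨k, hk⟩ := N.ord
  obtain ⟨m, hm⟩ : ∃ m, 2 ^ k = m + 1 := ⟨2 ^ k - 1, by have := Nat.one_le_two_pow (n := k); omega⟩
  have h1 := hk x hx
  have h2 := hk y hy
  rw [hm, Function.iterate_succ_apply] at h1 h2
  rw [← h1, ← h2, h]

theorem eq_one {x : Y} (hx : x ∈ S.PL) (h : f x = 1) : x = 1 :=
  N.inj hx (one_mem _) (h.trans N.one.symm)

/-- conjugation by an element of `U` -/
theorem conjU {w : Y} (hw : w ∈ J S.XZ 1 8) : NF S (fun x => w * f x * w⁻¹) where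
  mul x hx y hy := by
    show w * f (x * y) * w⁻¹ = _
    rw [N.mul x hx y hy]; group
  mem x hx := mul_mem (mul_mem (U_le_PL S hw) (N.mem x hx)) (inv_mem (U_le_PL S hw))
  memU x hx := mul_mem (mul_mem hw (N.memU x hx)) (inv_mem hw)
  ord := by
    obtain ⟨k, hk⟩ := N.ord
    have key : ∀ m : ℕ, ∃ v ∈ J S.XZ 1 8, ∀ x ∈ S.PL, (fun x => w * f x * w⁻¹)^[m] x = v * f^[m] x * v⁻¹ := by
      intro m
      induction m with
      | zero => exact ⟨1, one_mem _, fun x _ => by simp⟩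
      | succ m ih =>
        obtain ⟨v, hv, h⟩ := ih
        refine ⟨w * f v, mul_mem hw (N.memU v hv), fun x hx => ?_⟩
        rw [Function.iterate_succ_apply', h x hx, Function.iterate_succ_apply' f]
        show w * f (v * f^[m] x * v⁻¹) * w⁻¹ = _
        rw [N.conj (U_le_PL S hv) (N.it_mem hx m)]
        group
    obtain ⟨v, hv, h⟩ := key (2 ^ k)
    obtain ⟨l, hl⟩ := two_U S ⟨v, hv⟩
    have hl' : v ^ (2 ^ l) = 1 := by simpa using congrArg Subtype.val hl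
    refine ⟨k + l, fun x hx => ?_⟩
    rw [pow_add, Function.iterate_mul]
    have h2 : ∀ n : ℕ, ((fun x => w * f x * w⁻¹)^[2 ^ k])^[n] x = v ^ n * x * (v ^ n)⁻¹ := by
      intro n
      induction n with
      | zero => simp
      | succ n ih =>
        have hm : v ^ n * x * (v ^ n)⁻¹ ∈ S.PL :=
          mul_mem (mul_mem (pow_mem (U_le_PL S hv) n) hx) (inv_mem (pow_mem (U_le_PL S hv) n))
        rw [Function.iterate_succ_apply', ih, h _ hm, hk _ hm, pow_succ']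
        group
    rw [h2, hl', one_mul, inv_one, mul_one]

/-- `f` preserves `Q` -/
theorem memQ (hF : ∃ c : Fˣ, c ≠ 1) {x : Y} (hx : x ∈ S.Q) : f x ∈ S.Q := by
  let K : Subgroup Y :=
    { carrier := {y | ∃ x ∈ S.Q, f x = y}
      one_mem' := ⟨1, one_mem _, N.one⟩
      mul_mem' := by
        rintro _ _ ⟨x, hx, rfl⟩ ⟨y, hy, rfl⟩
        exact ⟨x * y, mul_mem hx hy, N.mul _ (Q_le_PL S hx) _ (Q_le_PL S hy)⟩
      inv_mem' := by
        rintro _ ⟨x, hx, rfl⟩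
        exact ⟨x⁻¹, inv_mem hx, N.inv (Q_le_PL S hx)⟩ }
  have hK : K ≤ S.Q := by
    refine O2_PL S hF (R_p S) ?_ ?_ ?_
    · rintro _ ⟨x, hx, rfl⟩
      exact N.mem _ (Q_le_PL S hx)
    · rintro ⟨_, x, hx, rfl⟩
      obtain ⟨l, hl⟩ := two_U S ⟨x, Q_le_U S hx⟩
      have hl' : x ^ (2 ^ l) = 1 := by simpa using congrArg Subtype.val hl
      refine ⟨l, Subtype.ext ?_⟩
      show f x ^ (2 ^ l) = 1
      rw [← N.pow (Q_le_PL S hx), hl', N.one]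
    · rintro g hg _ ⟨x, hx, rfl⟩
      obtain ⟨g', hg', rfl⟩ := N.surj hg
      exact ⟨g' * x * g'⁻¹, Perf.Q_norm S hg' hx, N.conj hg' (Q_le_PL S hx)⟩
  exact hK ⟨x, hx, rfl⟩

/-- the image of the torus element -/
theorem T_PL {t : Y} (ht : t ∈ S.T) (htP : t ∈ S.PL) : t ∈ S.Tk 4 := by
  obtain ⟨c, d, rfl⟩ := S.mem_T.1 ht
  have h1 := S.comm_PL htP (z := S.e 2 0 1) ⟨1, rfl⟩
  have h2 := S.h_e c d 2 0 1
  rw [h1, mul_inv_cancel_right, mul_zero, mul_one] at h2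
  have h3 : chE σ 2 c d = 1 := S.unit_eq_one (Units.ext (S.injE 2 _ _ _ _ h2).2.symm)
  rw [chE_two, div_eq_one] at h3
  have := sT_mem S d
  rwa [sT, h3] at this

/-- **Step A**: a torus element of prime order goes into the torus -/
theorem stepA (hF : ∃ c : Fˣ, c ≠ 1) :
    ∃ w ∈ J S.XZ 1 8, ∃ s ∈ S.Tk 4, s ≠ 1 ∧ w * f s * w⁻¹ ∈ S.Tk 4 := by
  obtain ⟨r, c, hr, hcr, hc1⟩ := exists_prime_unit hF
  have hr2 : r ≠ 2 := ne_two S hcr hc1
  have hsr : sT S c ^ r = 1 := by rw [sT, h_pow, ← map_pow, hcr, map_one, S.h_one]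
  have hsP : sT S c ∈ S.PL := sT_PL S c
  have hnc : ∀ x ∈ J S.XZ 1 8, sT S c * x * (sT S c)⁻¹ ∈ J S.XZ 1 8 := fun x hx => h_J S _ _ hx
  have hnc' : ∀ x ∈ J S.XZ 1 8, (sT S c)⁻¹ * x * sT S c ∈ J S.XZ 1 8 := fun x hx => h_J_inv S _ _ hx
  have hn : ∀ x, x ∈ J S.XZ 1 8 ↔ f (sT S c) * x * (f (sT S c))⁻¹ ∈ J S.XZ 1 8 := by
    intro x
    constructor
    · intro hx
      obtain ⟨y, hy, rfl⟩ := N.surjU hx
      rw [← N.conj hsP (U_le_PL S hy)]
      exact N.memU _ (hnc y hy)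
    · intro hx
      obtain ⟨y, hy, e⟩ := N.surjU hx
      have e1 : x = f ((sT S c)⁻¹ * y * sT S c) := by
        rw [N.conj' hsP (U_le_PL S hy), e]; group
      rw [e1]
      exact N.memU _ (hnc' y hy)
  obtain ⟨b, hb, t, ht, e⟩ := norm_U S hF (R_p S) hn
  have htP : t ∈ S.PL := by
    have : t = b⁻¹ * f (sT S c) := by rw [e]; group
    rw [this]
    exact mul_mem (inv_mem (U_le_PL S hb)) (N.mem _ hsP)
  have ht4 : t ∈ S.Tk 4 := T_PL N ht htP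
  have htU : ∀ x ∈ J S.XZ 1 8, t * x * t⁻¹ ∈ J S.XZ 1 8 := fun x hx => S.T_conj_J ht hx
  have hfr : f (sT S c) ^ r = 1 := by rw [← N.pow hsP, hsr, N.one]
  have htr : t ^ r = 1 := by
    have key : ∀ n : ℕ, ∃ b' ∈ J S.XZ 1 8, (b * t) ^ n = b' * t ^ n := by
      intro n
      induction n with
      | zero => exact ⟨1, one_mem _, by simp⟩
      | succ n ih =>
        obtain ⟨b', hb', h⟩ := ih
        refine ⟨b * (t * b' * t⁻¹), mul_mem hb (htU b' hb'), ?_⟩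
        rw [pow_succ', h, pow_succ']; group
    obtain ⟨b', hb', h⟩ := key r
    rw [← e, hfr] at h
    apply S.U_inf_T (pow_mem ht r)
    have : t ^ r = b'⁻¹ := eq_inv_of_mul_eq_one_right h.symm
    rw [this]; exact inv_mem hb'
  obtain ⟨x, hx, hxw⟩ := InvConj.conj_prime (two_U S) hr hr2 hfr htr htU (by rw [e, mul_inv_cancel_right]; exact hb)
  refine ⟨x⁻¹, inv_mem hx, sT S c, sT_mem S c, ?_, ?_⟩
  · intro h
    exact hc1 (sT_inj S (h.trans (sT_one S).symm))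
  · rw [inv_inv, hxw]; exact ht4

/-- the group of units has odd order -/
theorem odd_units : Nat.Coprime (Nat.card Fˣ) 4 := by
  have h2 : ¬ 2 ∣ Nat.card Fˣ := by
    intro h
    have : Fact (Nat.Prime 2) := ⟨Nat.prime_two⟩
    obtain ⟨x, hx⟩ := exists_prime_orderOf_dvd_card' 2 h
    have h1 : x * x = 1 := by rw [← pow_two, ← hx]; exact pow_orderOf_eq_one x
    rw [unit_sq S h1, orderOf_one] at hx
    exact absurd hx (by norm_num)
  have h3 : Nat.Coprime (Nat.card Fˣ) 2 := by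
    rw [Nat.coprime_comm, Nat.prime_two.coprime_iff_not_dvd]; exact h2
  exact Nat.Coprime.pow_right 2 h3

theorem sT_pow (d : Fˣ) (n : ℕ) : sT S d ^ n = sT S (d ^ n) := by
  rw [sT, h_pow, ← map_pow]; rfl

/-- **Step A, 2**: the torus goes into the torus -/
theorem stepA2 {s : Y} (hs : s ∈ S.Tk 4) (hs1 : s ≠ 1) (hfs : f s ∈ S.Tk 4) {s' : Y} (hs' : s' ∈ S.Tk 4) :
    f s' ∈ S.Tk 4 := by
  obtain ⟨d, rfl⟩ := mem_Tk4 S hs'
  obtain ⟨d0, rfl⟩ := mem_Tk4 S hs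
  have hfs1 : f (sT S d0) ≠ 1 := fun h => hs1 (N.eq_one (sT_PL S d0) h)
  have hc : f (sT S d) * f (sT S d0) = f (sT S d0) * f (sT S d) := by
    rw [← N.mul _ (sT_PL S d) _ (sT_PL S d0), ← N.mul _ (sT_PL S d0) _ (sT_PL S d),
      S.T_comm (S.Tk_le 4 hs') (S.Tk_le 4 hs)]
  obtain ⟨x, hx, t, ht, e⟩ := S.centralizer_Tk (N.mem _ (sT_PL S d)) hfs hfs1 hc
  have htx : Commute x t := (S.Tk_comm ht hx).symm
  obtain ⟨d', rfl⟩ := mem_Tk4 S ht
  set n := Nat.card Fˣ with hn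
  have hd : ∀ d : Fˣ, d ^ n = 1 := fun d => pow_card_eq_one'
  have h1 : (x * sT S d') ^ n = 1 := by
    rw [← e, ← N.pow (sT_PL S d), sT_pow N, hd, sT_one, N.one]
  rw [htx.mul_pow, sT_pow N, hd, sT_one, mul_one] at h1
  have h4 : x ^ 4 = 1 := by
    obtain ⟨p, u, rfl⟩ := S.X4 hx
    have : S.e 2 p u ^ 4 = (S.e 2 p u * S.e 2 p u) * (S.e 2 p u * S.e 2 p u) := by
      rw [show (4 : ℕ) = 1 + 1 + 1 + 1 by norm_num, pow_succ, pow_succ, pow_succ, pow_one]; group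
    rw [this, e_sq, ze, NormE.char2 S, S.e_zero]
  have hx1 : x = 1 := by
    have h5 := Nat.dvd_gcd (orderOf_dvd_of_pow_eq_one h1) (orderOf_dvd_of_pow_eq_one h4)
    have h6 : Nat.gcd n 4 = 1 := odd_units N
    rw [h6, Nat.dvd_one, orderOf_eq_one_iff] at h5
    exact h5
  rw [e, hx1, one_mul]
  exact ht

end NF

end Cfsg.Agent.OddHalf.D7TwF4.NormF

end

-- merged: Cfsg.Agent.OddHalf.D7TwF4.NormB
section

/-!
# D7, `K = ²F₄(q)`: the action on `U / Q`, on the torus and on `n2` (helper467)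
-/

set_option autoImplicit false
set_option maxHeartbeats 400000
set_option linter.unusedSectionVars false

namespace Cfsg.Agent.OddHalf.D7TwF4.NormF

open Cfsg.Agent.KFacts.TwF4 Cfsg.Agent.SplitTwo.ZS Cfsg.Agent.OddHalf.D7TwF4.NormE
open Cfsg.Agent.OddHalf.D7TwF4.NormSuz
open Cfsg.Agent.KFacts.TwF4.Inv Cfsg.Agent.KFacts.TwF4.SylU Cfsg.Agent.KFacts.TwF4.Perf Cfsg.Agent.KFacts.TwF4.Arc

universe u w

variable {F : Type w} [Field F] {σ : F →+* F} {Y : Type u} [Group Y] [Finite F] [Finite Y]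

section modQ

variable (S : Full σ Y)

theorem uniq8 {p u p' u' : F} (h : S.e 4 p u * (S.e 4 p' u')⁻¹ ∈ S.Q) : p = p' ∧ u = u' := by
  have h1 : S.e 4 p u * (S.e 4 p' u')⁻¹ = 1 :=
    S.zsys8.inter' (k := 8) (mul_mem (S.mX8 p u) (inv_mem (S.mX8 p' u'))) h
  exact S.injE 4 _ _ _ _ (mul_inv_eq_one.1 h1)

theorem q_mul {x x' y y' : Y} (hx : x ∈ S.PL) (h1 : x * x'⁻¹ ∈ S.Q) (h2 : y * y'⁻¹ ∈ S.Q) :
    x * y * (x' * y')⁻¹ ∈ S.Q := by
  have e : x * y * (x' * y')⁻¹ = (x * (y * y'⁻¹) * x⁻¹) * (x * x'⁻¹) := by group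
  rw [e]; exact mul_mem (Perf.Q_norm S hx h2) h1

theorem q_trans {x y z : Y} (h1 : x * y⁻¹ ∈ S.Q) (h2 : y * z⁻¹ ∈ S.Q) : x * z⁻¹ ∈ S.Q := by
  have e : x * z⁻¹ = (x * y⁻¹) * (y * z⁻¹) := by group
  rw [e]; exact mul_mem h1 h2

theorem q_symm {x y : Y} (h1 : x * y⁻¹ ∈ S.Q) : y * x⁻¹ ∈ S.Q := by
  have e : y * x⁻¹ = (x * y⁻¹)⁻¹ := by group
  rw [e]; exact inv_mem h1

theorem q_conj {s x y : Y} (hs : s ∈ S.PL) (h : x * y⁻¹ ∈ S.Q) : (s * x * s⁻¹) * (s * y * s⁻¹)⁻¹ ∈ S.Q := by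
  have e : (s * x * s⁻¹) * (s * y * s⁻¹)⁻¹ = s * (x * y⁻¹) * s⁻¹ := by group
  rw [e]; exact Perf.Q_norm S hs h

theorem mX8' (q v : F) : S.e 4 q v ∈ J S.XZ 1 8 := mem_J (S.mX8 q v) (by norm_num) (by norm_num)

end modQ

namespace NF

variable {S : Full σ Y} {f : Y → Y} (N : NF S f)

include N

theorem q_f (hF : ∃ c : Fˣ, c ≠ 1) {x y : Y} (hx : x ∈ S.PL) (hy : y ∈ S.PL) (h : x * y⁻¹ ∈ S.Q) :
    f x * (f y)⁻¹ ∈ S.Q := by
  rw [← N.inv hy, ← N.mul _ hx _ (inv_mem hy)]; exact N.memQ hF h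

/-- **Step B** -/
theorem stepB (hF : ∃ c : Fˣ, c ≠ 1) (hne : ∃ x : F, σ x ≠ x) (hS : ∀ s ∈ S.Tk 4, f s ∈ S.Tk 4) :
    (∀ s ∈ S.Tk 4, f s = s) ∧ ∀ q v, f (S.e 4 q v) * (S.e 4 q v)⁻¹ ∈ S.Q := by
  have m8 : ∀ q v, S.e 4 q v ∈ S.PL := fun q v => U_le_PL S (mX8' S q v)
  have hex : ∀ q v, ∃ x : F × F, f (S.e 4 q v) * (S.e 4 x.1 x.2)⁻¹ ∈ S.Q := by
    intro q v
    obtain ⟨y, hy, x, hx, e⟩ := S.zsys8.split_rr (a := 1) (b := 8) (by norm_num) (by norm_num)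
      (N.memU _ (mX8' S q v))
    obtain ⟨p, u, rfl⟩ := S.X8 hx
    refine ⟨(p, u), ?_⟩
    rw [e, mul_inv_cancel_right]; exact hy
  choose φ hφ using hex
  -- the map
  set a : F → F → F := fun q v => (φ q v).1 with ha
  set b : F → F → F := fun q v => (φ q v).2 with hb
  have hab : ∀ q v, f (S.e 4 q v) * (S.e 4 (a q v) (b q v))⁻¹ ∈ S.Q := hφ
  have hmul : ∀ q v q' v', a (q + q') (v + v' + q * σ q') = a q v + a q' v' ∧
      b (q + q') (v + v' + q * σ q') = b q v + b q' v' + a q v * σ (a q' v') := by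
    intro q v q' v'
    have h1 := q_mul S (N.mem _ (m8 q v)) (hab q v) (hab q' v')
    rw [← N.mul _ (m8 q v) _ (m8 q' v'), S.e_mul, S.e_mul] at h1
    exact uniq8 S (q_trans S (q_symm S (hab _ _)) h1)
  have heq : ∀ d d' : Fˣ, f (sT S d) = sT S d' → (∀ q v, a ((σ (d : F))⁻¹ * q) ((σ (d : F))⁻¹ * σ (σ (d : F))⁻¹ * v) =
      (σ (d' : F))⁻¹ * a q v) ∧ ∀ q v, b ((σ (d : F))⁻¹ * q) ((σ (d : F))⁻¹ * σ (σ (d : F))⁻¹ * v) =
      (σ (d' : F))⁻¹ * σ (σ (d' : F))⁻¹ * b q v := by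
    intro d d' hd
    have key : ∀ q v, a ((σ (d : F))⁻¹ * q) ((σ (d : F))⁻¹ * σ (σ (d : F))⁻¹ * v) = (σ (d' : F))⁻¹ * a q v ∧
        b ((σ (d : F))⁻¹ * q) ((σ (d : F))⁻¹ * σ (σ (d : F))⁻¹ * v) =
          (σ (d' : F))⁻¹ * σ (σ (d' : F))⁻¹ * b q v := by
      intro q v
      have h1 := q_conj S (sT_PL S d') (hab q v)
      rw [← hd, ← N.conj (sT_PL S d) (m8 q v), hd, sT_e4, sT_e4] at h1
      exact uniq8 S (q_trans S (q_symm S (hab _ _)) h1)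
    exact ⟨fun q v => (key q v).1, fun q v => (key q v).2⟩
  have hsurj : ∀ x : Fˣ, ∃ d : Fˣ, (σ (d : F))⁻¹ = x := by
    intro x
    obtain ⟨y, hy⟩ := Finite.surjective_of_injective σ.injective ((x⁻¹ : Fˣ) : F)
    have hy0 : y ≠ 0 := by
      rintro rfl
      rw [map_zero] at hy
      exact (Units.ne_zero x⁻¹) hy.symm
    refine ⟨Units.mk0 y hy0, ?_⟩
    rw [Units.val_mk0, hy, Units.val_inv_eq_inv_val, inv_inv]
  have he : ∀ χ : Fˣ, ∃ χ' : Fˣ, (∀ q v, a (χ * q) (χ * σ χ * v) = χ' * a q v) ∧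
      ∀ q v, b (χ * q) (χ * σ χ * v) = χ' * σ χ' * b q v := by
    intro χ
    obtain ⟨d, hd⟩ := hsurj χ
    obtain ⟨d', hd'⟩ := mem_Tk4 S (hS _ (sT_mem S d))
    have h1 := heq d d' hd'
    rw [hd] at h1
    refine ⟨(Units.map (σ : F →* F) d')⁻¹, ?_⟩
    have e : (((Units.map (σ : F →* F) d')⁻¹ : Fˣ) : F) = (σ (d' : F))⁻¹ := Units.val_inv_eq_inv_val _
    rw [e]
    exact h1
  have hn : ∃ q v, a q v ≠ 0 := by
    obtain ⟨y, hy, hfy⟩ := N.surjU (mX8' S 1 0)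
    obtain ⟨y', hy', x, hx, rfl⟩ := S.zsys8.split_rr (a := 1) (b := 8) (by norm_num) (by norm_num) hy
    obtain ⟨q, v, rfl⟩ := S.X8 hx
    have hyQ : y' ∈ S.Q := hy'
    refine ⟨q, v, ?_⟩
    rw [N.mul _ (Q_le_PL S hyQ) _ (m8 q v)] at hfy
    have h1 : f (S.e 4 q v) * (S.e 4 1 0)⁻¹ ∈ S.Q := by
      rw [← hfy, mul_inv_rev, mul_inv_cancel_left]
      exact inv_mem (N.memQ hF hyQ)
    have h2 := uniq8 S (q_trans S (q_symm S (hab q v)) h1)
    rw [h2.1]; exact one_ne_zero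
  obtain ⟨k, hk⟩ := N.ord
  have hit : ∀ n : ℕ, ∀ q v, f^[n] (S.e 4 q v) *
      (S.e 4 ((fun x : F × F => (a x.1 x.2, b x.1 x.2))^[n] (q, v)).1
        ((fun x : F × F => (a x.1 x.2, b x.1 x.2))^[n] (q, v)).2)⁻¹ ∈ S.Q := by
    intro n
    induction n with
    | zero => intro q v; simp
    | succ n ih =>
      intro q v
      rw [Function.iterate_succ_apply', Function.iterate_succ_apply']
      have h1 := N.q_f hF (N.it_mem (m8 q v) n) (m8 _ _) (ih q v)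
      exact q_trans S h1 (hab _ _)
  have hp : ∀ q v, (fun x : F × F => (a x.1 x.2, b x.1 x.2))^[2 ^ k] (q, v) = (q, v) := by
    intro q v
    have h1 := hit (2 ^ k) q v
    rw [hk _ (m8 q v)] at h1
    obtain ⟨h2, h3⟩ := uniq8 S h1
    exact Prod.ext h2.symm h3.symm
  obtain ⟨hA, hB⟩ := suz S.sq S.two hne (fun q v q' v' => (hmul q v q' v').1) (fun q v q' v' => (hmul q v q' v').2)
    he hn hp
  refine ⟨fun s hs => ?_, fun q v => ?_⟩
  · obtain ⟨d, rfl⟩ := mem_Tk4 S hs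
    obtain ⟨d', hd'⟩ := mem_Tk4 S (hS _ hs)
    have h1 := (heq d d' hd').1 1 0
    rw [hA, hA, mul_one, mul_one] at h1
    have h2 : d = d' := Units.ext (σ.injective (inv_injective h1))
    rw [hd', h2]
  · have := hab q v
    rwa [hA, hB] at this

theorem memX4 (hF : ∃ c : Fˣ, c ≠ 1) (hS : ∀ s ∈ S.Tk 4, f s = s) {x : Y} (hx : x ∈ S.XZ 4) : f x ∈ S.XZ 4 := by
  obtain ⟨c, hc⟩ := hF
  have hs := sT_mem S c
  have hs1 : sT S c ≠ 1 := fun h => hc (sT_inj S (h.trans (sT_one S).symm))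
  have hxQ : x ∈ S.Q := mem_J hx (by norm_num) (by norm_num)
  refine S.fix_J (k := 4) hs hs1 (a := 1) (b := 7) (by norm_num) (by norm_num) (by norm_num)
    (N.memQ ⟨c, hc⟩ hxQ) ?_
  have h1 : sT S c * x * (sT S c)⁻¹ = x := by rw [S.Tk_comm hs hx, mul_inv_cancel_right]
  have h2 := N.conj (sT_PL S c) (Q_le_PL S hxQ)
  rw [h1, hS _ hs] at h2
  exact h2.symm

/-- **Step C** -/
theorem stepC (hF : ∃ c : Fˣ, c ≠ 1) (hS : ∀ s ∈ S.Tk 4, f s = s) : ∃ z, f S.n2 = S.n2 * S.e 2 0 z := by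
  obtain ⟨c, hc⟩ := id hF
  have hs := sT_mem S c
  have hs1 : sT S c ≠ 1 := fun h => hc (sT_inj S (h.trans (sT_one S).symm))
  have hsP := sT_PL S c
  have hn := S.n2_mem
  have hy : S.n2⁻¹ * f S.n2 ∈ S.PL := mul_mem (inv_mem hn) (N.mem _ hn)
  have hcomm : (S.n2⁻¹ * f S.n2) * sT S c = sT S c * (S.n2⁻¹ * f S.n2) := by
    have h1 := S.n2_Tk hs
    have h2 := N.conj hn hsP
    rw [h1, N.inv hsP, hS _ hs] at h2
    -- `s⁻¹ = f n2 s (f n2)⁻¹`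
    have h3 : f S.n2 * sT S c = (sT S c)⁻¹ * f S.n2 := by rw [h2]; group
    have h4 : S.n2⁻¹ * (sT S c)⁻¹ = sT S c * S.n2⁻¹ := by rw [← h1]; group
    rw [mul_assoc, h3, ← mul_assoc, h4, mul_assoc]
  obtain ⟨x, hx, t, ht, e⟩ := S.centralizer_Tk hy hs hs1 hcomm
  have e1 : f S.n2 = S.n2 * (x * t) := by rw [← e]; group
  have hxP : ∀ x ∈ S.XZ 4, x ∈ S.PL := fun x hx => mem_J hx (by norm_num) (by norm_num)
  obtain ⟨d, rfl⟩ := mem_Tk4 S ht
  have htP := sT_PL S d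
  have hit : ∀ n : ℕ, ∃ x' ∈ S.XZ 4, f^[n] S.n2 = S.n2 * (x' * sT S d ^ n) := by
    intro n
    induction n with
    | zero => exact ⟨1, one_mem _, by simp⟩
    | succ n ih =>
      obtain ⟨x', hx', h⟩ := ih
      have hfx := N.memX4 hF hS hx'
      refine ⟨x * f x', mul_mem hx hfx, ?_⟩
      rw [Function.iterate_succ_apply', h, N.mul _ hn _ (mul_mem (hxP _ hx') (pow_mem htP n)),
        N.mul _ (hxP _ hx') _ (pow_mem htP n), N.pow htP, hS _ ht, e1, pow_succ']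
      have h5 := S.Tk_comm ht hfx
      calc S.n2 * (x * sT S d) * (f x' * sT S d ^ n) = S.n2 * (x * (sT S d * f x') * sT S d ^ n) := by group
        _ = _ := by rw [h5]; group
  obtain ⟨k, hk⟩ := N.ord
  obtain ⟨x', hx', h⟩ := hit (2 ^ k)
  rw [hk _ hn] at h
  have h1 : x' * sT S d ^ (2 ^ k) = 1 := by
    have : S.n2 * 1 = S.n2 * (x' * sT S d ^ (2 ^ k)) := by rw [mul_one]; exact h
    exact (mul_left_cancel this).symm
  have h2 : sT S d ^ (2 ^ k) = 1 := by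
    apply S.U_inf_T (pow_mem (S.Tk_le 4 ht) _)
    rw [eq_inv_of_mul_eq_one_right h1]
    exact inv_mem (mem_J hx' (by norm_num) (by norm_num))
  have h3 : d = 1 := (torus_two S h2).2
  rw [h3, sT_one, mul_one] at e1
  -- `f n2` is an involution
  obtain ⟨p, u, rfl⟩ := S.X4 hx
  have h4 : S.n2 * S.e 2 p u = S.e 2 p u * S.n2 := by
    have : S.n2 * S.e 2 p u * S.n2⁻¹ = S.e 2 p u := S.n2_e 2 p u
    rw [mul_inv_eq_iff_eq_mul] at this
    exact this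
  have h5 : f S.n2 * f S.n2 = 1 := by rw [← N.mul _ hn _ hn, S.n2_sq, N.one]
  rw [e1] at h5
  have h6 : S.e 2 p u * S.e 2 p u = 1 := by
    calc S.e 2 p u * S.e 2 p u = (S.n2 * S.n2) * (S.e 2 p u * S.e 2 p u) := by rw [S.n2_sq, one_mul]
      _ = S.n2 * (S.n2 * S.e 2 p u) * S.e 2 p u := by group
      _ = S.n2 * (S.e 2 p u * S.n2) * S.e 2 p u := by rw [h4]
      _ = (S.n2 * S.e 2 p u) * (S.n2 * S.e 2 p u) := by group
      _ = 1 := h5
  rw [e_sq] at h6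
  have h7 : p = 0 := by
    rcases mul_eq_zero.1 (S.e_eq_one h6).2 with h | h
    · exact h
    · exact (map_eq_zero σ).1 h
  exact ⟨u, by rw [e1, h7]⟩

end NF

end Cfsg.Agent.OddHalf.D7TwF4.NormF

end

-- merged: Cfsg.Agent.OddHalf.D7TwF4.NormC
section

/-!
# D7, `K = ²F₄(q)`: the action on `E_4` and modulo `E_4` (helper467)

`N1` : the state after steps A - C. `N2` : `f` is the identity on `S_4`, on `E_4` and modulo `E_4`, and commutes with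
the conjugation by `n2`. `N1.toN2`.
-/

set_option autoImplicit false
set_option maxHeartbeats 400000
set_option linter.unusedSectionVars false

namespace Cfsg.Agent.OddHalf.D7TwF4.NormF

open Cfsg.Agent.KFacts.TwF4 Cfsg.Agent.SplitTwo.ZS Cfsg.Agent.OddHalf.D7TwF4.NormE
open Cfsg.Agent.OddHalf.D7TwF4.NormSuz
open Cfsg.Agent.KFacts.TwF4.Inv Cfsg.Agent.KFacts.TwF4.SylU Cfsg.Agent.KFacts.TwF4.Perf Cfsg.Agent.KFacts.TwF4.Arc

universe u w

variable {F : Type w} [Field F] {σ : F →+* F} {Y : Type u} [Group Y] [Finite F] [Finite Y]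

/-- the state after steps A - C -/
structure N1 (S : Full σ Y) (f : Y → Y) : Prop extends NF S f where
  fixS : ∀ s ∈ S.Tk 4, f s = s
  fn2 : ∃ z, f S.n2 = S.n2 * S.e 2 0 z
  f8 : ∀ q v, f (S.e 4 q v) * (S.e 4 q v)⁻¹ ∈ S.Q

/-- the state after step D -/
structure N2 (S : Full σ Y) (f : Y → Y) : Prop extends NF S f where
  fixS : ∀ s ∈ S.Tk 4, f s = s
  n2c : ∀ y ∈ S.PL, f (S.n2 * y * S.n2⁻¹) = S.n2 * f y * S.n2⁻¹
  fixE : ∀ w ∈ S.Q2, f w = w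
  eps : ∀ x ∈ S.PL, ∃ w ∈ S.Q2, f x = x * w

section line

variable {S : Full σ Y} {f : Y → Y} (N : NF S f)

include N

theorem NF.line_one {X : F → Y} (hX : ∀ v, X v ∈ S.PL) (hinj : Function.Injective X) {c : F}
    (h : ∀ v, f (X v) = X (v * c)) : c = 1 := by
  obtain ⟨k, hk⟩ := N.ord
  have hit : ∀ n : ℕ, ∀ v, f^[n] (X v) = X (v * c ^ n) := by
    intro n
    induction n with
    | zero => intro v; simp
    | succ n ih => intro v; rw [Function.iterate_succ_apply', ih, h, pow_succ, mul_assoc]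
  have h1 := hit (2 ^ k) 1
  rw [hk _ (hX 1), one_mul] at h1
  exact pow_two_eq_one S.two k (hinj h1).symm

end line

section gen

variable (S : Full σ Y)

theorem z_inj (a : ZMod 8) : Function.Injective (S.e a 0) := fun _ _ h => (S.injE a _ _ _ _ h).2

include S in
/-- a torus element moving both weights -/
theorem exists_unit (hF : ∃ c : Fˣ, c ≠ 1) : ∃ s : Fˣ, (s : F)⁻¹ ≠ 1 ∧ ((s : F) * σ s)⁻¹ ≠ 1 := by
  obtain ⟨c, hc⟩ := hF
  refine ⟨c, fun h => hc ?_, fun h => hc ?_⟩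
  · rw [inv_eq_one] at h
    exact Units.ext h
  · rw [inv_eq_one] at h
    exact S.unit_eq_one (Units.ext h)

include S in
theorem exists_s1 (c : Fˣ) : ∃ s : Fˣ, ((s : F) * σ s)⁻¹ = c := by
  obtain ⟨q, hq⟩ := NormSuz.s1_surj S.two S.sq ((c⁻¹ : Fˣ) : F)
  have hq0 : q ≠ 0 := by
    rintro rfl
    rw [zero_mul] at hq
    exact (Units.ne_zero c⁻¹) hq.symm
  refine ⟨Units.mk0 q hq0, ?_⟩
  rw [Units.val_mk0, hq, Units.val_inv_eq_inv_val, inv_inv]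

theorem PL1 (t : F) : S.o 0 t ∈ S.PL := mem_J (S.mX1 t) (by norm_num) (by norm_num)
theorem PL2 (p u : F) : S.e 1 p u ∈ S.PL := mem_J (S.mX2 p u) (by norm_num) (by norm_num)
theorem PL3 (t : F) : S.o 1 t ∈ S.PL := mem_J (S.mX3 t) (by norm_num) (by norm_num)
theorem PL4 (p u : F) : S.e 2 p u ∈ S.PL := mem_J (S.mX4 p u) (by norm_num) (by norm_num)
theorem PL5 (t : F) : S.o 2 t ∈ S.PL := mem_J (S.mX5 t) (by norm_num) (by norm_num)
theorem PL6 (p u : F) : S.e 3 p u ∈ S.PL := mem_J (S.mX6 p u) (by norm_num) (by norm_num)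
theorem PL7 (t : F) : S.o 3 t ∈ S.PL := mem_J (S.mX7 t) (by norm_num) (by norm_num)
theorem PL8 (p u : F) : S.e 4 p u ∈ S.PL := mem_J (S.mX8 p u) (by norm_num) (by norm_num)
theorem mQ7 (t : F) : S.o 3 t ∈ S.Q := mem_J (S.mX7 t) (by norm_num) (by norm_num)

end gen

namespace N1

variable {S : Full σ Y} {f : Y → Y} (N : N1 S f)

include N

theorem fixT (d : Fˣ) : f (sT S d) = sT S d := N.fixS _ (sT_mem S d)

/-- equivariance -/
theorem eqv (d : Fˣ) {y : Y} (hy : y ∈ S.PL) : f (sT S d * y * (sT S d)⁻¹) = sT S d * f y * (sT S d)⁻¹ := by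
  rw [N.conj (sT_PL S d) hy, N.fixT]

theorem n2c {y : Y} (hy : y ∈ S.PL) : f (S.n2 * y * S.n2⁻¹) = S.n2 * f y * S.n2⁻¹ := by
  obtain ⟨z, hz⟩ := N.fn2
  rw [N.conj S.n2_mem hy, hz]
  have h := S.comm_PL (N.mem _ hy) (z := S.e 2 0 z) ⟨z, rfl⟩
  calc S.n2 * S.e 2 0 z * f y * (S.n2 * S.e 2 0 z)⁻¹ = S.n2 * (S.e 2 0 z * f y) * (S.e 2 0 z)⁻¹ * S.n2⁻¹ := by group
    _ = _ := by rw [← h]; group

/-- `Z_4` -/
theorem exists_z (hF : ∃ c : Fˣ, c ≠ 1) (u : F) : ∃ v, f (S.e 2 0 u) = S.e 2 0 v := by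
  obtain ⟨p, rfl⟩ := NormSuz.s1_surj S.two S.sq u
  obtain ⟨p', u', h⟩ := S.X4 (N.memX4 hF N.fixS (S.mX4 p 0))
  refine ⟨p' * σ p', ?_⟩
  rw [← e_sq S 2 p 0, N.mul _ (PL4 S p 0) _ (PL4 S p 0), ← h, e_sq]

/-- `X_6'` -/
theorem fix6 (hF : ∃ c : Fˣ, c ≠ 1) (v : F) : f (S.e 3 0 v) = S.e 3 0 v := by
  have hmem : ∀ v, f (S.e 3 0 v) ∈ S.Q2 := by
    intro v
    have r : S.e 2 1 0 * S.o 3 v = S.o 3 v * S.e 2 1 0 * S.e 3 0 (1 * v) := S.e_o1 2 1 0 v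
    have e1 : S.e 3 0 v = ((S.e 2 1 0)⁻¹ * (S.o 3 v)⁻¹ * S.e 2 1 0) * S.o 3 v := by
      rw [one_mul] at r
      calc S.e 3 0 v = (S.e 2 1 0)⁻¹ * (S.o 3 v)⁻¹ * (S.o 3 v * S.e 2 1 0 * S.e 3 0 v) := by group
        _ = _ := by rw [← r]; group
    have hx := N.memX4 hF N.fixS (S.mX4 1 0)
    have hg := N.mem _ (PL7 S v)
    rw [e1, N.mul _ (mul_mem (mul_mem (inv_mem (PL4 S 1 0)) (inv_mem (PL7 S v))) (PL4 S 1 0)) _ (PL7 S v),
      N.conj' (PL4 S 1 0) (inv_mem (PL7 S v)), N.inv (PL7 S v)]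
    have h1 := comm_Q1 S (inv_mem hg) (Subgroup.mem_sup_left hx)
    have h2 := Q2_conj' S (g := f (S.e 2 1 0)) (N.mem _ (PL4 S 1 0)) h1
    have e2 : (f (S.e 2 1 0))⁻¹ * ((f (S.o 3 v))⁻¹ * f (S.e 2 1 0) * (f (S.o 3 v))⁻¹⁻¹ * (f (S.e 2 1 0))⁻¹) *
        f (S.e 2 1 0) = (f (S.e 2 1 0))⁻¹ * (f (S.o 3 v))⁻¹ * f (S.e 2 1 0) * f (S.o 3 v) := by group
    rwa [e2] at h2
  have hform : ∀ v, ∃ z d, f (S.e 3 0 v) = EE S 0 0 z 0 d := by
    intro v
    refine mem_of_comm8 S (hmem v) fun q v' => ?_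
    have hc : S.e 3 0 v * S.e 4 q v' = S.e 4 q v' * S.e 3 0 v :=
      (S.comm_Z6 (k := 8) (by norm_num) (by norm_num) (S.mX8 q v') v).symm
    have hfc : f (S.e 3 0 v) * f (S.e 4 q v') = f (S.e 4 q v') * f (S.e 3 0 v) := by
      rw [← N.mul _ (PL6 S 0 v) _ (PL8 S q v'), hc, N.mul _ (PL8 S q v') _ (PL6 S 0 v)]
    have hy := N.f8 q v'
    set y := f (S.e 4 q v') * (S.e 4 q v')⁻¹ with hyd
    have e1 : f (S.e 4 q v') = y * S.e 4 q v' := by rw [hyd]; group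
    obtain ⟨z, hz⟩ := Q_Q2_comm S (inv_mem hy) (hmem v)
    refine ⟨z, ?_⟩
    have hz4 := z4_comm S (k := 8) (by norm_num) (by norm_num) (S.mX8 q v') z
    have hz5 : S.e 2 0 z * f (S.e 4 q v') = f (S.e 4 q v') * S.e 2 0 z :=
      (S.comm_PL (N.mem _ (PL8 S q v')) (z := S.e 2 0 z) ⟨z, rfl⟩).symm
    calc f (S.e 3 0 v) * S.e 4 q v' = (f (S.e 3 0 v) * y⁻¹) * f (S.e 4 q v') := by rw [e1]; group
      _ = y⁻¹ * f (S.e 3 0 v) * (S.e 2 0 z * f (S.e 4 q v')) := by rw [hz]; group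
      _ = y⁻¹ * (f (S.e 3 0 v) * f (S.e 4 q v')) * S.e 2 0 z := by rw [hz5]; group
      _ = (y⁻¹ * f (S.e 4 q v')) * f (S.e 3 0 v) * S.e 2 0 z := by rw [hfc]; group
      _ = _ := by rw [e1]; group
  choose ζ δ h using hform
  have hadd : ∀ x y, ζ (x + y) = ζ x + ζ y ∧ δ (x + y) = δ x + δ y := by
    intro x y
    have h1 := N.mul _ (PL6 S 0 x) _ (PL6 S 0 y)
    rw [ze, h, h, h, EE_mul] at h1
    obtain ⟨-, -, h2, -, h3⟩ := EE_inj S h1
    exact ⟨h2, h3⟩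
  have heqv : ∀ (s : Fˣ) x, ζ (((s : F) * σ s)⁻¹ * x) = ζ x ∧ δ (((s : F) * σ s)⁻¹ * x) = ((s : F) * σ s)⁻¹ * δ x := by
    intro s x
    have h1 := N.eqv s (PL6 S 0 x)
    rw [sT_e3, mul_zero, h, h, sT_EE] at h1
    obtain ⟨-, -, h2, -, h3⟩ := EE_inj S h1
    exact ⟨h2, h3⟩
  obtain ⟨s, -, hs⟩ := exists_unit S hF
  have hζ : ∀ x, ζ x = 0 := tt0 S.two (fun x y => (hadd x y).1) hs (fun x => (heqv s x).1)
  have hδ : ∀ x, δ x = x * δ 1 := scal (fun x y => (hadd x y).2) fun c x => by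
    obtain ⟨s, hs⟩ := exists_s1 S c
    have := (heqv s x).2
    rwa [hs] at this
  have h' : ∀ v, f (S.e 3 0 v) = S.e 3 0 (v * δ 1) := by
    intro v
    rw [h, hζ, hδ, ← EE_d]
  have h1 : δ 1 = 1 := N.line_one (fun v => PL6 S 0 v) (z_inj S 3) h'
  rw [h', h1, mul_one]

/-- `X_2'` -/
theorem fix2 (hF : ∃ c : Fˣ, c ≠ 1) (v : F) : f (S.e 1 0 v) = S.e 1 0 v := by
  have e : S.n2 * S.e 3 0 v * S.n2⁻¹ = S.e 1 0 v := S.n2_e 3 0 v
  rw [← e, N.n2c (PL6 S 0 v), N.fix6 hF]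

/-- `X_5` -/
theorem fix5 (hF : ∃ c : Fˣ, c ≠ 1) (v : F) : f (S.o 2 v) = S.o 2 v := by
  have hform : ∀ v, ∃ z, f (S.o 2 v) = EE S 0 0 z v 0 := by
    intro v
    obtain ⟨z', h1⟩ := EE_e4 S 1 0 0 0 0 0 v
    simp only [zero_mul, mul_zero, zero_add, add_zero, one_mul, map_zero] at h1
    have hy := N.f8 0 v
    set y := f (S.e 4 0 v) * (S.e 4 0 v)⁻¹ with hyd
    have e1 : f (S.e 4 0 v) = y * S.e 4 0 v := by rw [hyd]; group
    obtain ⟨z, hz⟩ := Q_Q2_comm S hy (EE_mem S 1 0 0 0 0)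
    have hz4 := z4_comm S (k := 8) (by norm_num) (by norm_num) (S.mX8 0 v) z
    have hfix : f (EE S 1 0 0 0 0) = EE S 1 0 0 0 0 := by rw [← EE_a]; exact N.fix2 hF 1
    have hP : ∀ a b z c d, EE S a b z c d ∈ S.PL := fun a b z c d => Q2_le_PL S (EE_mem S a b z c d)
    have h2 : f (EE S 1 0 0 0 0 * S.e 4 0 v) = f (S.e 4 0 v * EE S 1 0 z' v (σ v)) := by rw [h1]
    rw [N.mul _ (hP _ _ _ _ _) _ (PL8 S 0 v), N.mul _ (PL8 S 0 v) _ (hP _ _ _ _ _), hfix, e1] at h2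
    have h3 : f (EE S 1 0 z' v (σ v)) = EE S 1 0 z' v (σ v) * S.e 2 0 z := by
      have h4 : y * S.e 4 0 v * f (EE S 1 0 z' v (σ v)) = y * S.e 4 0 v * (EE S 1 0 z' v (σ v) * S.e 2 0 z) := by
        rw [← h2]
        calc EE S 1 0 0 0 0 * (y * S.e 4 0 v) = (EE S 1 0 0 0 0 * y) * S.e 4 0 v := by group
          _ = y * EE S 1 0 0 0 0 * (S.e 2 0 z * S.e 4 0 v) := by rw [hz]; group
          _ = y * (EE S 1 0 0 0 0 * S.e 4 0 v) * S.e 2 0 z := by rw [hz4]; group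
          _ = _ := by rw [h1]; group
      exact mul_left_cancel h4
    have h5 : EE S 1 0 z' v (σ v) = EE S 1 0 0 0 0 * (EE S 0 0 z' 0 0 * (S.o 2 v * EE S 0 0 0 0 (σ v))) := by
      rw [EE_c]; simp only [EE_mul, add_zero, zero_add]
    obtain ⟨z2, hz2⟩ := N.exists_z hF z'
    have hf3 : f (EE S 0 0 z' 0 0) = EE S 0 0 z2 0 0 := by rw [← EE_z, hz2, ← EE_z]
    have hf4 : f (EE S 0 0 0 0 (σ v)) = EE S 0 0 0 0 (σ v) := by rw [← EE_d]; exact N.fix6 hF _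
    have h6 : f (EE S 1 0 z' v (σ v)) = EE S 1 0 0 0 0 * (EE S 0 0 z2 0 0 * (f (S.o 2 v) * EE S 0 0 0 0 (σ v))) := by
      rw [h5, N.mul _ (hP _ _ _ _ _) _ (mul_mem (hP _ _ _ _ _) (mul_mem (PL5 S v) (hP _ _ _ _ _))),
        N.mul _ (hP _ _ _ _ _) _ (mul_mem (PL5 S v) (hP _ _ _ _ _)), N.mul _ (PL5 S v) _ (hP _ _ _ _ _), hfix, hf3, hf4]
    rw [h6, EE_z, EE_mul] at h3
    have h7 : f (S.o 2 v) = (EE S 0 0 z2 0 0)⁻¹ * ((EE S 1 0 0 0 0)⁻¹ *
        EE S (1 + 0) (0 + 0) (z' + z) (v + 0) (σ v + 0)) * (EE S 0 0 0 0 (σ v))⁻¹ := by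
      rw [← h3]; group
    refine ⟨z2 + (z' + z), ?_⟩
    rw [h7]
    simp only [EE_inv, EE_mul, add_zero, zero_add, NormE.char2 S]
  choose β h using hform
  have hadd : ∀ x y, β (x + y) = β x + β y := by
    intro x y
    have h1 := N.mul _ (PL5 S x) _ (PL5 S y)
    rw [S.o_add, h, h, h, EE_mul] at h1
    exact (EE_inj S h1).2.2.1
  have heqv : ∀ (s : Fˣ) x, β ((s : F)⁻¹ * x) = β x := by
    intro s x
    have h1 := N.eqv s (PL5 S x)
    rw [sT_o2, h, h, sT_EE] at h1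
    exact (EE_inj S h1).2.2.1
  obtain ⟨s, hs, -⟩ := exists_unit S hF
  rw [h, tt0 S.two hadd hs (heqv s), ← EE_c]

/-- `X_3` -/
theorem fix3 (hF : ∃ c : Fˣ, c ≠ 1) (v : F) : f (S.o 1 v) = S.o 1 v := by
  have e : S.n2 * S.o 2 v * S.n2⁻¹ = S.o 1 v := S.n2_o 2 v
  rw [← e, N.n2c (PL5 S v), N.fix5 hF]

/-- `Z_4` -/
theorem fix4 (hF : ∃ c : Fˣ, c ≠ 1) (v : F) : f (S.e 2 0 v) = S.e 2 0 v := by
  obtain ⟨t, p, r, s, hact⟩ := exists_act S (N.memQ hF (mQ7 S 1))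
  have hP : ∀ a b z c d, EE S a b z c d ∈ S.PL := fun a b z c d => Q2_le_PL S (EE_mem S a b z c d)
  have h1 : ∀ u, f (S.e 2 0 u) = S.e 2 0 (u * s) := by
    intro u
    have h2 := act_o3 S 1 u 0 0 0 0
    have h3 := hact u 0 0 0 0
    have h4 : f (EE S u 0 0 0 0 * S.o 3 1) = f (S.o 3 1 * EE S u 0 (0 + 0 * 0 + 0 * 0 + 0 * 0 + 1 * u) 0 0) := by rw [h2]
    have hfix : f (EE S u 0 0 0 0) = EE S u 0 0 0 0 := by rw [← EE_a]; exact N.fix2 hF u
    rw [N.mul _ (hP _ _ _ _ _) _ (PL7 S 1), N.mul _ (PL7 S 1) _ (hP _ _ _ _ _), hfix, h3] at h4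
    have h5 := mul_left_cancel h4
    have h6 : EE S u 0 (0 + 0 * 0 + 0 * 0 + 0 * 0 + 1 * u) 0 0 = EE S u 0 0 0 0 * S.e 2 0 u := by
      rw [EE_z, EE_mul]; congr 1 <;> ring
    rw [h6, N.mul _ (hP _ _ _ _ _) _ (PL4 S 0 u), hfix] at h5
    have h7 : EE S u 0 (0 + t * 0 + p * 0 + r * 0 + s * u) 0 0 = EE S u 0 0 0 0 * S.e 2 0 (u * s) := by
      rw [EE_z, EE_mul]; congr 1 <;> ring
    rw [h7] at h5
    exact (mul_left_cancel h5).symm
  have hs : s = 1 := N.line_one (fun v => PL4 S 0 v) (z_inj S 2) h1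
  rw [h1, hs, mul_one]

theorem fixE (hF : ∃ c : Fˣ, c ≠ 1) {w : Y} (hw : w ∈ S.Q2) : f w = w := by
  obtain ⟨a, b, z, c, d, rfl⟩ := mem_Q2 S hw
  have m1 := PL2 S 0 a
  have m2 := mul_mem m1 (PL3 S b)
  have m3 := mul_mem m2 (PL4 S 0 z)
  have m4 := mul_mem m3 (PL5 S c)
  unfold EE
  rw [N.mul _ m4 _ (PL6 S 0 d), N.mul _ m3 _ (PL5 S c), N.mul _ m2 _ (PL4 S 0 z), N.mul _ m1 _ (PL3 S b),
    N.fix2 hF, N.fix3 hF, N.fix4 hF, N.fix5 hF, N.fix6 hF]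

/-- modulo `Q1` -/
theorem mod1 (hF : ∃ c : Fˣ, c ≠ 1) {x : Y} (hx : x ∈ S.PL) : x⁻¹ * f x ∈ S.Q1 := by
  rw [← S.centralizer_Q2, Subgroup.mem_centralizer_iff]
  intro w hw
  have h1 := N.fixE hF (Q2_conj S hx hw)
  rw [N.conj hx (Q2_le_PL S hw), N.fixE hF hw] at h1
  calc w * (x⁻¹ * f x) = x⁻¹ * (x * w * x⁻¹) * f x := by group
    _ = x⁻¹ * (f x * w * (f x)⁻¹) * f x := by rw [h1]
    _ = _ := by group

/-- modulo `E_4` -/
theorem mod2 (hF : ∃ c : Fˣ, c ≠ 1) {x : Y} (hx : x ∈ S.PL) : f x * x⁻¹ ∈ S.Q2 := by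
  let K : Subgroup Y :=
    { carrier := {x | x ∈ S.PL ∧ f x * x⁻¹ ∈ S.Q2}
      one_mem' := ⟨one_mem _, by rw [N.one]; simp⟩
      mul_mem' := by
        rintro x y ⟨hx, h⟩ ⟨hy, h'⟩
        refine ⟨mul_mem hx hy, ?_⟩
        have e : f (x * y) * (x * y)⁻¹ = (f x * (f y * y⁻¹) * (f x)⁻¹) * (f x * x⁻¹) := by
          rw [N.mul _ hx _ hy]; group
        rw [e]
        exact mul_mem (Q2_conj S (N.mem _ hx) h') h
      inv_mem' := by
        rintro x ⟨hx, h⟩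
        refine ⟨inv_mem hx, ?_⟩
        have e : f x⁻¹ * x⁻¹⁻¹ = (f x)⁻¹ * (f x * x⁻¹)⁻¹ * f x := by
          rw [N.inv hx]; group
        rw [e]
        exact Q2_conj' S (N.mem _ hx) (inv_mem h) }
  have hK : S.PL ≤ K := by
    rw [← PL_perfect S hF, Subgroup.commutator_le]
    intro x hx y hy
    have hxy : x * y * x⁻¹ * y⁻¹ ∈ S.PL := mul_mem (mul_mem (mul_mem hx hy) (inv_mem hx)) (inv_mem hy)
    refine ⟨hxy, ?_⟩
    have ha := N.mod1 hF hx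
    have hb := N.mod1 hF hy
    set a := x⁻¹ * f x with had
    set b := y⁻¹ * f y with hbd
    have ex : f x = x * a := by rw [had]; group
    have ey : f y = y * b := by rw [hbd]; group
    have hyb : y * b ∈ S.PL := mul_mem hy (Q1_le_PL S hb)
    have c1 : a * (y * b) * a⁻¹ * (y * b)⁻¹ ∈ S.Q2 := by
      have := inv_mem (comm_Q1 S hyb ha)
      have e : (y * b * a * (y * b)⁻¹ * a⁻¹)⁻¹ = a * (y * b) * a⁻¹ * (y * b)⁻¹ := by group
      rwa [e] at this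
    have c2 : b * x⁻¹ * b⁻¹ * x ∈ S.Q2 := by
      have := inv_mem (comm_Q1 S (inv_mem hx) hb)
      have e : (x⁻¹ * b * x⁻¹⁻¹ * b⁻¹)⁻¹ = b * x⁻¹ * b⁻¹ * x := by group
      rwa [e] at this
    show f (x * y * x⁻¹ * y⁻¹) * (x * y * x⁻¹ * y⁻¹)⁻¹ ∈ S.Q2
    have e : f (x * y * x⁻¹ * y⁻¹) * (x * y * x⁻¹ * y⁻¹)⁻¹ =
        (x * (a * (y * b) * a⁻¹ * (y * b)⁻¹) * x⁻¹) * ((x * y) * (b * x⁻¹ * b⁻¹ * x) * (x * y)⁻¹) := by
      rw [N.mul _ (mul_mem (mul_mem hx hy) (inv_mem hx)) _ (inv_mem hy), N.conj hx hy, N.inv hy, ex, ey]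
      group
    rw [e]
    exact mul_mem (Q2_conj S hx c1) (Q2_conj S (mul_mem hx hy) c2)
  exact (hK hx).2

/-- **Step D** -/
theorem toN2 (hF : ∃ c : Fˣ, c ≠ 1) : N2 S f where
  toNF := N.toNF
  fixS := N.fixS
  n2c := fun y hy => N.n2c hy
  fixE := fun w hw => N.fixE hF hw
  eps := fun x hx => ⟨x⁻¹ * (f x * x⁻¹) * x, Q2_conj' S hx (N.mod2 hF hx), by group⟩

end N1

end Cfsg.Agent.OddHalf.D7TwF4.NormF

end

-- merged: Cfsg.Agent.OddHalf.D7TwF4.NormD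
section

/-!
# D7, `K = ²F₄(q)`: the action on `Q` and on `X_8`, `X_0` (helper467)

`NR S f φ` : the final form. `NF.exists_NR`: every `f` is conjugate by an element of `U` to one of the final form.
-/

set_option autoImplicit false
set_option maxHeartbeats 400000
set_option linter.unusedSectionVars false

namespace Cfsg.Agent.OddHalf.D7TwF4.NormF

open Cfsg.Agent.KFacts.TwF4 Cfsg.Agent.SplitTwo.ZS Cfsg.Agent.OddHalf.D7TwF4.NormE
open Cfsg.Agent.OddHalf.D7TwF4.NormSuz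
open Cfsg.Agent.KFacts.TwF4.Inv Cfsg.Agent.KFacts.TwF4.SylU Cfsg.Agent.KFacts.TwF4.Perf Cfsg.Agent.KFacts.TwF4.Arc

universe u w

variable {F : Type w} [Field F] {σ : F →+* F} {Y : Type u} [Group Y] [Finite F] [Finite Y]

/-- `N2` and `f = 1` on `X_7` -/
structure N3 (S : Full σ Y) (f : Y → Y) : Prop extends N2 S f where
  fix7 : ∀ s, f (S.o 3 s) = S.o 3 s

/-- the final form -/
structure NR (S : Full σ Y) (f : Y → Y) (φ : F → F) : Prop extends N3 S f where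
  fix1 : ∀ s, f (S.o 0 s) = S.o 0 s
  fix2 : ∀ p u, f (S.e 1 p u) = S.e 1 p u
  fix3 : ∀ s, f (S.o 1 s) = S.o 1 s
  fix5 : ∀ s, f (S.o 2 s) = S.o 2 s
  fix6 : ∀ p u, f (S.e 3 p u) = S.e 3 p u
  f4 : ∀ p u, f (S.e 2 p u) = S.e 2 p (u + φ p)
  f8 : ∀ q v, f (S.e 4 q v) = S.e 4 q v * S.o 2 (φ q) * S.e 3 0 (φ v)
  f0 : ∀ q v, f (S.e 0 q v) = S.e 0 q v * S.o 1 (φ q) * S.e 1 0 (φ v)
  add : ∀ x y, φ (x + y) = φ x + φ y
  phi : ∀ p q, φ (σ p * q) = p * φ q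

namespace N2

variable {S : Full σ Y} {f : Y → Y} (N : N2 S f)

include N

theorem eqv (d : Fˣ) {y : Y} (hy : y ∈ S.PL) : f (sT S d * y * (sT S d)⁻¹) = sT S d * f y * (sT S d)⁻¹ := by
  rw [N.conj (sT_PL S d) hy, N.fixS _ (sT_mem S d)]

/-- `X_7` -/
theorem form7 (hF : ∃ c : Fˣ, c ≠ 1) : ∃ g, ∀ s, f (S.o 3 s) = S.o 3 s * S.e 3 0 (g * s) := by
  have hform : ∀ s, ∃ z d, f (S.o 3 s) = S.o 3 s * EE S 0 0 z 0 d := by
    intro s
    obtain ⟨w, hw, e⟩ := N.eps _ (PL7 S s)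
    obtain ⟨z, d, rfl⟩ := mem_of_comm8 S hw fun q v => by
      obtain ⟨w', hw', e'⟩ := N.eps _ (PL8 S q v)
      obtain ⟨z, hz⟩ := Q_Q2_comm S (mQ7 S s) hw'
      refine ⟨z, ?_⟩
      have hc : S.o 3 s * S.e 4 q v = S.e 4 q v * S.o 3 s := S.o_e1 3 s q v
      have h1 : f (S.o 3 s) * f (S.e 4 q v) = f (S.e 4 q v) * f (S.o 3 s) := by
        rw [← N.mul _ (PL7 S s) _ (PL8 S q v), hc, N.mul _ (PL8 S q v) _ (PL7 S s)]
      rw [e, e'] at h1
      have hzw : S.e 2 0 z * w = w * S.e 2 0 z := Q2_comm S (S.q2_3 z) hw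
      have hzw' : S.e 2 0 z * w' = w' * S.e 2 0 z := Q2_comm S (S.q2_3 z) hw'
      have hww : w' * w = w * w' := Q2_comm S hw' hw
      have h2 : S.o 3 s * (w * S.e 4 q v * w') = S.o 3 s * (S.e 4 q v * w * S.e 2 0 z * w') := by
        calc S.o 3 s * (w * S.e 4 q v * w') = S.o 3 s * w * (S.e 4 q v * w') := by group
          _ = S.e 4 q v * (w' * S.o 3 s) * w := by rw [h1]; group
          _ = (S.e 4 q v * S.o 3 s) * w' * (S.e 2 0 z * w) := by rw [hz]; group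
          _ = (S.o 3 s * S.e 4 q v) * (w' * w) * S.e 2 0 z := by rw [hzw, hc]; group
          _ = S.o 3 s * S.e 4 q v * w * (w' * S.e 2 0 z) := by rw [hww]; group
          _ = _ := by rw [← hzw']; group
      exact mul_right_cancel (mul_left_cancel h2)
    exact ⟨z, d, e⟩
  choose ζ δ h using hform
  have hadd : ∀ x y, ζ (x + y) = ζ x + ζ y ∧ δ (x + y) = δ x + δ y := by
    intro x y
    have h1 := N.mul _ (PL7 S x) _ (PL7 S y)
    have h2 := act_o3 S y 0 0 (ζ x) 0 (δ x)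
    rw [S.o_add, h, h, h] at h1
    have h3 : S.o 3 x * EE S 0 0 (ζ x) 0 (δ x) * (S.o 3 y * EE S 0 0 (ζ y) 0 (δ y)) =
        S.o 3 (x + y) * EE S 0 0 (ζ x + ζ y) 0 (δ x + δ y) := by
      calc S.o 3 x * EE S 0 0 (ζ x) 0 (δ x) * (S.o 3 y * EE S 0 0 (ζ y) 0 (δ y)) =
          S.o 3 x * (EE S 0 0 (ζ x) 0 (δ x) * S.o 3 y) * EE S 0 0 (ζ y) 0 (δ y) := by group
        _ = (S.o 3 x * S.o 3 y) * (EE S 0 0 (ζ x + 0 * δ x + 0 * 0 + 0 * 0 + y * 0) 0 (δ x) *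
            EE S 0 0 (ζ y) 0 (δ y)) := by rw [h2]; group
        _ = _ := by
          rw [S.o_add, EE_mul]
          congr 2 <;> ring
    rw [h3] at h1
    obtain ⟨-, -, h4, -, h5⟩ := EE_inj S (mul_left_cancel h1)
    exact ⟨h4, h5⟩
  have heqv : ∀ (s : Fˣ) x, ζ (((s : F) * σ s)⁻¹ * x) = ζ x ∧ δ (((s : F) * σ s)⁻¹ * x) = ((s : F) * σ s)⁻¹ * δ x := by
    intro s x
    have h1 := N.eqv s (PL7 S x)
    have h2 : sT S s * (S.o 3 x * EE S 0 0 (ζ x) 0 (δ x)) * (sT S s)⁻¹ =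
        (sT S s * S.o 3 x * (sT S s)⁻¹) * (sT S s * EE S 0 0 (ζ x) 0 (δ x) * (sT S s)⁻¹) := by group
    rw [sT_o3, h, h, h2, sT_o3, sT_EE] at h1
    obtain ⟨-, -, h3, -, h4⟩ := EE_inj S (mul_left_cancel h1)
    exact ⟨h3, h4⟩
  obtain ⟨s, -, hs⟩ := exists_unit S hF
  have hζ : ∀ x, ζ x = 0 := tt0 S.two (fun x y => (hadd x y).1) hs (fun x => (heqv s x).1)
  have hδ : ∀ x, δ x = x * δ 1 := scal (fun x y => (hadd x y).2) fun c x => by
    obtain ⟨s, hs⟩ := exists_s1 S c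
    have := (heqv s x).2
    rwa [hs] at this
  refine ⟨δ 1, fun s => ?_⟩
  rw [h, hζ, hδ, ← EE_d, mul_comm]

/-- normalisation on `X_7` -/
theorem exists_N3 (hF : ∃ c : Fˣ, c ≠ 1) : ∃ g, N3 S (fun x => S.e 2 g 0 * f x * (S.e 2 g 0)⁻¹) := by
  obtain ⟨g, hg⟩ := N.form7 hF
  have hw : S.e 2 g 0 ∈ S.Q1 := Subgroup.mem_sup_left (S.mX4 g 0)
  refine ⟨g, ?_⟩
  exact
    { N.conjU (w := S.e 2 g 0) (mem_J (S.mX4 g 0) (by norm_num) (by norm_num)) with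
      fixS := fun s hs => by
        rw [N.fixS s hs, ← S.Tk_comm hs (S.mX4 g 0), mul_inv_cancel_right]
      n2c := fun y hy => by
        have e : S.n2 * S.e 2 g 0 = S.e 2 g 0 * S.n2 := by
          have : S.n2 * S.e 2 g 0 * S.n2⁻¹ = S.e 2 g 0 := S.n2_e 2 g 0
          rw [mul_inv_eq_iff_eq_mul] at this
          exact this
        show S.e 2 g 0 * f (S.n2 * y * S.n2⁻¹) * (S.e 2 g 0)⁻¹ = _
        rw [N.n2c y hy]
        calc S.e 2 g 0 * (S.n2 * f y * S.n2⁻¹) * (S.e 2 g 0)⁻¹ =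
            (S.e 2 g 0 * S.n2) * f y * (S.e 2 g 0 * S.n2)⁻¹ := by group
          _ = _ := by rw [← e]; group
      fixE := fun w' hw' => by
        show S.e 2 g 0 * f w' * (S.e 2 g 0)⁻¹ = _
        rw [N.fixE _ hw', S.Q1_comm hw hw', mul_inv_cancel_right]
      eps := fun x hx => by
        obtain ⟨w', hw', e⟩ := N.eps x hx
        refine ⟨(x⁻¹ * S.e 2 g 0 * x⁻¹⁻¹ * (S.e 2 g 0)⁻¹) * (S.e 2 g 0 * w' * (S.e 2 g 0)⁻¹),
          mul_mem (comm_Q1 S (inv_mem hx) hw) (Q2_conj S (Q1_le_PL S hw) hw'), ?_⟩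
        show S.e 2 g 0 * f x * (S.e 2 g 0)⁻¹ = _
        rw [e]; group
      fix7 := fun s => by
        show S.e 2 g 0 * f (S.o 3 s) * (S.e 2 g 0)⁻¹ = _
        have r : S.e 2 g 0 * S.o 3 s = S.o 3 s * S.e 2 g 0 * S.e 3 0 (g * s) := S.e_o1 2 g 0 s
        rw [hg, ← mul_assoc, r, mul_assoc (S.o 3 s * S.e 2 g 0), ze, NormE.char2 S, S.e_zero]; group }

end N2

theorem exists_ne_sigma {S : Full σ Y} (hF : ∃ c : Fˣ, c ≠ 1) : ∃ x : F, σ x ≠ x := by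
  obtain ⟨c, hc⟩ := hF
  exact ⟨c, fun h => hc (s2 S (Units.ext h))⟩

namespace N3

variable {S : Full σ Y} {f : Y → Y} (N : N3 S f)

include N

theorem fix1 (s : F) : f (S.o 0 s) = S.o 0 s := by
  have e : S.n2 * S.o 3 s * S.n2⁻¹ = S.o 0 s := S.n2_o 3 s
  rw [← e, N.n2c _ (PL7 S s), N.fix7]

/-- the elements of `Q` fixed modulo `Z_4` -/
def K2 : Subgroup Y where
  carrier := {x | x ∈ S.Q ∧ ∃ z, f x = x * S.e 2 0 z}
  one_mem' := ⟨one_mem _, 0, by rw [N.one, S.e_zero, mul_one]⟩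
  mul_mem' := by
    rintro x y ⟨hx, z, h⟩ ⟨hy, z', h'⟩
    refine ⟨mul_mem hx hy, z + z', ?_⟩
    have hc : y * S.e 2 0 z = S.e 2 0 z * y := S.comm_PL (Q_le_PL S hy) ⟨z, rfl⟩
    rw [N.mul _ (Q_le_PL S hx) _ (Q_le_PL S hy), h, h', ← ze]
    calc x * S.e 2 0 z * (y * S.e 2 0 z') = x * (S.e 2 0 z * y) * S.e 2 0 z' := by group
      _ = _ := by rw [← hc]; group
  inv_mem' := by
    rintro x ⟨hx, z, h⟩
    refine ⟨inv_mem hx, z, ?_⟩
    have hc : x⁻¹ * S.e 2 0 z = S.e 2 0 z * x⁻¹ := S.comm_PL (inv_mem (Q_le_PL S hx)) ⟨z, rfl⟩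
    rw [N.inv (Q_le_PL S hx), h, mul_inv_rev, zi, hc]

theorem mem_K2 {x : Y} : x ∈ N.K2 ↔ x ∈ S.Q ∧ ∃ z, f x = x * S.e 2 0 z := Iff.rfl

theorem K2_of_fix {x : Y} (hx : x ∈ S.Q) (h : f x = x) : x ∈ N.K2 := ⟨hx, 0, by rw [h, S.e_zero, mul_one]⟩

theorem K2_E {x : Y} (hx : x ∈ S.Q2) : x ∈ N.K2 := N.K2_of_fix (Q2_le_Q S hx) (N.fixE x hx)

/-- `K2` is normalised by `PL` -/
theorem K2_conj {g x : Y} (hg : g ∈ S.PL) (hx : x ∈ N.K2) : g * x * g⁻¹ ∈ N.K2 := by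
  obtain ⟨hxQ, z, h⟩ := hx
  obtain ⟨w, hw, e⟩ := N.eps g hg
  obtain ⟨z', hz'⟩ := Q_Q2_comm S hxQ hw
  refine ⟨Perf.Q_norm S hg hxQ, z' + z, ?_⟩
  have hc : ∀ z, w⁻¹ * S.e 2 0 z = S.e 2 0 z * w⁻¹ := fun z => Q2_comm S (inv_mem hw) (S.q2_3 z)
  have hc' : g⁻¹ * S.e 2 0 (z' + z) = S.e 2 0 (z' + z) * g⁻¹ := S.comm_PL (inv_mem hg) ⟨z' + z, rfl⟩
  rw [N.conj hg (Q_le_PL S hxQ), h, e]
  calc g * w * (x * S.e 2 0 z) * (g * w)⁻¹ = g * (w * x) * S.e 2 0 z * w⁻¹ * g⁻¹ := by group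
    _ = g * x * w * (S.e 2 0 z' * S.e 2 0 z) * w⁻¹ * g⁻¹ := by rw [hz']; group
    _ = g * x * w * (S.e 2 0 (z' + z) * w⁻¹) * g⁻¹ := by rw [ze]; group
    _ = g * x * (S.e 2 0 (z' + z) * g⁻¹) := by rw [← hc]; group
    _ = _ := by rw [← hc']; group

theorem K2_conj' {g x : Y} (hg : g ∈ S.PL) (hx : x ∈ N.K2) : g⁻¹ * x * g ∈ N.K2 := by
  have := N.K2_conj (inv_mem hg) hx
  rwa [inv_inv] at this

theorem mK1 (t : F) : S.o 0 t ∈ N.K2 := N.K2_of_fix (mem_J (S.mX1 t) (by norm_num) (by norm_num)) (N.fix1 t)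
theorem mK7 (t : F) : S.o 3 t ∈ N.K2 := N.K2_of_fix (mQ7 S t) (N.fix7 t)

theorem K2_pair (t v : F) : S.e 2 (σ t * v) 0 * S.e 3 (t * v) 0 ∈ N.K2 := by
  have r := S.o_e4 0 t 0 v
  rw [show ((0 : ZMod 8) + 4) = 4 from rfl, show ((0 : ZMod 8) + 1) = 1 from rfl,
    show ((0 : ZMod 8) + 2) = 2 from rfl, show ((0 : ZMod 8) + 3) = 3 from rfl] at r
  simp only [mul_zero, zero_mul, map_zero, zero_add, add_zero] at r
  have h1 := N.K2_conj' (PL8 S 0 v) (N.mK1 t)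
  rw [mul_assoc, r] at h1
  have h2 := mul_mem (inv_mem (mul_mem (mul_mem (N.mK1 t) (N.K2_E (S.q2_1 (t * σ t * v)))) (N.K2_E (S.q2_2 (t * σ t * σ v)))))
    h1
  have h3 := mul_mem h2 (inv_mem (N.mK7 (t * σ v)))
  have hc : S.o 2 (t * σ t * v * v) * S.e 3 (t * v) 0 = S.e 3 (t * v) 0 * S.o 2 (t * σ t * v * v) := S.o_e1 2 _ _ _
  have hc2 := S.comm_PL (PL6 S (t * v) 0) (z := S.e 2 0 (t * t * σ t * v * σ v)) ⟨_, rfl⟩
  have e : (S.o 0 t * S.e 1 0 (t * σ t * v) * S.o 1 (t * σ t * σ v))⁻¹ *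
      ((S.e 4 0 v)⁻¹ * (S.e 4 0 v * S.o 0 t * S.e 1 0 (t * σ t * v) * S.o 1 (t * σ t * σ v) *
        S.e 2 (σ t * v) (t * t * σ t * v * σ v) * S.o 2 (t * σ t * v * v) * S.e 3 (t * v) 0 * S.o 3 (t * σ v))) *
      (S.o 3 (t * σ v))⁻¹ = S.e 2 (σ t * v) 0 * S.e 3 (t * v) 0 *
        (S.e 2 0 (t * t * σ t * v * σ v) * S.o 2 (t * σ t * v * v)) := by
    rw [e_split S 2 (σ t * v)]
    calc _ = S.e 2 (σ t * v) 0 * S.e 2 0 (t * t * σ t * v * σ v) * (S.o 2 (t * σ t * v * v) * S.e 3 (t * v) 0) := by group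
      _ = S.e 2 (σ t * v) 0 * (S.e 2 0 (t * t * σ t * v * σ v) * S.e 3 (t * v) 0) * S.o 2 (t * σ t * v * v) := by
        rw [hc]; group
      _ = _ := by rw [← hc2]; group
  rw [e] at h3
  have h4 := mul_mem h3 (inv_mem (N.K2_E (mul_mem (S.q2_3 (t * t * σ t * v * σ v)) (S.q2_4 (t * σ t * v * v)))))
  rwa [mul_inv_cancel_right] at h4

theorem mK4 (hF : ∃ c : Fˣ, c ≠ 1) (p : F) : S.e 2 p 0 ∈ N.K2 := by
  obtain ⟨τ, hτ⟩ := exists_ne_sigma (S := S) hF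
  have hτ0 : τ ≠ 0 := by rintro rfl; exact hτ (map_zero σ)
  have hc : σ τ * τ⁻¹ ≠ 1 := by
    intro h
    apply hτ
    field_simp at h
    exact h
  have hc1 : 1 + σ τ * τ⁻¹ ≠ 0 := by
    intro h
    apply hc
    have h2 := NormE.char2 S (1 : F)
    linear_combination h - h2
  set v := p * (1 + σ τ * τ⁻¹)⁻¹ with hv
  have h1 := N.K2_pair 1 v
  have h2 := N.K2_pair τ (τ⁻¹ * v)
  rw [map_one, one_mul] at h1
  rw [mul_inv_cancel_left₀ hτ0, ← mul_assoc] at h2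
  have h3 := mul_mem h1 (inv_mem h2)
  have e : S.e 2 v 0 * S.e 3 v 0 * (S.e 2 (σ τ * τ⁻¹ * v) 0 * S.e 3 v 0)⁻¹ =
      S.e 2 p 0 * S.e 2 0 (σ τ * τ⁻¹ * v * σ (σ τ * τ⁻¹ * v) + v * σ (σ τ * τ⁻¹ * v)) := by
    rw [mul_inv_rev, ← mul_assoc, mul_inv_cancel_right, e_inv S 2, S.e_mul, ← e_split]
    congr 1
    · have : v + σ τ * τ⁻¹ * v = (1 + σ τ * τ⁻¹) * v := by ring
      rw [this, hv, mul_comm p, mul_inv_cancel_left₀ hc1]
    · ring
  rw [e] at h3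
  have h4 := mul_mem h3 (inv_mem (N.K2_E (S.q2_3 (σ τ * τ⁻¹ * v * σ (σ τ * τ⁻¹ * v) + v * σ (σ τ * τ⁻¹ * v)))))
  rwa [mul_inv_cancel_right] at h4

theorem mK6 (hF : ∃ c : Fˣ, c ≠ 1) (p : F) : S.e 3 p 0 ∈ N.K2 := by
  have h1 := N.K2_pair 1 p
  rw [map_one, one_mul] at h1
  have h2 := mul_mem (inv_mem (N.mK4 hF p)) h1
  rwa [inv_mul_cancel_left] at h2

/-- `X_6` is fixed -/
theorem fix6 (hF : ∃ c : Fˣ, c ≠ 1) (p u : F) : f (S.e 3 p u) = S.e 3 p u := by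
  have hform : ∀ p, ∃ z, f (S.e 3 p 0) = S.e 3 p 0 * S.e 2 0 z := fun p => (N.mK6 hF p).2
  choose ζ h using hform
  have hadd : ∀ x y, ζ (x + y) = ζ x + ζ y := by
    intro x y
    have h1 := N.mul _ (PL6 S x 0) _ (PL6 S y 0)
    have e1 : S.e 3 x 0 * S.e 3 y 0 = S.e 3 (x + y) 0 * S.e 3 0 (x * σ y) := by
      rw [S.e_mul, ← e_split]; congr 1; ring
    rw [e1, N.mul _ (PL6 S _ 0) _ (PL6 S 0 _), N.fixE _ (S.q2_5 _), h, h, h] at h1
    have c1 := S.comm_PL (PL6 S y 0) (z := S.e 2 0 (ζ x)) ⟨_, rfl⟩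
    have c2 := S.comm_PL (PL6 S 0 (x * σ y)) (z := S.e 2 0 (ζ (x + y))) ⟨_, rfl⟩
    have h2 : S.e 3 (x + y) 0 * S.e 3 0 (x * σ y) * S.e 2 0 (ζ (x + y)) =
        S.e 3 (x + y) 0 * S.e 3 0 (x * σ y) * S.e 2 0 (ζ x + ζ y) := by
      calc S.e 3 (x + y) 0 * S.e 3 0 (x * σ y) * S.e 2 0 (ζ (x + y)) =
          S.e 3 (x + y) 0 * (S.e 3 0 (x * σ y) * S.e 2 0 (ζ (x + y))) := by group
        _ = S.e 3 (x + y) 0 * S.e 2 0 (ζ (x + y)) * S.e 3 0 (x * σ y) := by rw [c2]; group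
        _ = S.e 3 x 0 * (S.e 2 0 (ζ x) * S.e 3 y 0) * S.e 2 0 (ζ y) := by rw [h1]; group
        _ = (S.e 3 x 0 * S.e 3 y 0) * (S.e 2 0 (ζ x) * S.e 2 0 (ζ y)) := by rw [← c1]; group
        _ = _ := by rw [e1, ze]
    exact (S.injE 2 _ _ _ _ (mul_left_cancel h2)).2
  have heqv : ∀ (s : Fˣ) x, ζ ((s : F)⁻¹ * x) = ζ x := by
    intro s x
    have h1 := N.eqv s (PL6 S x 0)
    have h2 : sT S s * (S.e 3 x 0 * S.e 2 0 (ζ x)) * (sT S s)⁻¹ =
        (sT S s * S.e 3 x 0 * (sT S s)⁻¹) * (sT S s * S.e 2 0 (ζ x) * (sT S s)⁻¹) := by group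
    rw [sT_e3, mul_zero, h, h, h2, sT_e3, mul_zero, sT_e2] at h1
    exact (S.injE 2 _ _ _ _ (mul_left_cancel h1)).2
  obtain ⟨s, hs, -⟩ := exists_unit S hF
  rw [e_split, N.mul _ (PL6 S p 0) _ (PL6 S 0 u), N.fixE _ (S.q2_5 u), h, tt0 S.two hadd hs (heqv s), S.e_zero,
    mul_one]

theorem fix2 (hF : ∃ c : Fˣ, c ≠ 1) (p u : F) : f (S.e 1 p u) = S.e 1 p u := by
  have e : S.n2 * S.e 3 p u * S.n2⁻¹ = S.e 1 p u := S.n2_e 3 p u
  rw [← e, N.n2c _ (PL6 S p u), N.fix6 hF]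

theorem exists_phi (hF : ∃ c : Fˣ, c ≠ 1) : ∃ φ : F → F, (∀ x y, φ (x + y) = φ x + φ y) ∧
    ∀ p u, f (S.e 2 p u) = S.e 2 p (u + φ p) := by
  have hform : ∀ p, ∃ z, f (S.e 2 p 0) = S.e 2 p 0 * S.e 2 0 z := fun p => (N.mK4 hF p).2
  choose φ h using hform
  have h4 : ∀ p u, f (S.e 2 p u) = S.e 2 p (u + φ p) := by
    intro p u
    rw [e_split, N.mul _ (PL4 S p 0) _ (PL4 S 0 u), N.fixE _ (S.q2_3 u), h, mul_assoc, ze, ← e_split, add_comm]
  refine ⟨φ, fun x y => ?_, h4⟩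
  have h1 := N.mul _ (PL4 S x 0) _ (PL4 S y 0)
  rw [S.e_mul, h4, h4, h4, S.e_mul] at h1
  have h2 := (S.injE 2 _ _ _ _ h1).2
  linear_combination h2

section eight

variable {φ : F → F} (hadd : ∀ x y, φ (x + y) = φ x + φ y) (h4 : ∀ p u, f (S.e 2 p u) = S.e 2 p (u + φ p))

include hadd h4

theorem move4 (p u : F) : f (S.e 2 p u) = S.e 2 p u * S.e 2 0 (φ p) := by
  rw [h4, e_split S 2 p u, e_split S 2 p (u + φ p), mul_assoc, ze]

/-- `X_8`: the first form -/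
theorem form8 (hF : ∃ c : Fˣ, c ≠ 1) (q v : F) : ∃ z c d, f (S.e 4 q v) = S.e 4 q v * EE S 0 0 z c d ∧
    (∀ p, p * c = φ (σ p * q)) ∧ d = q * c + φ (q * σ q + v) := by
  obtain ⟨w, hw, e⟩ := N.eps _ (PL8 S q v)
  obtain ⟨a, b, z, c, d, rfl⟩ := mem_Q2 S hw
  have hEP : ∀ a b z c d, EE S a b z c d ∈ S.PL := fun a b z c d => Q2_le_PL S (EE_mem S a b z c d)
  -- the general principle
  have key : ∀ (x R : Y) (y t p r s : F), x ∈ S.PL → R ∈ S.PL → x * S.e 4 q v = S.e 4 q v * R → f x = x →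
      f R = R * S.e 2 0 y → Act S R t p r s → t * d + p * c + r * b + s * a = y := by
    intro x R y t p r s hx hR h1 hfx hfR hact
    have h2 := congrArg f h1
    rw [N.mul _ hx _ (PL8 S q v), N.mul _ (PL8 S q v) _ hR, hfx, hfR, e] at h2
    have h3 : S.e 4 q v * (R * EE S a b z c d) =
        S.e 4 q v * (R * (EE S a b (z + t * d + p * c + r * b + s * a) c d * S.e 2 0 y)) := by
      calc S.e 4 q v * (R * EE S a b z c d) = (S.e 4 q v * R) * EE S a b z c d := by group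
        _ = x * (S.e 4 q v * EE S a b z c d) := by rw [← h1]; group
        _ = S.e 4 q v * (EE S a b z c d * R) * S.e 2 0 y := by rw [h2]; group
        _ = _ := by rw [hact]; group
    have h5 := mul_left_cancel (mul_left_cancel h3)
    rw [EE_z, EE_mul] at h5
    obtain ⟨-, -, h6, -, -⟩ := EE_inj S h5
    have c0 := NormE.char2 S y
    linear_combination -c0 - h6
  -- `a = 0`
  have ha : a = 0 := by
    have h1 := key (S.o 3 1) (S.o 3 1) 0 0 0 0 1 (PL7 S 1) (PL7 S 1) (S.o_e1 3 1 q v) (N.fix7 1)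
      (by rw [N.fix7, S.e_zero, mul_one]) (act_o3 S 1)
    linear_combination h1
  have hb : b = 0 := by
    have h1 := key (S.e 3 1 0) (S.e 3 1 0 * S.o 3 (1 * q)) 0 (0 + 0) (0 + 0) (1 + 0) (0 + 1 * q) (PL6 S 1 0)
      (mul_mem (PL6 S 1 0) (PL7 S _))
      (by
        have : S.e 3 1 0 * S.e 4 q v = S.e 4 q v * S.e 3 1 0 * S.o 3 (1 * q) := S.e_e1 3 1 0 q v
        rw [this, mul_assoc]) (N.fix6 hF 1 0)
      (by rw [N.mul _ (PL6 S 1 0) _ (PL7 S _), N.fix6 hF, N.fix7, S.e_zero, mul_one])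
      ((act_e3 S 1 0).mul (act_o3 S (1 * q)))
    rw [ha] at h1
    linear_combination h1
  have hz : ∀ (g : Y) (y : F), g ∈ S.PL → g * S.e 2 0 y = S.e 2 0 y * g := fun g y hg => S.comm_PL hg ⟨y, rfl⟩
  refine ⟨z, c, d, by rw [e, ha, hb], fun p => ?_, ?_⟩
  · -- `X_2`
    have r := S.e_e3 1 p 0 q v
    rw [show ((1 : ZMod 8) + 3) = 4 from rfl, show ((1 : ZMod 8) + 1) = 2 from rfl,
      show ((1 : ZMod 8) + 2) = 3 from rfl] at r
    generalize p * σ p * q + 0 * q = B1 at r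
    generalize p * 0 * v + p * p * σ p * v + σ 0 * q * σ q + σ 0 * v = B2 at r
    generalize 0 * v = B3 at r
    generalize p * σ p * q * q * σ q + p * σ p * σ v + 0 * q * v + 0 * q * q * σ q + 0 * σ v = B4 at r
    generalize p * q * σ q + p * v = B5 at r
    have m1 := PL2 S p 0
    have m2 := mul_mem m1 (PL3 S B1)
    have m3 := mul_mem m2 (PL4 S (σ p * q) B2)
    have m4 := mul_mem m3 (PL5 S B3)
    have m5 := mul_mem m4 (PL6 S (p * σ q) B4)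
    have m6 := mul_mem m5 (PL7 S B5)
    have hfR : f (S.e 1 p 0 * S.o 1 B1 * S.e 2 (σ p * q) B2 * S.o 2 B3 * S.e 3 (p * σ q) B4 * S.o 3 B5) =
        S.e 1 p 0 * S.o 1 B1 * S.e 2 (σ p * q) B2 * S.o 2 B3 * S.e 3 (p * σ q) B4 * S.o 3 B5 *
          S.e 2 0 (φ (σ p * q)) := by
      rw [N.mul _ m5 _ (PL7 S B5), N.mul _ m4 _ (PL6 S _ B4), N.mul _ m3 _ (PL5 S B3), N.mul _ m2 _ (PL4 S _ B2),
        N.mul _ m1 _ (PL3 S B1), N.fix2 hF, N.fixE _ (S.q2_2 B1), N.fixE _ (S.q2_4 B3), N.fix6 hF, N.fix7,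
        N.move4 hadd h4]
      calc S.e 1 p 0 * S.o 1 B1 * (S.e 2 (σ p * q) B2 * S.e 2 0 (φ (σ p * q))) * S.o 2 B3 * S.e 3 (p * σ q) B4 *
            S.o 3 B5 = S.e 1 p 0 * S.o 1 B1 * S.e 2 (σ p * q) B2 *
              (S.e 2 0 (φ (σ p * q)) * (S.o 2 B3 * S.e 3 (p * σ q) B4 * S.o 3 B5)) := by group
        _ = _ := by rw [← hz _ _ (mul_mem (mul_mem (PL5 S B3) (PL6 S _ B4)) (PL7 S B5))]; group
    have h1 := key (S.e 1 p 0) _ (φ (σ p * q)) _ _ _ _ m1 m6 (by rw [r]; group) (N.fix2 hF p 0) hfR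
      ((((((act_e1 S p 0).mul (act_o1 S B1)).mul (act_e2 S (σ p * q) B2)).mul (act_o2 S B3)).mul
        (act_e3 S (p * σ q) B4)).mul (act_o3 S B5))
    rw [ha, hb] at h1
    linear_combination h1
  · -- `X_1`
    have r := S.o_e4 0 1 q v
    rw [show ((0 : ZMod 8) + 4) = 4 from rfl, show ((0 : ZMod 8) + 1) = 1 from rfl,
      show ((0 : ZMod 8) + 2) = 2 from rfl, show ((0 : ZMod 8) + 3) = 3 from rfl] at r
    simp only [map_one, one_mul] at r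
    generalize q * σ q + v = A2 at r ⊢
    generalize q * v + q * q * σ q + σ v = A7 at r
    generalize q * v * v + q * q * σ q * v + v * σ v = A5 at r
    generalize σ q * σ v + q * q * σ q * σ q + v * v = A4 at r
    generalize q * v * v + q * σ q * σ v + q * q * q * σ q * σ q = A6 at r
    have m1 := PL1 S 1
    have m2 := mul_mem m1 (PL2 S q A2)
    have m3 := mul_mem m2 (PL3 S A7)
    have m4 := mul_mem m3 (PL4 S A2 A5)
    have m5 := mul_mem m4 (PL5 S A4)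
    have m6 := mul_mem m5 (PL6 S v A6)
    have m7 := mul_mem m6 (PL7 S A7)
    have hfR : f (S.o 0 1 * S.e 1 q A2 * S.o 1 A7 * S.e 2 A2 A5 * S.o 2 A4 * S.e 3 v A6 * S.o 3 A7) =
        S.o 0 1 * S.e 1 q A2 * S.o 1 A7 * S.e 2 A2 A5 * S.o 2 A4 * S.e 3 v A6 * S.o 3 A7 * S.e 2 0 (φ A2) := by
      rw [N.mul _ m6 _ (PL7 S A7), N.mul _ m5 _ (PL6 S _ _), N.mul _ m4 _ (PL5 S _), N.mul _ m3 _ (PL4 S _ _),
        N.mul _ m2 _ (PL3 S _), N.mul _ m1 _ (PL2 S _ _), N.fix1, N.fix2 hF, N.fixE _ (S.q2_2 A7),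
        N.fixE _ (S.q2_4 A4), N.fix6 hF, N.fix7, N.move4 hadd h4]
      calc S.o 0 1 * S.e 1 q A2 * S.o 1 A7 * (S.e 2 A2 A5 * S.e 2 0 (φ A2)) * S.o 2 A4 * S.e 3 v A6 * S.o 3 A7 =
            S.o 0 1 * S.e 1 q A2 * S.o 1 A7 * S.e 2 A2 A5 *
              (S.e 2 0 (φ A2) * (S.o 2 A4 * S.e 3 v A6 * S.o 3 A7)) := by group
        _ = _ := by rw [← hz _ _ (mul_mem (mul_mem (PL5 S A4) (PL6 S _ _)) (PL7 S A7))]; group
    have h1 := key (S.o 0 1) _ (φ A2) _ _ _ _ m1 m7 (by rw [r]; group) (N.fix1 1) hfR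
      (((((((act_o0 S 1).mul (act_e1 S q A2)).mul (act_o1 S A7)).mul (act_e2 S A2 A5)).mul (act_o2 S A4)).mul
        (act_e3 S v A6)).mul (act_o3 S A7))
    rw [ha, hb] at h1
    have c0 := NormE.char2 S (q * c)
    linear_combination h1 - c0

theorem form8' (hF : ∃ c : Fˣ, c ≠ 1) : (∀ p q, φ (σ p * q) = p * φ q) ∧
    ∀ q v, f (S.e 4 q v) = S.e 4 q v * EE S 0 0 0 (φ q) (φ v) := by
  have hphi : ∀ p q, φ (σ p * q) = p * φ q := by
    intro p q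
    obtain ⟨z, c, d, -, h2, -⟩ := N.form8 hadd h4 hF q 0
    have h3 := h2 1
    rw [map_one, one_mul, one_mul] at h3
    rw [← h2 p, h3]
  have hform : ∀ q v, ∃ z, f (S.e 4 q v) = S.e 4 q v * EE S 0 0 z (φ q) (φ v) := by
    intro q v
    obtain ⟨z, c, d, h1, h2, h3⟩ := N.form8 hadd h4 hF q v
    refine ⟨z, ?_⟩
    have hc : c = φ q := by
      have := h2 1
      rwa [map_one, one_mul, one_mul] at this
    have hd : d = φ v := by
      have e1 := hphi q q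
      rw [h3, hc, hadd, mul_comm q (σ q), e1]
      linear_combination NormE.char2 S (q * φ q)
    rw [h1, hc, hd]
  choose ζ h using hform
  have hζ : ∀ q v q' v', ζ (q + q') (v + v' + q * σ q') = ζ q v + ζ q' v' := by
    intro q v q' v'
    have h1 := N.mul _ (PL8 S q v) _ (PL8 S q' v')
    rw [S.e_mul, h, h, h] at h1
    have h2 : S.e 4 q v * EE S 0 0 (ζ q v) (φ q) (φ v) * (S.e 4 q' v' * EE S 0 0 (ζ q' v') (φ q') (φ v')) =
        S.e 4 (q + q') (v + v' + q * σ q') *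
          EE S (0 + 0) (0 + 0) (ζ q v + ζ q' v') (φ q + φ q') (φ v + φ q * q' + φ v') := by
      calc S.e 4 q v * EE S 0 0 (ζ q v) (φ q) (φ v) * (S.e 4 q' v' * EE S 0 0 (ζ q' v') (φ q') (φ v')) =
          S.e 4 q v * (EE S 0 0 (ζ q v) (φ q) (φ v) * S.e 4 q' v') * EE S 0 0 (ζ q' v') (φ q') (φ v') := by group
        _ = (S.e 4 q v * S.e 4 q' v') * (EE S 0 0 (ζ q v) (φ q) (φ v + φ q * q') *
            EE S 0 0 (ζ q' v') (φ q') (φ v')) := by rw [EE_e4']; group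
        _ = _ := by rw [S.e_mul, EE_mul]
    rw [h2] at h1
    exact (EE_inj S (mul_left_cancel h1)).2.2.1
  have heqv : ∀ (s : Fˣ) q v, ζ ((σ (s : F))⁻¹ * q) ((σ (s : F))⁻¹ * σ (σ (s : F))⁻¹ * v) = ζ q v := by
    intro s q v
    have h1 := N.eqv s (PL8 S q v)
    have h2 : sT S s * (S.e 4 q v * EE S 0 0 (ζ q v) (φ q) (φ v)) * (sT S s)⁻¹ =
        (sT S s * S.e 4 q v * (sT S s)⁻¹) * (sT S s * EE S 0 0 (ζ q v) (φ q) (φ v) * (sT S s)⁻¹) := by group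
    rw [sT_e4, h, h, h2, sT_e4, sT_EE] at h1
    exact (EE_inj S (mul_left_cancel h1)).2.2.1
  obtain ⟨c, hc⟩ := id hF
  have hσc : Units.map (σ : F →* F) c ≠ 1 := Perf.σ_ne hc
  have hw1 : (σ (c : F))⁻¹ ≠ 1 := by
    intro h0
    rw [inv_eq_one] at h0
    exact hσc (Units.ext h0)
  have hw2 : (σ (c : F))⁻¹ * σ (σ (c : F))⁻¹ ≠ 1 := by
    intro h0
    rw [map_inv₀, ← mul_inv, inv_eq_one] at h0
    exact hσc (S.unit_eq_one (Units.ext h0))
  have z1 : ∀ v, ζ 0 v = 0 := by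
    refine tt0 S.two (g := fun v => ζ 0 v) (fun x y => ?_) hw2 (fun v => ?_)
    · have := hζ 0 x 0 y
      rwa [add_zero, zero_mul, add_zero] at this
    · have := heqv c 0 v
      rwa [mul_zero] at this
  have z2 : ∀ q v, ζ q v = ζ q 0 := by
    intro q v
    have := hζ q 0 0 v
    rwa [add_zero, zero_add, map_zero, mul_zero, add_zero, z1, add_zero] at this
  have z3 : ∀ q, ζ q 0 = 0 := by
    refine tt0 S.two (g := fun q => ζ q 0) (fun x y => ?_) hw1 (fun q => ?_)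
    · have := hζ x 0 y 0
      rwa [z2 (x + y)] at this
    · have := heqv c q 0
      rwa [mul_zero] at this
  exact ⟨hphi, fun q v => by rw [h, z2, z3]⟩

end eight

/-- **the final form** -/
theorem toNR (hF : ∃ c : Fˣ, c ≠ 1) : ∃ φ, NR S f φ := by
  obtain ⟨φ, hadd, h4⟩ := N.exists_phi hF
  obtain ⟨hphi, h8⟩ := N.form8' hadd h4 hF
  refine ⟨φ, ?_⟩
  exact
    { N with
      fix1 := N.fix1
      fix2 := N.fix2 hF
      fix3 := fun s => N.fixE _ (S.q2_2 s)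
      fix5 := fun s => N.fixE _ (S.q2_4 s)
      fix6 := N.fix6 hF
      f4 := h4
      f8 := fun q v => by
        rw [h8, mul_assoc, EE_c, EE_d, EE_mul]
        simp only [add_zero, zero_add]
      f0 := fun q v => by
        have e : S.n2 * S.e 4 q v * S.n2⁻¹ = S.e 0 q v := S.n2_e 4 q v
        have e1 : S.n2 * (S.e 4 q v * EE S 0 0 0 (φ q) (φ v)) * S.n2⁻¹ =
            (S.n2 * S.e 4 q v * S.n2⁻¹) * (S.n2 * EE S 0 0 0 (φ q) (φ v) * S.n2⁻¹) := by group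
        rw [← e, N.n2c _ (PL8 S q v), h8, e1, n2_EE, mul_assoc (S.n2 * S.e 4 q v * S.n2⁻¹) (S.o 1 (φ q)), EE_b, EE_a,
          EE_mul]
        simp only [add_zero, zero_add]
      add := hadd
      phi := hphi }

end N3

namespace NF

variable {S : Full σ Y} {f : Y → Y} (N : NF S f)

include N

/-- **The action of a 2-element on `C_Y(Z_4)`.** -/
theorem exists_NR (hF : ∃ c : Fˣ, c ≠ 1) : ∃ w ∈ J S.XZ 1 8, ∃ φ, NR S (fun x => w * f x * w⁻¹) φ := by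
  obtain ⟨w1, hw1, s, hs, hs1, hfs⟩ := N.stepA hF
  have M := N.conjU hw1
  have hS : ∀ s' ∈ S.Tk 4, w1 * f s' * w1⁻¹ ∈ S.Tk 4 := fun s' hs' => M.stepA2 hs hs1 hfs hs'
  obtain ⟨h1, h2⟩ := M.stepB hF (exists_ne_sigma (S := S) hF) hS
  have M1 : N1 S (fun x => w1 * f x * w1⁻¹) :=
    { M with
      fixS := h1
      fn2 := M.stepC hF h1
      f8 := h2 }
  obtain ⟨g, M3⟩ := (M1.toN2 hF).exists_N3 hF
  obtain ⟨φ, M4⟩ := M3.toNR hF
  refine ⟨S.e 2 g 0 * w1, mul_mem (mem_J (S.mX4 g 0) (by norm_num) (by norm_num)) hw1, φ, ?_⟩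
  have e : (fun x => S.e 2 g 0 * w1 * f x * (S.e 2 g 0 * w1)⁻¹) =
      fun x => S.e 2 g 0 * (w1 * f x * w1⁻¹) * (S.e 2 g 0)⁻¹ := by
    funext x; group
  rw [e]; exact M4

end NF

end Cfsg.Agent.OddHalf.D7TwF4.NormF

end

-- merged: Cfsg.Agent.OddHalf.D7TwF4.Norm
section

/-!
# D7, `K = ²F₄(q)`: the elements `n` of sections 1.1 - 1.3 (helper467)

`exists_NEl : Pos S i t → ∀ u, ∃ φ n, NEl S.toSys i t 2 φ u n`.
-/

set_option autoImplicit false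
set_option maxHeartbeats 400000
set_option linter.unusedSectionVars false

namespace Cfsg.Agent.OddHalf.D7TwF4.Norm

open Cfsg.Agent.KFacts.TwF4 Cfsg.Agent.SplitTwo.ZS Cfsg.Agent.OddHalf.D7TwF4.Defs
open Cfsg.Agent.OddHalf.D7TwF4.NormE Cfsg.Agent.OddHalf.D7TwF4.NormF

universe u v w

variable {F : Type w} [Field F] {σ : F →+* F} {Y : Type u} [Group Y] {G : Type v} [Group G]
  {S : Full σ Y} {i : Y →* G} {t : G} (P : Pos S i t)

/-- the normaliser -/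
def NN (S : Full σ Y) (i : Y →* G) (t : G) : Subgroup G where
  carrier := {g | g ∈ Subgroup.normalizer (TT S i t : Set G) ∧ (∃ z ∈ S.Zc 2, g * t * g⁻¹ = t * i z) ∧
    (∀ z ∈ S.Zc 2, ∃ z' ∈ S.Zc 2, g * i z * g⁻¹ = i z') ∧ ∀ z ∈ S.Zc 2, ∃ z' ∈ S.Zc 2, g⁻¹ * i z * g = i z'}
  one_mem' := ⟨one_mem _, ⟨1, one_mem _, by simp⟩, fun z hz => ⟨z, hz, by simp⟩, fun z hz => ⟨z, hz, by simp⟩⟩
  mul_mem' := by
    rintro g h ⟨h1, ⟨z, hz, h2⟩, h3, h4⟩ ⟨k1, ⟨w, hw, k2⟩, k3, k4⟩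
    refine ⟨mul_mem h1 k1, ?_, fun z hz => ?_, fun z hz => ?_⟩
    · obtain ⟨w', hw', h5⟩ := h3 w hw
      refine ⟨z * w', mul_mem hz hw', ?_⟩
      calc g * h * t * (g * h)⁻¹ = g * (h * t * h⁻¹) * g⁻¹ := by group
        _ = (g * t * g⁻¹) * (g * i w * g⁻¹) := by rw [k2]; group
        _ = _ := by rw [h2, h5, map_mul, mul_assoc]
    · obtain ⟨w', hw', h5⟩ := k3 z hz
      obtain ⟨w'', hw'', h6⟩ := h3 w' hw'
      refine ⟨w'', hw'', ?_⟩
      rw [← h6, ← h5]; group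
    · obtain ⟨w', hw', h5⟩ := h4 z hz
      obtain ⟨w'', hw'', h6⟩ := k4 w' hw'
      refine ⟨w'', hw'', ?_⟩
      rw [← h6, ← h5]; group
  inv_mem' := by
    rintro g ⟨h1, ⟨z, hz, h2⟩, h3, h4⟩
    refine ⟨inv_mem h1, ?_, fun z hz => ?_, fun z hz => ?_⟩
    · obtain ⟨w', hw', h5⟩ := h4 z hz
      refine ⟨w'⁻¹, inv_mem hw', ?_⟩
      rw [map_inv, eq_mul_inv_iff_mul_eq, ← h5]
      calc g⁻¹ * t * g⁻¹⁻¹ * (g⁻¹ * i z * g) = g⁻¹ * (t * i z) * g := by group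
        _ = g⁻¹ * (g * t * g⁻¹) * g := by rw [h2]
        _ = t := by group
    · obtain ⟨w', hw', h5⟩ := h4 z hz
      exact ⟨w', hw', by rw [inv_inv]; exact h5⟩
    · obtain ⟨w', hw', h5⟩ := h3 z hz
      exact ⟨w', hw', by rw [inv_inv]; exact h5⟩

include P

theorem t_conj_i (y : Y) : t * i y * t⁻¹ = i y := by rw [P.ti, mul_inv_cancel_right]

/-- the elements of `T` -/
theorem mem_TT {x : G} : x ∈ TT S i t ↔ ∃ y ∈ UY S, x = i y ∨ x = t * i y := by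
  constructor
  · intro hx
    obtain ⟨a, ha, b, hb, rfl⟩ := mem_sup_of_norm (A := Subgroup.zpowers t) (B := (UY S).map i) (fun a ha b hb => by
      obtain ⟨n, rfl⟩ := Subgroup.mem_zpowers_iff.1 ha
      obtain ⟨y, hy, rfl⟩ := hb
      have hc : Commute t (i y) := P.ti y
      rw [(hc.zpow_left n).eq, mul_inv_cancel_right]
      exact ⟨y, hy, rfl⟩) hx
    obtain ⟨n, rfl⟩ := Subgroup.mem_zpowers_iff.1 ha
    obtain ⟨y, hy, rfl⟩ := hb
    refine ⟨y, hy, ?_⟩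
    have ht2 : t ^ (2 : ℤ) = 1 := by rw [zpow_two]; exact P.tt
    rcases Int.even_or_odd' n with ⟨m, h | h⟩
    · left; rw [h, zpow_mul, ht2, one_zpow, one_mul]
    · right; rw [h, zpow_add, zpow_mul, ht2, one_zpow, one_mul, zpow_one]
  · rintro ⟨y, hy, rfl | rfl⟩
    · exact Subgroup.mem_sup_right ⟨y, hy, rfl⟩
    · exact mul_mem (Subgroup.mem_sup_left (Subgroup.mem_zpowers t)) (Subgroup.mem_sup_right ⟨y, hy, rfl⟩)

theorem Z_ne : S.e 2 0 1 ≠ 1 := fun h => one_ne_zero (S.e_eq_one h).2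

/-- the centraliser of `⟨t⟩ Z_4` -/
theorem cent_form {c : G} (hct : c * t = t * c) (hc : ∀ z ∈ S.Zc 2, c * i z = i z * c) :
    ∃ y ∈ S.PL, c = i y ∨ c = t * i y := by
  have : Finite F := P.finF
  obtain ⟨y, hy⟩ := P.cZ c hct hc
  refine ⟨y, ?_, hy⟩
  rw [← S.centralizer_z (z := S.e 2 0 1) ⟨1, rfl⟩ (Z_ne P), Subgroup.mem_centralizer_singleton_iff]
  apply P.inj
  have h1 := hc (S.e 2 0 1) ⟨1, rfl⟩
  rw [map_mul, map_mul]
  rcases hy with rfl | rfl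
  · exact h1
  · have h2 : t * (i y * i (S.e 2 0 1)) = t * (i (S.e 2 0 1) * i y) := by
      calc t * (i y * i (S.e 2 0 1)) = t * i y * i (S.e 2 0 1) := by group
        _ = (i (S.e 2 0 1) * t) * i y := by rw [h1]; group
        _ = _ := by rw [← P.ti]; group
    exact mul_left_cancel h2

theorem mem_NN {g : G} : g ∈ NN S i t ↔ g ∈ Subgroup.normalizer (TT S i t : Set G) ∧
    (∃ z ∈ S.Zc 2, g * t * g⁻¹ = t * i z) ∧
    (∀ z ∈ S.Zc 2, ∃ z' ∈ S.Zc 2, g * i z * g⁻¹ = i z') ∧ ∀ z ∈ S.Zc 2, ∃ z' ∈ S.Zc 2, g⁻¹ * i z * g = i z' := Iff.rfl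

theorem exists_NN : ∃ n ∈ NN S i t, n * t * n⁻¹ ≠ t := by
  obtain ⟨n, h1, h2, h3, h4, h5⟩ := P.fus
  exact ⟨n, ⟨h1, h3, h4, h5⟩, h2⟩

/-- the torus lies in the normaliser -/
theorem torus_NN {h : Y} (hh : h ∈ S.T) : i h ∈ NN S i t := by
  have key : ∀ h ∈ S.T, ∀ x ∈ TT S i t, i h * x * (i h)⁻¹ ∈ TT S i t := by
    intro h hh x hx
    obtain ⟨y, hy, hxy⟩ := (mem_TT P).1 hx
    refine (mem_TT P).2 ⟨h * y * h⁻¹, S.T_conj_J hh hy, ?_⟩
    rcases hxy with rfl | rfl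
    · left; rw [map_mul, map_mul, map_inv]
    · right
      rw [map_mul, map_mul, map_inv]
      calc i h * (t * i y) * (i h)⁻¹ = (i h * t) * i y * (i h)⁻¹ := by group
        _ = _ := by rw [← P.ti]; group
  refine ⟨?_, ⟨1, one_mem _, by rw [← P.ti, mul_inv_cancel_right, map_one, mul_one]⟩, fun z hz => ?_, fun z hz => ?_⟩
  · rw [Subgroup.mem_normalizer_iff]
    intro x
    refine ⟨fun hx => key h hh x hx, fun hx => ?_⟩
    have := key h⁻¹ (inv_mem hh) _ hx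
    have e : i h⁻¹ * (i h * x * (i h)⁻¹) * (i h⁻¹)⁻¹ = x := by rw [map_inv]; group
    rwa [e] at this
  · exact ⟨h * z * h⁻¹, S.T_conj_Zc hh hz, by rw [map_mul, map_mul, map_inv]⟩
  · have := S.T_conj_Zc (inv_mem hh) hz
    rw [inv_inv] at this
    exact ⟨h⁻¹ * z * h, this, by rw [map_mul, map_mul, map_inv]⟩

/-- `N` is transitive on `t Z_4` -/
theorem trans {x : G} {u0 u : F} (hx : x⁻¹ * t * x = t * i (S.e 2 0 u0)) (hu0 : u0 ≠ 0) (hu : u ≠ 0) :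
    ∃ h ∈ S.T, (i h * x * (i h)⁻¹)⁻¹ * t * (i h * x * (i h)⁻¹) = t * i (S.e 2 0 u) := by
  have : Finite F := P.finF
  obtain ⟨h, hh, e⟩ := S.T_trans hu0 hu
  refine ⟨h, hh, ?_⟩
  have h1 : (i h)⁻¹ * t * i h = t := by rw [mul_assoc, P.ti, inv_mul_cancel_left]
  have h2 : i h * t * (i h)⁻¹ = t := by rw [← P.ti, mul_inv_cancel_right]
  calc (i h * x * (i h)⁻¹)⁻¹ * t * (i h * x * (i h)⁻¹) = i h * (x⁻¹ * ((i h)⁻¹ * t * i h) * x) * (i h)⁻¹ := by group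
    _ = (i h * t * (i h)⁻¹) * (i h * i (S.e 2 0 u0) * (i h)⁻¹) := by rw [h1, hx]; group
    _ = _ := by rw [h2, ← map_inv, ← map_mul, ← map_mul, e]

theorem form_NN {n : G} (hn : n ∈ NN S i t) : ∃ u, n⁻¹ * t * n = t * i (S.e 2 0 u) := by
  obtain ⟨-, ⟨z, ⟨u, rfl⟩, h⟩, -, -⟩ := (mem_NN P).1 (inv_mem hn)
  rw [inv_inv] at h
  exact ⟨u, h⟩

theorem index_eq : ((Subgroup.centralizer {t}).subgroupOf (NN S i t)).index = Nat.card F := by
  have hu : ∀ n : NN S i t, ∃ u, (n : G) * t * (n : G)⁻¹ = t * i (S.e 2 0 u) := by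
    intro n
    obtain ⟨-, ⟨z, ⟨u, rfl⟩, h⟩, -, -⟩ := (mem_NN P).1 n.2
    exact ⟨u, h⟩
  choose f hf using hu
  have key : ∀ a b : NN S i t, a⁻¹ * b ∈ (Subgroup.centralizer {t}).subgroupOf (NN S i t) ↔ f a = f b := by
    intro a b
    rw [Subgroup.mem_subgroupOf, Subgroup.mem_centralizer_singleton_iff]
    constructor
    · intro h
      have h1 : (a : G) * t * (a : G)⁻¹ = (b : G) * t * (b : G)⁻¹ := by
        have h2 : ((a : G)⁻¹ * b) * t = t * ((a : G)⁻¹ * b) := h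
        calc (a : G) * t * (a : G)⁻¹ = a * (t * ((a : G)⁻¹ * b)) * (b : G)⁻¹ := by group
          _ = _ := by rw [← h2]; group
      rw [hf, hf] at h1
      exact (S.injE 2 _ _ _ _ (P.inj (mul_left_cancel h1))).2
    · intro h
      have h1 : (a : G) * t * (a : G)⁻¹ = (b : G) * t * (b : G)⁻¹ := by rw [hf, hf, h]
      show ((a : G)⁻¹ * b) * t = t * ((a : G)⁻¹ * b)
      calc ((a : G)⁻¹ * b) * t = (a : G)⁻¹ * ((b : G) * t * (b : G)⁻¹) * b := by group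
        _ = _ := by rw [← h1]; group
  rw [Subgroup.index]
  refine Nat.card_congr (Equiv.ofBijective (Quotient.lift f (fun a b hab => ?_)) ⟨?_, ?_⟩)
  · exact (key a b).1 (QuotientGroup.leftRel_apply.1 hab)
  · intro x y
    induction x using Quotient.inductionOn with | h a => ?_
    induction y using Quotient.inductionOn with | h b => ?_
    intro hab
    exact Quotient.sound (QuotientGroup.leftRel_apply.2 ((key a b).2 hab))
  · intro u
    obtain ⟨n, hn, hnt⟩ := exists_NN P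
    obtain ⟨u0, hu0⟩ := form_NN P (inv_mem hn)
    rw [inv_inv] at hu0
    have hu00 : u0 ≠ 0 := by
      rintro rfl
      rw [S.e_zero, map_one, mul_one] at hu0
      exact hnt hu0
    by_cases h0 : u = 0
    · refine ⟨Quotient.mk'' 1, ?_⟩
      show f 1 = u
      have h1 := hf 1
      rw [h0]
      have h2 : t * i (S.e 2 0 (f 1)) = t * 1 := by rw [← h1]; simp
      exact (S.e_eq_one (P.inj ((mul_left_cancel h2).trans (map_one i).symm))).2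
    · obtain ⟨h, hh, e⟩ := trans P (x := n⁻¹) (u0 := u0) (u := u) (by rw [inv_inv]; exact hu0) hu00 h0
      have hm : i h * n * (i h)⁻¹ ∈ NN S i t := mul_mem (mul_mem (torus_NN P hh) hn) (inv_mem (torus_NN P hh))
      refine ⟨Quotient.mk'' ⟨_, hm⟩, ?_⟩
      show f ⟨_, hm⟩ = u
      have h1 := hf ⟨_, hm⟩
      have h2 : t * i (S.e 2 0 (f ⟨_, hm⟩)) = t * i (S.e 2 0 u) := by
        rw [← h1, ← e]
        show i h * n * (i h)⁻¹ * t * (i h * n * (i h)⁻¹)⁻¹ = _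
        group
      exact (S.injE 2 _ _ _ _ (P.inj (mul_left_cancel h2))).2

/-- **1.2**: the 2-elements -/
theorem exists_two (u : F) : ∃ n ∈ NN S i t, (∃ k : ℕ, n ^ (2 ^ k) = 1) ∧ n⁻¹ * t * n = t * i (S.e 2 0 u) := by
  have : Finite F := P.finF
  have : Finite G := P.finG
  by_cases hu : u = 0
  · exact ⟨1, one_mem _, ⟨0, by simp⟩, by rw [hu, S.e_zero]; simp⟩
  have h2 : 2 ∣ ((Subgroup.centralizer {t}).subgroupOf (NN S i t)).index := by
    rw [index_eq P]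
    obtain ⟨m, hm, -⟩ := Cfsg.Agent.Octagon.FieldAut171.exists_rln σ S.sq
    rw [hm]
    exact dvd_pow_self 2 (by omega)
  have : Fact (Nat.Prime 2) := ⟨Nat.prime_two⟩
  obtain ⟨R⟩ : Nonempty (Sylow 2 (NN S i t)) := inferInstance
  obtain ⟨x, hxR, hxt⟩ : ∃ x ∈ R, ¬ ((x : G) * t = t * x) := by
    by_contra hcon
    push Not at hcon
    have hle : (R : Subgroup (NN S i t)) ≤ (Subgroup.centralizer {t}).subgroupOf (NN S i t) := by
      intro x hx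
      rw [Subgroup.mem_subgroupOf, Subgroup.mem_centralizer_singleton_iff]
      exact hcon x hx
    exact R.not_dvd_index (h2.trans (Subgroup.index_dvd_of_le hle))
  obtain ⟨k, hk⟩ := R.2 ⟨x, hxR⟩
  have hk' : (x : G) ^ (2 ^ k) = 1 := by
    have h1 := congrArg Subtype.val hk
    have h3 := congrArg Subtype.val h1
    simpa using h3
  obtain ⟨u0, hu0⟩ := form_NN P x.2
  have hu00 : u0 ≠ 0 := by
    rintro rfl
    rw [S.e_zero, map_one, mul_one] at hu0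
    apply hxt
    calc (x : G) * t = x * ((x : G)⁻¹ * t * x) := by rw [hu0]
      _ = _ := by group
  obtain ⟨h, hh, e⟩ := trans P hu0 hu00 hu
  refine ⟨i h * x * (i h)⁻¹, mul_mem (mul_mem (torus_NN P hh) x.2) (inv_mem (torus_NN P hh)), ⟨k, ?_⟩, e⟩
  rw [conj_pow, hk']; group

/-- the normaliser acts on `PL` -/
theorem act_PL (hF : ∃ c : Fˣ, c ≠ 1) {g : G} (hg : g ∈ NN S i t) {x : Y} (hx : x ∈ S.PL) :
    ∃ y ∈ S.PL, g * i x * g⁻¹ = i y := by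
  have : Finite F := P.finF
  have : Finite G := P.finG
  have : Finite Y := Finite.of_injective i P.inj
  obtain ⟨-, ⟨w, hw, e⟩, -, h2⟩ := (mem_NN P).1 hg
  obtain ⟨w1, hw1, e1⟩ := h2 w hw
  -- `g (i x) g⁻¹` centralises `t` and `Z_4`
  have hform : ∀ x ∈ S.PL, ∃ y ∈ S.PL, g * i x * g⁻¹ = i y ∨ g * i x * g⁻¹ = t * i y := by
    intro x hx
    have hZ : ∀ z ∈ S.Zc 2, (g * i x * g⁻¹) * i z = i z * (g * i x * g⁻¹) := by
      intro z hz
      obtain ⟨z', hz', e'⟩ := h2 z hz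
      have h3 : i x * i z' = i z' * i x := by rw [← map_mul, S.comm_PL hx hz', map_mul]
      calc (g * i x * g⁻¹) * i z = g * (i x * (g⁻¹ * i z * g)) * g⁻¹ := by group
        _ = g * ((g⁻¹ * i z * g) * i x) * g⁻¹ := by rw [e', h3]
        _ = _ := by group
    refine cent_form P ?_ hZ
    -- `t = g (t z⁻¹) g⁻¹`
    have e2 : t = g * (t * (i w1)⁻¹) * g⁻¹ := by
      rw [← e1]
      calc t = (g * t * g⁻¹) * (i w)⁻¹ := by rw [e]; group
        _ = _ := by group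
    have h3 : i x * (t * (i w1)⁻¹) = (t * (i w1)⁻¹) * i x := by
      have h4 : i x * (i w1)⁻¹ = (i w1)⁻¹ * i x := by
        rw [← map_inv, ← map_mul, S.comm_PL hx (inv_mem hw1), map_mul]
      calc i x * (t * (i w1)⁻¹) = (i x * t) * (i w1)⁻¹ := by group
        _ = t * (i x * (i w1)⁻¹) := by rw [← P.ti]; group
        _ = _ := by rw [h4]; group
    calc (g * i x * g⁻¹) * t = (g * i x * g⁻¹) * (g * (t * (i w1)⁻¹) * g⁻¹) := by rw [← e2]
      _ = g * (i x * (t * (i w1)⁻¹)) * g⁻¹ := by group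
      _ = (g * (t * (i w1)⁻¹) * g⁻¹) * (g * i x * g⁻¹) := by rw [h3]; group
      _ = _ := by rw [← e2]
  let K : Subgroup Y :=
    { carrier := {x | ∃ y ∈ S.PL, g * i x * g⁻¹ = i y}
      one_mem' := ⟨1, one_mem _, by simp⟩
      mul_mem' := by
        rintro x x' ⟨y, hy, h⟩ ⟨y', hy', h'⟩
        refine ⟨y * y', mul_mem hy hy', ?_⟩
        rw [map_mul, map_mul, ← h, ← h']; group
      inv_mem' := by
        rintro x ⟨y, hy, h⟩
        refine ⟨y⁻¹, inv_mem hy, ?_⟩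
        rw [map_inv, map_inv, ← h]; group }
  have hK : S.PL ≤ K := by
    rw [← Perf.PL_perfect S hF, Subgroup.commutator_le]
    intro x hx y hy
    obtain ⟨x', hx', ex⟩ := hform x hx
    obtain ⟨y', hy', ey⟩ := hform y hy
    refine ⟨x' * y' * x'⁻¹ * y'⁻¹, mul_mem (mul_mem (mul_mem hx' hy') (inv_mem hx')) (inv_mem hy'), ?_⟩
    have e3 : g * i (x * y * x⁻¹ * y⁻¹) * g⁻¹ = (g * i x * g⁻¹) * (g * i y * g⁻¹) * (g * i x * g⁻¹)⁻¹ *
        (g * i y * g⁻¹)⁻¹ := by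
      rw [map_mul, map_mul, map_mul, map_inv, map_inv]; group
    have ht : ∀ z : G, t * (t * z) = z := fun z => by rw [← mul_assoc, P.tt, one_mul]
    have hti := P.ti
    have h1 : ∀ a b : G, (∃ y : Y, b = i y) → (t * a) * b * (t * a)⁻¹ * b⁻¹ = t * (a * b * a⁻¹ * b⁻¹) * t⁻¹ := by
      rintro a _ ⟨y, rfl⟩
      have h5 : (i y)⁻¹ * t = t * (i y)⁻¹ := by rw [← map_inv, ← P.ti]
      calc (t * a) * i y * (t * a)⁻¹ * (i y)⁻¹ = t * (a * i y * a⁻¹) * (t⁻¹ * (i y)⁻¹) := by group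
        _ = t * (a * i y * a⁻¹) * ((i y * t)⁻¹) := by rw [mul_inv_rev]
        _ = t * (a * i y * a⁻¹) * ((t * i y)⁻¹) := by rw [P.ti]
        _ = _ := by group
    have h2 : ∀ a b : G, (∃ y : Y, a = i y) → a * (t * b) * a⁻¹ * (t * b)⁻¹ = t * (a * b * a⁻¹ * b⁻¹) * t⁻¹ := by
      rintro _ b ⟨y, rfl⟩
      calc i y * (t * b) * (i y)⁻¹ * (t * b)⁻¹ = (i y * t) * b * (i y)⁻¹ * b⁻¹ * t⁻¹ := by group
        _ = (t * i y) * b * (i y)⁻¹ * b⁻¹ * t⁻¹ := by rw [P.ti]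
        _ = _ := by group
    show g * i (x * y * x⁻¹ * y⁻¹) * g⁻¹ = _
    have hconj : ∀ z : Y, t * i z * t⁻¹ = i z := t_conj_i P
    have base : i x' * i y' * (i x')⁻¹ * (i y')⁻¹ = i (x' * y' * x'⁻¹ * y'⁻¹) := by
      rw [map_mul, map_mul, map_mul, map_inv, map_inv]
    rw [e3]
    rcases ex with ex | ex <;> rcases ey with ey | ey <;> rw [ex, ey]
    · exact base
    · rw [h2 _ _ ⟨x', rfl⟩, base, hconj]
    · rw [h1 _ _ ⟨y', rfl⟩, base, hconj]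
    · have h6 : t * i x' * (t * i y') * (t * i x')⁻¹ * (t * i y')⁻¹ =
          t * (i x' * (t * i y') * (i x')⁻¹ * (t * i y')⁻¹) * t⁻¹ := by
        have h7 : t⁻¹ * (t * i y')⁻¹ = (t * i y')⁻¹ * t⁻¹ := by
          rw [← mul_inv_rev, ← mul_inv_rev, mul_assoc t, ← P.ti]
        calc t * i x' * (t * i y') * (t * i x')⁻¹ * (t * i y')⁻¹ =
            t * i x' * (t * i y') * (i x')⁻¹ * (t⁻¹ * (t * i y')⁻¹) := by group
          _ = _ := by rw [h7]; group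
      rw [h6, h2 _ _ ⟨x', rfl⟩, base, hconj, hconj]
  exact hK hx

theorem act_U (hF : ∃ c : Fˣ, c ≠ 1) {g : G} (hg : g ∈ NN S i t) {x : Y} (hx : x ∈ J S.XZ 1 8) :
    ∃ y ∈ J S.XZ 1 8, g * i x * g⁻¹ = i y := by
  obtain ⟨y, -, e⟩ := act_PL P hF hg (U_le_PL S hx)
  obtain ⟨h1, -⟩ := (mem_NN P).1 hg
  have h2 : g * i x * g⁻¹ ∈ TT S i t :=
    (Subgroup.mem_normalizer_iff.1 h1 _).1 ((mem_TT P).2 ⟨x, hx, Or.inl rfl⟩)
  obtain ⟨y', hy', h3⟩ := (mem_TT P).1 h2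
  rcases h3 with h3 | h3
  · exact ⟨y', hy', h3⟩
  · exact absurd (h3.symm.trans e) P.t_mul_ne

/-- **Sections 1.1 - 1.3.** -/
theorem exists_NEl (u : F) : ∃ (φ : F → F) (n : G), NEl S.toSys i t 2 φ u n := by
  have : Finite F := P.finF
  have : Finite G := P.finG
  have : Finite Y := Finite.of_injective i P.inj
  have hF : ∃ c : Fˣ, c ≠ 1 := by
    by_contra hcon
    push Not at hcon
    have h1 : Nat.card Fˣ = Nat.card F - 1 := Nat.card_units F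
    have h2 : Nat.card Fˣ = 1 := by
      have : Subsingleton Fˣ := ⟨fun a b => by rw [hcon a, hcon b]⟩
      exact Nat.card_of_subsingleton 1
    have := P.big
    omega
  obtain ⟨n, hn, ⟨k, hk⟩, hnt⟩ := exists_two P u
  -- the action of `n⁻¹`
  have hex : ∀ x ∈ S.PL, ∃ y, y ∈ S.PL ∧ n⁻¹ * i x * n = i y := by
    intro x hx
    obtain ⟨y, hy, e⟩ := act_PL P hF (inv_mem hn) hx
    rw [inv_inv] at e
    exact ⟨y, hy, e⟩
  choose! f hf using hex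
  have hit : ∀ m : ℕ, ∀ x ∈ S.PL, f^[m] x ∈ S.PL ∧ i (f^[m] x) = (n⁻¹) ^ m * i x * n ^ m := by
    intro m
    induction m with
    | zero => intro x hx; exact ⟨hx, by simp⟩
    | succ m ih =>
      intro x hx
      obtain ⟨h1, h2⟩ := ih x hx
      obtain ⟨h3, h4⟩ := hf _ h1
      rw [Function.iterate_succ_apply']
      refine ⟨h3, ?_⟩
      rw [← h4, h2, pow_succ', pow_succ]; group
  have N : NF S f :=
    { mul := fun x hx y hy => by
        apply P.inj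
        rw [← (hf _ (mul_mem hx hy)).2, map_mul, map_mul, ← (hf x hx).2, ← (hf y hy).2]; group
      mem := fun x hx => (hf x hx).1
      memU := fun x hx => by
        obtain ⟨y, hy, e⟩ := act_U P hF (inv_mem hn) hx
        rw [inv_inv, (hf x (U_le_PL S hx)).2] at e
        rw [P.inj e]; exact hy
      ord := ⟨k, fun x hx => by
        apply P.inj
        rw [(hit _ x hx).2, hk, inv_pow, hk]; simp⟩ }
  obtain ⟨w, hw, φ, M⟩ := N.exists_NR hF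
  have hconj : ∀ x ∈ S.PL, ∀ y, w * f x * w⁻¹ = y → (n * (i w)⁻¹)⁻¹ * i x * (n * (i w)⁻¹) = i y := by
    rintro x hx y rfl
    rw [map_mul, map_mul, ← (hf x hx).2, map_inv]; group
  have hfix : ∀ x ∈ S.PL, w * f x * w⁻¹ = x → (n * (i w)⁻¹) * i x = i x * (n * (i w)⁻¹) := by
    intro x hx h
    have h1 := hconj x hx _ h
    calc (n * (i w)⁻¹) * i x = (n * (i w)⁻¹) * ((n * (i w)⁻¹)⁻¹ * i x * (n * (i w)⁻¹)) := by rw [h1]
      _ = _ := by group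
  have PL0 : ∀ q v, S.e 0 q v ∈ S.PL := fun q v =>
    mem_J (k := 0) ((S.mem_XZ_even 0 _).2 ⟨q, v, rfl⟩) (by norm_num) (by norm_num)
  refine ⟨φ, n * (i w)⁻¹, ?_⟩
  exact
    { tau := by
        have h1 := S.comm_PL (U_le_PL S hw) (z := S.e 2 0 u) ⟨u, rfl⟩
        calc (n * (i w)⁻¹)⁻¹ * t * (n * (i w)⁻¹) = i w * (n⁻¹ * t * n) * (i w)⁻¹ := by group
          _ = (i w * t) * i (S.e 2 0 u) * (i w)⁻¹ := by rw [hnt]; group
          _ = t * i (w * S.e 2 0 u * w⁻¹) := by rw [← P.ti, map_mul, map_mul, map_inv]; group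
          _ = _ := by rw [h1, mul_inv_cancel_right]
      z := fun v => hfix _ (PL4 S 0 v) (M.fixE _ (S.q2_3 v))
      o0 := fun s => hfix _ (PL5 S s) (M.fix5 s)
      o1 := fun s => hfix _ (PL7 S s) (M.fix7 s)
      om1 := fun s => hfix _ (PL3 S s) (M.fix3 s)
      om2 := fun s => hfix _ (PL1 S s) (M.fix1 s)
      e1 := fun p w' => hfix _ (PL6 S p w') (M.fix6 p w')
      em1 := fun p w' => hfix _ (PL2 S p w') (M.fix2 p w')
      x0 := fun p w' => hconj _ (PL4 S p w') _ (M.f4 p w')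
      xp := fun q v => hconj _ (PL8 S q v) _ (M.f8 q v)
      xm := fun q v => hconj _ (PL0 q v) _ (M.f0 q v)
      add := M.add
      phi := fun p => by
        have := M.phi p 1
        rw [mul_one] at this
        rw [this, mul_comm] }

end Cfsg.Agent.OddHalf.D7TwF4.Norm

end
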